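import Cfsg.Agent.H372.FxPsuC

/-!
# Fixity 3 and 4: diagonal elements, the prime 3 (rows for helper254)

* `exists_D` : the element `diag(c, .., c, c ^ (-k))`;
* `bad3_psu` : `Bad3` for `PSU_n(q)`, `n ≥ 5` or `n = 4`, `q ≥ 4`.
-/

set_option autoImplicit false
set_option linter.unusedSectionVars false

namespace Cfsg.Agent.H372.FxU

open Matrix Subgroup Cfsg Cfsg.Agent.H254.Fx
open Cfsg.Agent.LieClassical.HermBasic Cfsg.Agent.LieClassical.HermSiegel
open Cfsg.Agent.LieClassical.SUBasic (suDiag coe_suDiag)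
open Cfsg.Agent.ClassicalGeometry.PSUAutBasic (pr pr_surjective pr_eq_one_iff exists_scalar_of_mem_center)
open Cfsg.Agent.Phan (ext ext_injective ext_comm emb emb_injective sh sh_injective extM extM_mulVec extM_mulVec_of_notMem)

variable {F : Type} [Field F] [Fintype F] {q n : ℕ}

/-- elements of `F` of given order -/
theorem exists_unit (hF : Fintype.card F = q ^ 2) {s : ℕ} (hs : s ∣ q ^ 2 - 1) :
    ∃ c : F, c ≠ 0 ∧ orderOf c = s := by
  classical
  obtain ⟨g, hg⟩ := IsCyclic.exists_ofOrder_eq_natCard (α := Fˣ)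
  rw [Nat.card_eq_fintype_card, Fintype.card_units, hF] at hg
  have hq2 := two_le hF
  have h4 : 4 ≤ q ^ 2 := by nlinarith
  obtain ⟨t, ht⟩ := hs
  have ht0 : t ≠ 0 := by
    rintro rfl
    omega
  refine ⟨((g ^ t : Fˣ) : F), Units.ne_zero _, ?_⟩
  rw [orderOf_units, orderOf_pow_of_dvd ht0 (by rw [hg, ht]; exact dvd_mul_left _ _), hg, ht,
    Nat.mul_div_cancel _ (by omega)]

theorem act_ext (hF : Fintype.card F = q ^ 2) {m : ℕ} {e : Fin m → Fin n} (he : Function.Injective e) (a : ↥(SU m F q))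
    (v : Fin n → F) (i : Fin m) : act (ext hF e he a) v (e i) = act a (v ∘ e) i := extM_mulVec he _ v i

theorem act_suDiag {a : Fin n → F} (hd : ∏ i, a i = 1) (ha : ∀ i, a i ^ (q + 1) = 1) (v : Fin n → F) (i : Fin n) :
    act (suDiag q a hd ha) v i = a i * v i := by
  rw [act_def]
  change (Matrix.diagonal a *ᵥ v) i = _
  rw [Matrix.mulVec_diagonal]

/-- **`diag(c, .., c, c ^ (-k))`** -/
theorem exists_D (hF : Fintype.card F = q ^ 2) {k : ℕ} (hk : 2 ≤ k) {c : F} (hc : c ^ (q + 1) = 1) :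
    ∃ z : ↥(SU (k + 1) F q), (∀ a : ↥(SU k F q), emb hF 0 (by omega) a * z = z * emb hF 0 (by omega) a) ∧
      (∀ j : ℕ, z ^ j = 1 ↔ c ^ j = 1) ∧
      (∀ j : ℕ, z ^ j ∈ Subgroup.center ↥(SU (k + 1) F q) ↔ c ^ ((k + 1) * j) = 1) := by
  have hc0 : c ≠ 0 := by
    rintro rfl
    rw [zero_pow (Nat.succ_ne_zero q)] at hc
    exact zero_ne_one hc
  let d : Fin (k + 1) → F := fun i => if (i : ℕ) < k then c else (c⁻¹) ^ k
  have hd1 : ∏ i, d i = 1 := by
    rw [Fin.prod_univ_castSucc]
    have h1 : ∀ i : Fin k, d i.castSucc = c := fun i => if_pos i.2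
    have h2 : d (Fin.last k) = (c⁻¹) ^ k := if_neg (lt_irrefl k)
    simp only [h1, h2, Finset.prod_const, Finset.card_univ, Fintype.card_fin]
    rw [← mul_pow, mul_inv_cancel₀ hc0, one_pow]
  have hdq : ∀ i, d i ^ (q + 1) = 1 := by
    intro i
    simp only [d]
    split_ifs
    · exact hc
    · rw [← pow_mul, mul_comm, pow_mul, inv_pow, hc, inv_one, one_pow]
  have hpow : ∀ j : ℕ, ∀ v i, act ((suDiag q d hd1 hdq) ^ j) v i = d i ^ j * v i := by
    intro j
    induction j with
    | zero => intro v i; rw [pow_zero, pow_zero, act_one, one_mul]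
    | succ j ih => intro v i; rw [pow_succ, act_mul, ih, act_suDiag, pow_succ]; ring
  refine ⟨suDiag q d hd1 hdq, ?_, ?_, ?_⟩
  · intro a
    apply ext_act
    intro v
    funext i
    rw [act_mul, act_mul, act_suDiag]
    by_cases hi : (i : ℕ) < k
    · have h1 : i = sh 0 (by omega : 0 + k ≤ k + 1) ⟨i, hi⟩ := by
        apply Fin.ext
        simp [sh]
      have h2 : (act (suDiag q d hd1 hdq) v) ∘ (sh 0 (by omega : 0 + k ≤ k + 1)) = c • (v ∘ (sh 0 (by omega : 0 + k ≤ k + 1))) := by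
        funext j
        rw [Function.comp_apply, act_suDiag, Pi.smul_apply, smul_eq_mul, Function.comp_apply]
        have h3 : d (sh 0 (by omega : 0 + k ≤ k + 1) j) = c := by
          apply if_pos
          simp only [sh]
          have := j.2
          omega
        rw [h3]
      have h4 : d i = c := if_pos hi
      conv_lhs => rw [h1]
      conv_rhs => rw [h4, h1]
      unfold emb
      rw [act_ext, act_ext, h2, act_smul]
      rfl
    · have h1 : ∀ j : Fin k, i ≠ sh 0 (by omega : 0 + k ≤ k + 1) j := by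
        intro j h
        have := congrArg Fin.val h
        simp only [sh] at this
        have := j.2
        omega
      unfold emb
      rw [ext_mat_apply hF _ h1, ext_mat_apply hF _ h1, act_suDiag]
  · intro j
    constructor
    · intro h
      have h1 := hpow j (Pi.single 0 1) 0
      rw [h, act_one, Pi.single_eq_same, mul_one] at h1
      have h2 : d 0 = c := if_pos (by simp; omega)
      rw [h2] at h1
      exact h1.symm
    · intro h
      apply ext_act
      intro v
      funext i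
      rw [hpow, act_one]
      simp only [d]
      split_ifs
      · rw [h, one_mul]
      · rw [← pow_mul, mul_comm k, pow_mul, inv_pow, h, inv_one, one_pow, one_mul]
  · intro j
    have h2 : d 0 = c := if_pos (by simp; omega)
    have h3 : d (Fin.last k) = (c⁻¹) ^ k := if_neg (lt_irrefl k)
    have key : c ^ j = ((c⁻¹) ^ k) ^ j ↔ c ^ ((k + 1) * j) = 1 := by
      rw [← pow_mul, inv_pow, ← mul_eq_one_iff_eq_inv₀ (pow_ne_zero _ hc0), ← pow_add]
      constructor <;> intro h <;> rw [← h] <;> congr 1 <;> ring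
    constructor
    · intro h
      obtain ⟨b, -, -, hb⟩ := exists_scalar_of_mem_center hF (by omega) h
      have h4 := congrFun (hb (fun _ => 1)) 0
      have h5 := congrFun (hb (fun _ => 1)) (Fin.last k)
      rw [hpow, Pi.smul_apply, smul_eq_mul] at h4 h5
      rw [h2] at h4
      rw [h3] at h5
      rw [← key]
      rw [mul_one, mul_one] at h4 h5
      rw [h4, h5]
    · intro h
      rw [← key] at h
      rw [Subgroup.mem_center_iff]
      intro g
      apply ext_act
      intro v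
      have h6 : ∀ v, act ((suDiag q d hd1 hdq) ^ j) v = c ^ j • v := by
        intro v
        funext i
        rw [hpow, Pi.smul_apply, smul_eq_mul]
        simp only [d]
        split_ifs
        · rfl
        · rw [h]
      rw [act_mul, act_mul, h6, h6, act_smul]

/-! ### the prime 3 -/

theorem three_dvd_two (hF : Fintype.card F = q ^ 2) : 3 ∣ Nat.card ↥(SU 2 F q) := by
  rw [card_two hF, sq_sub hF]
  have h1 : q % 3 = 0 ∨ q % 3 = 1 ∨ q % 3 = 2 := by omega
  rcases h1 with h | h | h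
  · exact Dvd.dvd.mul_right (Nat.dvd_of_mod_eq_zero h) _
  · exact Dvd.dvd.mul_left (Dvd.dvd.mul_right (by omega) _) _
  · exact Dvd.dvd.mul_left (Dvd.dvd.mul_left (by omega) _) _

theorem dvd_psu (hF : Fintype.card F = q ^ 2) (hn : 3 ≤ n) {m N : ℕ} (hm : m < n) (h : N ∣ Nat.card ↥(SU m F q)) :
    N ∣ Nat.card (PSU n F q) :=
  h.trans (Subgroup.card_dvd_of_injective _ (inj_emb hF hn (by omega : 0 + m ≤ n) hm))

theorem dvd_psu' (hF : Fintype.card F = q ^ 2) (hn : 3 ≤ n) {N : ℕ} (hc : Nat.Coprime N (Nat.gcd n (q + 1)))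
    (h : N ∣ Nat.card ↥(SU n F q)) : N ∣ Nat.card (PSU n F q) := by
  rw [← card_psu hF hn] at h
  exact hc.dvd_of_dvd_mul_right h

theorem dvd27_of {a b c : ℕ} (ha : 3 ∣ a) (hb : 3 ∣ b) (hc : 3 ∣ c) : 27 ∣ a * b * c := by
  have := mul_dvd_mul (mul_dvd_mul ha hb) hc
  exact this

/-- `27 ∣ |PSU_n(q)|` unless `3 ∣ q - 1` and `n ≤ 5` -/
theorem dvd27 (hF : Fintype.card F = q ^ 2) (hn : 4 ≤ n) (h : ¬ 27 ∣ Nat.card (PSU n F q)) :
    3 ∣ q - 1 ∧ n ≤ 5 := by
  have hq2 := two_le hF
  by_contra hcon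
  apply h
  have h1 : q % 3 = 0 ∨ q % 3 = 1 ∨ q % 3 = 2 := by omega
  rcases h1 with h1 | h1 | h1
  · refine dvd_psu hF (by omega) (m := 3) (by omega) ?_
    rw [card_three hF]
    have : 3 ^ 3 ∣ q ^ 3 := pow_dvd_pow_of_dvd (Nat.dvd_of_mod_eq_zero h1) 3
    exact Dvd.dvd.mul_right this _
  · have hn6 : 6 ≤ n := by
      by_contra h6
      exact hcon ⟨by omega, by omega⟩
    have h3 : 3 ∣ q ^ 2 - 1 := by
      rw [sq_sub hF]
      exact Dvd.dvd.mul_right (by omega) _
    have h4 : ∀ k, 3 ∣ (q ^ 2) ^ k - 1 := by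
      intro k
      refine h3.trans ?_
      have := Nat.sub_dvd_pow_sub_pow (q ^ 2) 1 k
      rwa [one_pow] at this
    have h5 : 27 ∣ Nat.card ↥(SU 6 F q) := by
      rw [card_six hF]
      have e4 : q ^ 4 - 1 = (q ^ 2) ^ 2 - 1 := by rw [← pow_mul]
      have e6 : q ^ 6 - 1 = (q ^ 2) ^ 3 - 1 := by rw [← pow_mul]
      rw [e4, e6]
      have h6 := dvd27_of h3 (h4 2) (h4 3)
      refine Dvd.dvd.mul_left (h6.trans ?_) _
      exact ⟨(q ^ 3 + 1) * (q ^ 5 + 1), by ring⟩
    refine dvd_psu' hF (by omega) ?_ (h5.trans (card_dvd hF hn6))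
    have h7 : Nat.Coprime 3 (q + 1) := by
      rw [Nat.Prime.coprime_iff_not_dvd Nat.prime_three]
      omega
    have h8 : Nat.Coprime (3 ^ 3) (q + 1) := Nat.Coprime.pow_left 3 h7
    exact Nat.Coprime.coprime_dvd_right (Nat.gcd_dvd_right _ _) h8
  · -- `3 ∣ q + 1`
    have h3 : 3 ∣ q + 1 := by omega
    have h5 : 27 ∣ Nat.card ↥(SU 4 F q) := by
      rw [card_four hF]
      refine Dvd.dvd.mul_left (dvd27_of ?_ ?_ ?_) _
      · rw [sq_sub hF]
        exact Dvd.dvd.mul_left h3 _
      · have := (show Odd 3 by decide).nat_add_dvd_pow_add_pow q 1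
        rw [one_pow] at this
        exact h3.trans this
      · have h6 : q ^ 2 - 1 ∣ q ^ 4 - 1 := by
          have := Nat.sub_dvd_pow_sub_pow (q ^ 2) 1 2
          rwa [one_pow, ← pow_mul] at this
        refine dvd_trans ?_ h6
        rw [sq_sub hF]
        exact Dvd.dvd.mul_left h3 _
    by_cases h4 : n = 4
    · subst h4
      refine dvd_psu' hF (by omega) ?_ h5
      have h8 : Nat.Coprime (3 ^ 3) 4 := by norm_num
      exact Nat.Coprime.coprime_dvd_right (Nat.gcd_dvd_left _ _) h8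
    · exact dvd_psu hF (by omega) (m := 4) (by omega) h5

end Cfsg.Agent.H372.FxU
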