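import Cfsg.Agent.H372.Basic

/-!
# Elements of order 8 and 12 in alternating groups
-/

set_option autoImplicit false

namespace Cfsg.Agent.H372

open Equiv

/-- The embedding of alternating groups induced by an embedding of the sets. -/
noncomputable def altEmb {m n : ℕ} (ι : Fin m ↪ Fin n) : alternatingGroup (Fin m) →* alternatingGroup (Fin n) :=
  ((Perm.viaEmbeddingHom ι).comp (alternatingGroup (Fin m)).subtype).codRestrict (alternatingGroup (Fin n)) (by
    rintro ⟨g, hg⟩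
    rw [Perm.mem_alternatingGroup] at hg ⊢
    rw [MonoidHom.comp_apply, Perm.viaEmbeddingHom_apply, Perm.viaEmbedding]
    simpa using hg)

theorem altEmb_injective {m n : ℕ} (ι : Fin m ↪ Fin n) : Function.Injective (altEmb ι) := by
  intro a b hab
  apply Subtype.ext
  have h := congrArg Subtype.val hab
  exact Perm.viaEmbeddingHom_injective ι h

/-- `(0 1 2 3)(4 5 6)(7 8)` -/
def p12 : Perm (Fin 9) where
  toFun := ![1, 2, 3, 0, 5, 6, 4, 8, 7]
  invFun := ![3, 0, 1, 2, 6, 4, 5, 8, 7]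
  left_inv := by decide
  right_inv := by decide

/-- `(0 1 2 3 4 5 6 7)(8 9)` -/
def p8 : Perm (Fin 10) where
  toFun := ![1, 2, 3, 4, 5, 6, 7, 0, 9, 8]
  invFun := ![7, 0, 1, 2, 3, 4, 5, 6, 9, 8]
  left_inv := by decide
  right_inv := by decide

theorem p12_mem : p12 ∈ alternatingGroup (Fin 9) := by
  rw [Perm.mem_alternatingGroup]; decide +kernel

theorem p8_mem : p8 ∈ alternatingGroup (Fin 10) := by
  rw [Perm.mem_alternatingGroup]; decide +kernel

theorem p12_pow : p12 ^ 12 = 1 ∧ p12 ^ 4 ≠ 1 ∧ p12 ^ 6 ≠ 1 := by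
  refine ⟨?_, ?_, ?_⟩ <;> decide +kernel

theorem p8_pow : p8 ^ 8 = 1 ∧ p8 ^ 4 ≠ 1 := by
  refine ⟨?_, ?_⟩ <;> decide +kernel

theorem orderOf_p12 : orderOf p12 = 12 := by
  obtain ⟨h1, h2, h3⟩ := p12_pow
  apply orderOf_eq_of_pow_and_pow_div_prime (by norm_num) h1
  intro p hp hd
  have hp' : p ∣ 2 ^ 2 * 3 := by simpa using hd
  rcases (Nat.Prime.dvd_mul hp).1 hp' with h | h
  · have := (Nat.prime_dvd_prime_iff_eq hp Nat.prime_two).1 (hp.dvd_of_dvd_pow h)
    subst this; simpa using h3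
  · have := (Nat.prime_dvd_prime_iff_eq hp Nat.prime_three).1 h
    subst this; simpa using h2

theorem exists_orderOf_twelve_alt {n : ℕ} (hn : 9 ≤ n) : ∃ x : alternatingGroup (Fin n), orderOf x = 12 := by
  refine ⟨altEmb (Fin.castLEEmb hn) ⟨p12, p12_mem⟩, ?_⟩
  rw [orderOf_injective _ (altEmb_injective _), Subgroup.orderOf_mk, orderOf_p12]

theorem exists_orderOf_eight_alt {n : ℕ} (hn : 10 ≤ n) : ∃ x : alternatingGroup (Fin n), orderOf x = 8 := by
  refine ⟨altEmb (Fin.castLEEmb hn) ⟨p8, p8_mem⟩, ?_⟩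
  rw [orderOf_injective _ (altEmb_injective _), Subgroup.orderOf_mk]
  exact orderOf_eq_eight p8_pow.2 p8_pow.1

theorem bad_alt {n : ℕ} (hn : 9 ≤ n) : Bad (alternatingGroup (Fin n)) := by
  obtain ⟨x, hx⟩ := exists_orderOf_twelve_alt hn
  exact ⟨x, by rw [hx]; norm_num⟩

end Cfsg.Agent.H372
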