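import Cfsg.Agent.H372.OrthTwo
import Cfsg.Agent.ClassicalGeometry.PSUAutBasic

/-!
# Elements of order eight in unitary groups
-/

set_option autoImplicit false
set_option linter.unusedSimpArgs false
set_option linter.unusedSectionVars false

namespace Cfsg.Agent.H372

open Matrix Subgroup Cfsg
open Cfsg.Agent.LieClassical.HermBasic Cfsg.Agent.LieClassical.HermSiegel
  Cfsg.Agent.LieClassical.SUBasic

variable {F : Type*} [Field F] [Fintype F] {q n : ℕ}

theorem mat_center (hF : Fintype.card F = q ^ 2) (hn : 3 ≤ n) {x : SU n F q} (hx : x ∈ center (SU n F q)) :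
    ∃ c : F, c ^ (q + 1) = 1 ∧ mat x = Matrix.diagonal (fun _ => c) := by
  obtain ⟨c, -, hcq, rfl⟩ := (mem_center_SU_iff hF hn x).1 hx
  exact ⟨c, hcq, rfl⟩

theorem su_not_mem_center_of_diag (hF : Fintype.card F = q ^ 2) (hn : 3 ≤ n) {x : SU n F q} {i j : Fin n}
    (h : mat x i i ≠ mat x j j) : x ∉ center (SU n F q) := by
  intro hx
  obtain ⟨c, -, hc⟩ := mat_center hF hn hx
  exact h (by rw [hc]; simp)

theorem mat_pow (x : SU n F q) (k : ℕ) : mat (x ^ k) = mat x ^ k := by
  induction k with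
  | zero => simp [mat_one]
  | succ k ih => rw [pow_succ, pow_succ, mat_mul, ih]

/-- Constructor from the matrix identity. -/
theorem herm_of_mul (hF : Fintype.card F = q ^ 2) {M : Matrix (Fin n) (Fin n) F}
    (h : Mᵀ * M.map (conj hF) = 1) (u v : Fin n → F) :
    hermForm n F q (M *ᵥ u) (M *ᵥ v) = hermForm n F q u v := by
  have e1 : ∀ u v : Fin n → F, hermForm n F q u v = u ⬝ᵥ (fun i => conj hF (v i)) := fun u v => rfl
  rw [e1, e1]
  have e2 : (fun i => conj hF ((M *ᵥ v) i)) = (M.map (conj hF)) *ᵥ (fun i => conj hF (v i)) := by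
    funext i
    simp only [Matrix.mulVec, dotProduct, map_sum, map_mul, Matrix.map_apply]
  rw [e2, ← Matrix.vecMul_transpose, ← Matrix.dotProduct_mulVec, Matrix.mulVec_mulVec, h, Matrix.one_mulVec]

theorem blkM_transpose (m k : ℕ) (A : Matrix (Fin m) (Fin m) F) : (blkM m k A)ᵀ = blkM m k Aᵀ := by
  have h : (Matrix.fromBlocks A 0 0 (1 : Matrix (Fin k) (Fin k) F))ᵀ = Matrix.fromBlocks Aᵀ 0 0 1 := by
    rw [Matrix.fromBlocks_transpose]
    simp
  rw [blkM, blkM, ← h]
  rfl

theorem blkM_map (m k : ℕ) (A : Matrix (Fin m) (Fin m) F) (σ : F ≃+* F) : (blkM m k A).map σ = blkM m k (A.map σ) := by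
  have h1 : (Matrix.fromBlocks A 0 0 (1 : Matrix (Fin k) (Fin k) F)).map σ = Matrix.fromBlocks (A.map σ) 0 0 1 := by
    rw [Matrix.fromBlocks_map]
    congr 1
    · ext i j; simp
    · ext i j; simp
    · ext i j
      simp only [Matrix.map_apply, Matrix.one_apply]
      split_ifs <;> simp
  rw [blkM, blkM, ← h1]
  rfl

/-- The matrix with eigenvalues `l, m` on isotropic vectors `(1, e), (1, -e)`, `e ê = -1`, and `v` on the third coordinate. -/
def hypM (e e' l m v : F) : Matrix (Fin 3) (Fin 3) F :=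
  !![(l + m) / 2, -(e' * (l - m)) / 2, 0; e * (l - m) / 2, (l + m) / 2, 0; 0, 0, v]

omit [Fintype F] in
theorem hypM_mul (h2 : (2 : F) ≠ 0) {e e' : F} (he : e * e' = -1) (l m v l' m' v' : F) :
    hypM e e' l m v * hypM e e' l' m' v' = hypM e e' (l * l') (m * m') (v * v') := by
  rw [hypM, hypM, hypM, Matrix.mul_fin_three]
  ext i j
  fin_cases i <;> fin_cases j <;> simp <;> field_simp
  · linear_combination -(l - m) * (l' - m') * he
  · ring
  · ring
  · linear_combination -(l - m) * (l' - m') * he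

omit [Fintype F] in
theorem hypM_pow (h2 : (2 : F) ≠ 0) {e e' : F} (he : e * e' = -1) (l m v : F) :
    hypM e e' l m v ^ 4 = hypM e e' (l ^ 4) (m ^ 4) (v ^ 4) := by
  have h : ∀ x : F, x ^ 4 = x * x * (x * x) := fun x => by ring
  rw [h l, h m, h v, ← hypM_mul h2 he, ← hypM_mul h2 he, ← pow_two, ← pow_two, ← pow_mul]

theorem hypM_unit (h2 : (2 : F) ≠ 0) {e e' l l' m m' v v' : F} (he : e * e' = -1) (h1 : m * l' = 1) (h3 : l * m' = 1)
    (hv : v * v' = 1) : (hypM e e' l m v)ᵀ * hypM e' e l' m' v' = 1 := by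
  have ht : (hypM e e' l m v)ᵀ = !![(l + m) / 2, e * (l - m) / 2, 0; -(e' * (l - m)) / 2, (l + m) / 2, 0; 0, 0, v] := by
    rw [hypM]
    ext i j
    fin_cases i <;> fin_cases j <;> rfl
  rw [ht, hypM, Matrix.mul_fin_three, Matrix.one_fin_three]
  ext i j
  fin_cases i <;> fin_cases j <;> simp
  · field_simp
    linear_combination (l - m) * (l' - m') * he + 2 * h1 + 2 * h3
  · field_simp
    linear_combination (-2 * e) * h1 + 2 * e * h3
  · field_simp
    linear_combination (2 * e') * h1 - 2 * e' * h3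
  · field_simp
    linear_combination (l - m) * (l' - m') * he + 2 * h1 + 2 * h3
  · exact hv

theorem hypM_det (h2 : (2 : F) ≠ 0) {e e' l m v : F} (he : e * e' = -1) (hv : l * m * v = 1) :
    (hypM e e' l m v).det = 1 := by
  rw [hypM, Matrix.det_fin_three]
  simp
  field_simp
  linear_combination v * (l - m) ^ 2 * he + 4 * hv

theorem hypM_map (hF : Fintype.card F = q ^ 2) (e e' l m v : F) :
    (hypM e e' l m v).map (conj hF) = hypM (conj hF e) (conj hF e') (conj hF l) (conj hF m) (conj hF v) := by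
  have h2q : conj hF 2 = 2 := map_ofNat _ 2
  rw [hypM, hypM]
  ext i j
  fin_cases i <;> fin_cases j <;> simp [h2q]

/-- **An element of order eight of `SU₃(q)`, `q` odd.** -/
theorem exists_su3_odd (hF : Fintype.card F = q ^ 2) (h2 : (2 : F) ≠ 0) :
    ∃ M : Matrix (Fin 3) (Fin 3) F, M.det = 1 ∧ Mᵀ * M.map (conj hF) = 1 ∧ M ^ 4 = !![-1, 0, 0; 0, -1, 0; 0, 0, 1] := by
  have hqo : Odd q := by
    by_contra h
    rw [Nat.not_odd_iff_even] at h
    obtain ⟨p, hp⟩ := CharP.exists F
    obtain ⟨k, hprime, hcard⟩ := FiniteField.card F p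
    have h3 : 2 ∣ p ^ (k : ℕ) := by
      rw [← hcard, hF]
      exact (even_iff_two_dvd.1 h).trans (dvd_pow_self q (by norm_num))
    have h4 : 2 ∣ p := Nat.prime_two.dvd_of_dvd_pow h3
    have h5 : p = 2 := ((Nat.prime_dvd_prime_iff_eq Nat.prime_two hprime).1 h4).symm
    rw [h5] at hp
    exact h2 (by exact_mod_cast CharP.cast_eq_zero F 2)
  have h8 : 8 ∣ Nat.card Fˣ := by
    rw [card_units_eq hF]
    obtain ⟨k, rfl⟩ := hqo
    obtain ⟨j, hj⟩ := Nat.even_mul_succ_self k
    refine ⟨j, ?_⟩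
    rw [show 2 * k + 1 - 1 = 2 * k by omega]
    have : (2 * k + 1 + 1) * (2 * k) = 4 * (k * (k + 1)) := by ring
    rw [this, hj]
    ring
  obtain ⟨g, hg⟩ := IsCyclic.exists_ofOrder_eq_natCard (α := Fˣ)
  obtain ⟨c, hc⟩ := h8
  have hpos : 0 < Nat.card Fˣ := Nat.card_pos
  have hc0 : c ≠ 0 := by rintro rfl; omega
  have ho : orderOf (g ^ c) = 8 := by
    rw [orderOf_pow_of_dvd hc0 (by rw [hg, hc]; exact dvd_mul_left _ _), hg, hc,
      Nat.mul_div_cancel _ (Nat.pos_of_ne_zero hc0)]
  set l : F := ((g ^ c : Fˣ) : F) with hl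
  have hl0 : l ≠ 0 := Units.ne_zero _
  have hl4 : l ^ 4 = -1 := by
    have h1 : l ^ 4 * l ^ 4 = 1 := by
      rw [← pow_add, hl, ← Units.val_pow_eq_pow_val, show 4 + 4 = orderOf (g ^ c) by rw [ho], pow_orderOf_eq_one,
        Units.val_one]
    rcases mul_self_eq_one_iff.1 h1 with h | h
    · exfalso
      have h3 : (g ^ c) ^ 4 = 1 := Units.ext (by rw [Units.val_pow_eq_pow_val, ← hl, h, Units.val_one])
      have h4 := orderOf_dvd_of_pow_eq_one h3
      rw [ho] at h4
      omega
    · exact h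
  obtain ⟨e, he⟩ := exists_norm_eq hF (c := -1) (by rw [neg_pow_q hF, one_pow])
  set m : F := (l ^ q)⁻¹ with hm
  have hm4 : m ^ 4 = -1 := by
    rw [hm, inv_pow, ← pow_mul, mul_comm, pow_mul, hl4, neg_pow_q hF, one_pow]
    norm_num
  have hlm : m * l ^ q = 1 := inv_mul_cancel₀ (pow_ne_zero _ hl0)
  have hml : l * m ^ q = 1 := by
    rw [hm, inv_pow, pow_q_pow_q hF]
    exact mul_inv_cancel₀ hl0
  have hm0 : m ≠ 0 := left_ne_zero_of_mul_eq_one hlm
  have heq : (e ^ q) ^ q = e := pow_q_pow_q hF e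
  refine ⟨hypM e (e ^ q) l m (l * m)⁻¹, hypM_det h2 he (mul_inv_cancel₀ (mul_ne_zero hl0 hm0)), ?_, ?_⟩
  · rw [hypM_map]
    have hinv : (l * m)⁻¹ * ((l * m)⁻¹) ^ q = 1 := by
      rw [inv_pow, mul_pow, ← mul_inv, show l * m * (l ^ q * m ^ q) = (m * l ^ q) * (l * m ^ q) by ring, hlm, hml]
      simp
    have hc2 : conj hF (e ^ q) = e := heq
    rw [hc2]
    exact hypM_unit h2 he hlm hml hinv
  · rw [hypM_pow h2 he, hl4, hm4, inv_pow, mul_pow, hl4, hm4, hypM]
    ext i j
    fin_cases i <;> fin_cases j <;> simp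
    · field_simp
      ring
    · field_simp
      ring

theorem exists_eight_psu_of (x : SU n F q) (h8 : x ^ 8 = 1) (h4 : x ^ 4 ∉ center (SU n F q)) :
    ∃ y : PSU n F q, orderOf y = 8 :=
  exists_eight_of_hom (MonoidHom.id (SU n F q)) (fun _ _ h => h) h8 h4

/-- **`PSU_n(q)`, `q` odd, `n ≥ 3`, has an element of order eight.** -/
theorem exists_eight_psu_odd (hF : Fintype.card F = q ^ 2) (h2 : (2 : F) ≠ 0) (hn : 3 ≤ n) :
    ∃ y : PSU n F q, orderOf y = 8 := by
  obtain ⟨k, rfl⟩ := Nat.exists_eq_add_of_le hn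
  obtain ⟨M, hdet, hu, h4⟩ := exists_su3_odd hF h2
  have hu' : (blkM 3 k M)ᵀ * (blkM 3 k M).map (conj hF) = 1 := by
    rw [blkM_transpose, blkM_map, ← blkM_mul, hu, blkM_one]
  let x : SU (3 + k) F q := mkSU (blkM 3 k M) (by rw [det_blkM, hdet]) (herm_of_mul hF hu')
  have hxm : mat x = blkM 3 k M := rfl
  have hp : ∀ (A : Matrix (Fin 3) (Fin 3) F) (j : ℕ), blkM 3 k A ^ j = blkM 3 k (A ^ j) := by
    intro A j
    induction j with
    | zero => rw [pow_zero, pow_zero, blkM_one]
    | succ j ih => rw [pow_succ, pow_succ, blkM_mul, ih]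
  refine exists_eight_psu_of x ?_ ?_
  · apply mat_injective
    rw [mat_pow, hxm, hp, pow_eight', h4, mat_one, Matrix.mul_fin_three]
    have : (!![-1 * -1 + 0 * 0 + 0 * 0, -1 * 0 + 0 * -1 + 0 * 0, -1 * 0 + 0 * 0 + 0 * 1;
        0 * -1 + -1 * 0 + 0 * 0, 0 * 0 + -1 * -1 + 0 * 0, 0 * 0 + -1 * 0 + 0 * 1;
        0 * -1 + 0 * 0 + 1 * 0, 0 * 0 + 0 * -1 + 1 * 0, 0 * 0 + 0 * 0 + 1 * 1] : Matrix (Fin 3) (Fin 3) F) = 1 := by
      rw [Matrix.one_fin_three]
      simp
    rw [this, blkM_one]
  · apply su_not_mem_center_of_diag hF (by omega) (i := Fin.castAdd k 0) (j := Fin.castAdd k 2)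
    rw [mat_pow, hxm, hp, h4, blkM_castAdd, blkM_castAdd]
    simp
    intro h
    apply h2
    linear_combination -h

section even

variable (h2 : (2 : F) = 0)

include h2

theorem neg_eq_self (x : F) : -x = x := by linear_combination (-x) * h2

theorem isSiegel_frame (hF : Fintype.card F = q ^ 2) {i j k : Fin n} (hij : i ≠ j) (hik : i ≠ k) (hjk : j ≠ k) {μ : F}
    (hμ : μ + μ ^ q = 1) : IsSiegel q (Pi.single i 1 + Pi.single j 1 : Fin n → F) (Pi.single k 1) μ := by
  refine ⟨?_, ?_, ?_⟩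
  · rw [herm_add_left, herm_single_left, herm_single_left]
    simp [hij, hij.symm]
    rw [one_add_one_eq_two, h2]
  · rw [herm_single_left]
    simp [hik.symm, hjk.symm, zero_pow_q hF]
  · rw [herm_single_left, hμ]
    simp
    rw [one_add_one_eq_two, h2]

theorem q_even (hF : Fintype.card F = q ^ 2) : Even q := by
  have hch : CharP F 2 := CharTwo.of_one_ne_zero_of_two_eq_zero one_ne_zero h2
  obtain ⟨k, hprime, hcard⟩ := FiniteField.card F 2
  have h3 : 2 ∣ q ^ 2 := by
    rw [← hF, hcard]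
    exact dvd_pow_self 2 k.ne_zero
  exact even_iff_two_dvd.2 (Nat.prime_two.dvd_of_dvd_pow h3)

theorem neg_vec (v : Fin n → F) : -v = v := funext fun i => neg_eq_self h2 (v i)

theorem add_self_vec (v : Fin n → F) : v + v = 0 := by
  have h := neg_add_cancel v
  rwa [neg_vec h2] at h

/-- The square of a Siegel element. -/
theorem siegel_sq (hF : Fintype.card F = q ^ 2) {u w : Fin n → F} {μ : F} (h : IsSiegel q u w μ)
    (hw : hermForm n F q w w = 1) (v : Fin n → F) :
    act (siegel hF u w μ h ^ 2) v = v + hermForm n F q v u • u := by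
  rw [pow_two, act_mul, act_siegel, act_siegel]
  simp only [herm_add_left, herm_smul_left, h.iso, h.orth, h.orth' hF, hw, mul_zero, add_zero, mul_one]
  have e1 : ∀ x y z : F, x - (y + z) = x + y + z := fun x y z => by linear_combination (-y - z) * h2
  have e2 : ∀ x y : F, x - y = x + y := fun x y => by linear_combination (-y) * h2
  rw [e1, e2]
  funext t
  simp only [Pi.add_apply, Pi.smul_apply, smul_eq_mul]
  linear_combination (hermForm n F q v u * w t + (μ * hermForm n F q v u + hermForm n F q v w) * u t) * h2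

theorem siegel_four (hF : Fintype.card F = q ^ 2) {u w : Fin n → F} {μ : F} (h : IsSiegel q u w μ)
    (hw : hermForm n F q w w = 1) : siegel hF u w μ h ^ 4 = 1 := by
  apply ext_act
  intro v
  rw [pow_four', act_mul, siegel_sq h2 hF h hw, siegel_sq h2 hF h hw, act_one, herm_add_left, herm_smul_left,
    h.iso, mul_zero, add_zero, add_assoc, add_self_vec h2, add_zero]

end even

/-- **`PSU_n(q)`, `q` even, `n ≥ 4`, is `Bad`** (elements of order `4 r`). -/
theorem bad_psu_even (hF : Fintype.card F = q ^ 2) (h2 : (2 : F) = 0) (hn : 4 ≤ n) : Bad (PSU n F q) := by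
  obtain ⟨k, rfl⟩ := Nat.exists_eq_add_of_le hn
  obtain ⟨b, hb, hb1⟩ := exists_norm_one hF
  obtain ⟨μ, hμ⟩ := exists_trace_eq hF (c := 1) (one_pow q)
  have hb0 : b ≠ 0 := by rintro rfl; rw [zero_pow (by omega)] at hb; exact zero_ne_one hb
  have hbi : ((b ^ 3)⁻¹) ^ (q + 1) = 1 := by rw [inv_pow, ← pow_mul, mul_comm, pow_mul, hb]; simp
  let a : Fin (4 + k) → F := Fin.append ![b, b, b, (b ^ 3)⁻¹] (fun _ => 1)
  have ha : ∀ i, a i ^ (q + 1) = 1 := by
    intro i
    refine Fin.addCases (fun j => ?_) (fun j => ?_) i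
    · simp only [a, Fin.append_left]
      fin_cases j
      · exact hb
      · exact hb
      · exact hb
      · exact hbi
    · simp only [a, Fin.append_right, one_pow]
  have hd : ∏ i, a i = 1 := by
    rw [Fin.prod_univ_add]
    simp only [a, Fin.append_left, Fin.append_right, Finset.prod_const_one, mul_one]
    rw [Fin.prod_univ_four]
    simp
    field_simp
  let d : SU (4 + k) F q := suDiag q a hd ha
  have hdm : mat d = Matrix.diagonal a := rfl
  let i0 : Fin (4 + k) := Fin.castAdd k 0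
  let i1 : Fin (4 + k) := Fin.castAdd k 1
  let i2 : Fin (4 + k) := Fin.castAdd k 2
  let i3 : Fin (4 + k) := Fin.castAdd k 3
  have a0 : a i0 = b := by simp [a, i0]
  have a1 : a i1 = b := by simp [a, i1]
  have a2 : a i2 = b := by simp [a, i2]
  have a3 : a i3 = (b ^ 3)⁻¹ := by simp [a, i3]
  have h01 : i0 ≠ i1 := by simp [i0, i1, Fin.ext_iff]
  have h02 : i0 ≠ i2 := by simp [i0, i2, Fin.ext_iff]
  have h12 : i1 ≠ i2 := by simp [i1, i2, Fin.ext_iff]
  have hS := isSiegel_frame h2 hF h01 h02 h12 hμ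
  set u : Fin (4 + k) → F := Pi.single i0 1 + Pi.single i1 1 with hu
  set w : Fin (4 + k) → F := Pi.single i2 1 with hw
  set x := siegel hF u w μ hS with hx
  have hww : hermForm (4 + k) F q w w = 1 := by
    rw [hw, herm_single_left]
    simp
  have hcu : ∀ t, u t = 0 ∨ a t = b := by
    intro t
    by_cases h0 : t = i0
    · exact Or.inr (h0 ▸ a0)
    by_cases h1 : t = i1
    · exact Or.inr (h1 ▸ a1)
    · left
      simp [hu, h0, h1]
  have hcw : ∀ t, w t = 0 ∨ a t = b := by
    intro t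
    by_cases h0 : t = i2
    · exact Or.inr (h0 ▸ a2)
    · left
      simp [hw, h0]
  have hact : ∀ (v : Fin (4 + k) → F) t, act d v t = a t * v t := by
    intro v t
    rw [act_def, hdm, Matrix.mulVec_diagonal]
  have hherm : ∀ v z : Fin (4 + k) → F, (∀ t, z t = 0 ∨ a t = b) → hermForm (4 + k) F q (act d v) z =
      b * hermForm (4 + k) F q v z := by
    intro v z hz
    rw [herm_def, herm_def, Finset.mul_sum]
    refine Finset.sum_congr rfl fun t _ => ?_
    rw [hact]
    rcases hz t with h | h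
    · rw [h, zero_pow_q hF]; ring
    · rw [h]; ring
  have hvec : ∀ z : Fin (4 + k) → F, (∀ t, z t = 0 ∨ a t = b) → act d z = b • z := by
    intro z hz
    funext t
    rw [hact, Pi.smul_apply, smul_eq_mul]
    rcases hz t with h | h
    · rw [h]; ring
    · rw [h]
  have hcomm : Commute x d := by
    apply ext_act
    intro v
    rw [act_mul, act_mul, act_siegel, act_siegel, hherm v u hcu, hherm v w hcw, act_add, act_add, act_smul, act_smul,
      hvec u hcu, hvec w hcw]
    rw [smul_smul, smul_smul]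
    congr 2
    · congr 1
      ring
    · ring
  have hx4 : x ^ 4 = 1 := siegel_four h2 hF hS hww
  have hx2 : x ^ 2 ∉ center (SU (4 + k) F q) := by
    intro hc
    obtain ⟨c, -, hc⟩ := mat_center hF (by omega) hc
    have h1 : act (x ^ 2) (Pi.single i0 1) i1 = 0 := by
      rw [act_def, hc, Matrix.mulVec_diagonal]
      simp [h01.symm]
    rw [siegel_sq h2 hF hS hww, hu] at h1
    rw [herm_single_left] at h1
    simp [h01, h01.symm] at h1
  have hq := q_even h2 hF
  have hdq : d ^ (q + 1) = 1 := by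
    apply mat_injective
    rw [mat_pow, hdm, Matrix.diagonal_pow, mat_one]
    have : a ^ (q + 1) = 1 := funext fun t => ha t
    rw [this]
    exact Matrix.diagonal_one
  have hdc : d ∉ center (SU (4 + k) F q) := by
    apply su_not_mem_center_of_diag hF (by omega) (i := i0) (j := i3)
    rw [hdm, Matrix.diagonal_apply_eq, Matrix.diagonal_apply_eq, a0, a3]
    intro h
    have h4 : b ^ 4 = 1 := by
      calc b ^ 4 = b * b ^ 3 := pow_succ' b 3
        _ = (b ^ 3)⁻¹ * b ^ 3 := by rw [← h]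
        _ = 1 := inv_mul_cancel₀ (pow_ne_zero _ hb0)
    apply hb1
    have hg : Nat.gcd 4 (q + 1) = 1 := by
      have : Nat.Coprime (2 ^ 2) (q + 1) := Nat.Coprime.pow_left 2 (Nat.coprime_two_left.2 hq.add_one)
      exact this
    have := pow_gcd_eq_one.2 ⟨h4, hb⟩
    rwa [hg, pow_one] at this
  refine bad_of_commute (a := (QuotientGroup.mk x : PSU (4 + k) F q)) (b := (QuotientGroup.mk d : PSU (4 + k) F q))
    ?_ ?_ ?_ ?_
  · apply orderOf_eq_four
    · rw [← QuotientGroup.mk_pow]
      intro h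
      exact hx2 ((QuotientGroup.eq_one_iff _).1 h)
    · rw [← QuotientGroup.mk_pow, hx4, QuotientGroup.mk_one]
  · have hdvd : orderOf (QuotientGroup.mk d : PSU (4 + k) F q) ∣ q + 1 := by
      apply orderOf_dvd_of_pow_eq_one
      rw [← QuotientGroup.mk_pow, hdq, QuotientGroup.mk_one]
    exact Odd.of_dvd_nat hq.add_one hdvd
  · intro h
    exact hdc ((QuotientGroup.eq_one_iff _).1 h)
  · show QuotientGroup.mk x * QuotientGroup.mk d = QuotientGroup.mk d * QuotientGroup.mk x
    rw [← QuotientGroup.mk_mul, hcomm.eq, QuotientGroup.mk_mul]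

/-- **`PSU_n(q)`, `q` even, `n ≥ 5`, has an element of order eight.** -/
theorem exists_eight_psu_even (hF : Fintype.card F = q ^ 2) (h2 : (2 : F) = 0) (hn : 5 ≤ n) :
    ∃ y : PSU n F q, orderOf y = 8 := by
  obtain ⟨c, hc⟩ := exists_trace_eq hF (c := 1) (one_pow q)
  let i0 : Fin n := ⟨0, by omega⟩
  let i1 : Fin n := ⟨1, by omega⟩
  let i2 : Fin n := ⟨2, by omega⟩
  let i3 : Fin n := ⟨3, by omega⟩
  let i4 : Fin n := ⟨4, by omega⟩
  have h01 : i0 ≠ i1 := by simp [i0, i1]
  have h02 : i0 ≠ i2 := by simp [i0, i2]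
  have h03 : i0 ≠ i3 := by simp [i0, i3]
  have h04 : i0 ≠ i4 := by simp [i0, i4]
  have h12 : i1 ≠ i2 := by simp [i1, i2]
  have h13 : i1 ≠ i3 := by simp [i1, i3]
  have h14 : i1 ≠ i4 := by simp [i1, i4]
  have h23 : i2 ≠ i3 := by simp [i2, i3]
  have h24 : i2 ≠ i4 := by simp [i2, i4]
  have h34 : i3 ≠ i4 := by simp [i3, i4]
  have hcc : (c + 1) ^ q = c := by rw [add_pow_q hF, one_pow]; linear_combination hc + (1 - c) * h2
  have hs2 : (1 : F) + 1 = 0 := by rw [one_add_one_eq_two, h2]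
  obtain ⟨u₁, hu₁⟩ : ∃ u : Fin n → F, u = Pi.single i0 1 + Pi.single i1 1 := ⟨_, rfl⟩
  obtain ⟨u₂, hu₂⟩ : ∃ u : Fin n → F, u = Pi.single i2 1 + Pi.single i3 1 := ⟨_, rfl⟩
  obtain ⟨f₁, hf₁⟩ : ∃ u : Fin n → F, u = Pi.single i0 c + Pi.single i1 (c + 1) := ⟨_, rfl⟩
  obtain ⟨f₂, hf₂⟩ : ∃ u : Fin n → F, u = Pi.single i2 c + Pi.single i3 (c + 1) := ⟨_, rfl⟩
  obtain ⟨w, hw⟩ : ∃ u : Fin n → F, u = Pi.single i4 1 := ⟨_, rfl⟩
  have hz : (0 : F) ^ q = 0 := zero_pow_q hF
  have a11 : hermForm n F q u₁ u₁ = 0 := by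
    rw [hu₁, herm_add_left, herm_single_left, herm_single_left]; simp [*, h01.symm]
  have a12 : hermForm n F q u₁ u₂ = 0 := by
    rw [hu₁, hu₂, herm_add_left, herm_single_left, herm_single_left]; simp [*]
  have b11 : hermForm n F q f₁ u₁ = 1 := by
    rw [hu₁, hf₁, herm_add_left, herm_single_left, herm_single_left]; simp [*, h01.symm]
    linear_combination c * h2
  have b12 : hermForm n F q f₁ u₂ = 0 := by
    rw [hf₁, hu₂, herm_add_left, herm_single_left, herm_single_left]; simp [*]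
  have b21 : hermForm n F q f₂ u₁ = 0 := by
    rw [hf₂, hu₁, herm_add_left, herm_single_left, herm_single_left]
    simp [*, h02.symm, h12.symm, h03.symm, h13.symm]
  have a21 : hermForm n F q u₂ u₁ = 0 := herm_eq_zero_swap hF a12
  have a22 : hermForm n F q u₂ u₂ = 0 := by
    rw [hu₂, herm_add_left, herm_single_left, herm_single_left]; simp [*, h23.symm]
  have b22 : hermForm n F q f₂ u₂ = 1 := by
    rw [hf₂, hu₂, herm_add_left, herm_single_left, herm_single_left]; simp [*, h23.symm]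
    linear_combination c * h2
  have c12 : hermForm n F q u₁ f₂ = 0 := herm_eq_zero_swap hF b21
  have c22 : hermForm n F q u₂ f₂ = 1 := by
    rw [herm_swap hF, b22, one_pow]
  have d12 : hermForm n F q f₁ f₂ = 0 := by
    rw [hf₁, hf₂, herm_add_left, herm_single_left, herm_single_left]; simp [*]
  have d22 : hermForm n F q f₂ f₂ = 0 := by
    rw [hf₂, herm_add_left, herm_single_left, herm_single_left]; simp [*, h23.symm]
    linear_combination c * hc + c * h2
  have w1 : hermForm n F q w u₁ = 0 := by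
    rw [hw, hu₁, herm_single_left]; simp [*, h04.symm, h14.symm]
  have w2 : hermForm n F q w u₂ = 0 := by
    rw [hw, hu₂, herm_single_left]; simp [*, h24.symm, h34.symm]
  have wf1 : hermForm n F q w f₁ = 0 := by
    rw [hw, hf₁, herm_single_left]; simp [*, h04.symm, h14.symm]
  have wf2 : hermForm n F q w f₂ = 0 := by
    rw [hw, hf₂, herm_single_left]; simp [*, h24.symm, h34.symm]
  have ww : hermForm n F q w w = 1 := by
    rw [hw, herm_single_left]; simp
  have u1w : hermForm n F q u₁ w = 0 := herm_eq_zero_swap hF w1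
  have u2w : hermForm n F q u₂ w = 0 := herm_eq_zero_swap hF w2
  have f1w : hermForm n F q f₁ w = 0 := herm_eq_zero_swap hF wf1
  have f2w : hermForm n F q f₂ w = 0 := herm_eq_zero_swap hF wf2
  have S1 : IsSiegel q u₁ f₂ (0 : F) := ⟨a11, b21, by rw [hz, d22]; ring⟩
  have S2 : IsSiegel q u₂ w c := ⟨a22, w2, by rw [hc, ww]; exact hs2⟩
  obtain ⟨x, hx⟩ : ∃ x, x = siegel hF u₁ f₂ 0 S1 * siegel hF u₂ w c S2 := ⟨_, rfl⟩
  have hact : ∀ v, act x v = act (siegel hF u₁ f₂ 0 S1) (act (siegel hF u₂ w c S2) v) := by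
    intro v
    rw [hx, act_mul]
  have hsub : ∀ x y : F, x - y = x + y := fun x y => by linear_combination (-y) * h2
  have A1 : ∀ v, act (siegel hF u₁ f₂ 0 S1) v = v + hermForm n F q v u₁ • f₂ + hermForm n F q v f₂ • u₁ := by
    intro v
    rw [act_siegel, hsub, zero_mul, zero_add]
  have A2 : ∀ v, act (siegel hF u₂ w c S2) v = v + hermForm n F q v u₂ • w +
      (c * hermForm n F q v u₂ + hermForm n F q v w) • u₂ := by
    intro v
    rw [act_siegel, hsub]
  have hu0 : u₁ ≠ 0 := by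
    intro h
    have := congrFun h i0
    rw [hu₁] at this
    simp [h01] at this
  clear hu₁ hu₂ hf₁ hf₂ hw
  have r1 : act x u₁ = u₁ := by
    rw [hact, A2, A1]
    simp [herm_add_left, herm_smul_left, herm_zero_left, *]
  have r2 : act x u₂ = u₂ + u₁ := by
    rw [hact, A2, A1]
    simp [herm_add_left, herm_smul_left, herm_zero_left, *]
  have rw' : act x w = w + u₂ + u₁ := by
    rw [hact, A2, A1]
    simp [herm_add_left, herm_smul_left, herm_zero_left, *]
  have r3 : act x f₂ = f₂ + w + c • u₂ + c • u₁ := by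
    rw [hact, A2, A1]
    simp [herm_add_left, herm_smul_left, herm_zero_left, *]
  have r4 : act x f₁ = f₁ + f₂ := by
    rw [hact, A2, A1]
    simp [herm_add_left, herm_smul_left, herm_zero_left, *]
  have hdbl : ∀ v : Fin n → F, v + v = 0 := add_self_vec h2
  have s1 : act (x ^ 2) u₁ = u₁ := by rw [pow_two, act_mul, r1, r1]
  have s2 : act (x ^ 2) u₂ = u₂ := by
    rw [pow_two, act_mul, r2, act_add, r2, r1]
    linear_combination (norm := module) hdbl u₁
  have sw : act (x ^ 2) w = w + u₁ := by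
    rw [pow_two, act_mul, rw', act_add, act_add, rw', r2, r1]
    linear_combination (norm := module) hdbl u₂ + hdbl u₁
  have s3 : act (x ^ 2) f₂ = f₂ + u₂ + (1 + c) • u₁ := by
    rw [pow_two, act_mul, r3, act_add, act_add, act_add, act_smul, act_smul, r3, rw', r2, r1]
    linear_combination (norm := module) hdbl w + c • hdbl u₂ + c • hdbl u₁
  have s4 : act (x ^ 2) f₁ = f₁ + w + c • u₂ + c • u₁ := by
    rw [pow_two, act_mul, r4, act_add, r4, r3]
    linear_combination (norm := module) hdbl f₂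
  have t1 : act (x ^ 4) u₁ = u₁ := by rw [pow_four', act_mul, s1, s1]
  have t4 : act (x ^ 4) f₁ = f₁ + u₁ := by
    rw [pow_four', act_mul, s4, act_add, act_add, act_add, act_smul, act_smul, s4, sw, s2, s1]
    linear_combination (norm := module) hdbl w + c • hdbl u₂ + c • hdbl u₁
  have t8 : act (x ^ 8) f₁ = f₁ := by
    rw [pow_eight', act_mul, t4, act_add, t4, t1]
    linear_combination (norm := module) hdbl u₁
  let S : Subgroup (SU n F q) :=
    { carrier := {g | act g f₁ = f₁}
      mul_mem' := fun {a b} ha hb => by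
        show act (a * b) f₁ = f₁
        rw [act_mul, show act b f₁ = f₁ from hb, show act a f₁ = f₁ from ha]
      one_mem' := act_one _
      inv_mem' := fun {a} ha => by
        show act a⁻¹ f₁ = f₁
        conv_lhs => rw [← show act a f₁ = f₁ from ha]
        rw [act_inv_act] }
  have h8 : 8 ∣ orderOf x := by
    apply eight_dvd_of_subgroup S
    · exact t8
    · intro h
      have h' : act (x ^ 4) f₁ = f₁ := h
      rw [t4] at h'
      exact hu0 (by simpa using h')
  obtain ⟨k, hk⟩ := h8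
  have hpos : 0 < orderOf x := orderOf_pos x
  have hk0 : k ≠ 0 := by rintro rfl; omega
  have ho : orderOf (x ^ k) = 8 := by
    rw [orderOf_pow_of_dvd hk0 (by rw [hk]; exact dvd_mul_left _ _), hk, Nat.mul_div_cancel _ (Nat.pos_of_ne_zero hk0)]
  refine exists_eight_psu_of (x ^ k) (by rw [← ho]; exact pow_orderOf_eq_one _) ?_
  intro hcen
  have hch : CharP F 2 := CharTwo.of_one_ne_zero_of_two_eq_zero one_ne_zero h2
  have : Fact (Nat.Prime 2) := ⟨Nat.prime_two⟩
  have h1 := ClassicalGeometry.PSUAutBasic.eq_one_of_center_of_pow (p := 2) (k := 1) hF (by omega) hcen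
    (by rw [← pow_mul, show 4 * 2 ^ 1 = orderOf (x ^ k) by rw [ho]; norm_num, pow_orderOf_eq_one])
  have h3 := orderOf_dvd_of_pow_eq_one h1
  rw [ho] at h3
  omega

end Cfsg.Agent.H372
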