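import Cfsg.Agent.H372.FxPsuF

/-!
# Fixity 3 and 4: `PSU_4(q)` (rows for helper254)

* `Kill9`, `noTI_of2` : an additional alternative;
* `noTI4_psu4`, `noTI3_psu4` : the rows.
-/

set_option autoImplicit false
set_option linter.unusedSectionVars false
set_option linter.style.haveILetI false

namespace Cfsg.Agent.H372.FxU

open Matrix Subgroup Cfsg Cfsg.Agent.H254.Fx
open Cfsg.Agent.LieClassical.HermBasic Cfsg.Agent.LieClassical.HermSiegel
open Cfsg.Agent.ClassicalGeometry.PSUAutBasic (pr pr_surjective pr_eq_one_iff exists_scalar_of_mem_center)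
open Cfsg.Agent.Phan (ext ext_injective ext_comm emb emb_injective sh sh_injective extM extM_mulVec extM_mulVec_of_notMem)

section Kill9

variable {G : Type*} [Group G] {k : ℕ} {D : Subgroup G}

/-- two commuting elements: `z` of order three commutes with `x`, `u` normalises `⟨x⟩` but does not commute with `x` -/
def Kill9 (r : ℕ) (G : Type*) [Group G] : Prop :=
  ∃ x u z : G, orderOf x = r ∧ u ∈ normalizer (zpowers x : Set G) ∧ z * x = x * z ∧ u * z = z * u ∧
    orderOf z = 3 ∧ u * x ≠ x * u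

theorem perm_three : ∀ a b : Equiv.Perm (Fin 4), a ^ 3 = 1 → a ≠ 1 → a * b = b * a → b = 1 ∨ b = a ∨ b = a⁻¹ := by
  decide

theorem not_kill9 [Finite G] (h : OddTI k D) (h3 : ¬ 3 ∣ Nat.card D) {r : ℕ} (hr : r.Prime)
    (h5 : 5 ≤ r) (hd : r ∣ Nat.card D)
    (hmin : ∀ s : ℕ, s.Prime → 5 ≤ s → s ∣ Nat.card D → r ≤ s) : ¬ Kill9 r G := by
  rintro ⟨x, u, z, hx, hu, hzx, huz, hz, hux⟩
  obtain ⟨E, hE, hcE, hxE⟩ := h.exists_mem hr h5 hd hx
  have hx1 : x ≠ 1 := by
    rintro rfl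
    rw [orderOf_one] at hx
    omega
  rw [← hcE] at h3 hmin
  have hN := hE.normz hxE hx1
  have huN := hN hu
  have hzn : z ∈ normalizer (zpowers x : Set G) := mem_normalizer_of_comm hzx
  have hzN := hN hzn
  obtain ⟨f, hf⟩ := hE.hom
  have hfz1 : f ⟨z, hzN⟩ ≠ 1 := by
    intro h1
    rw [hf] at h1
    have h2 := orderOf_dvd_card_of_mem h1
    rw [hz] at h2
    exact h3 h2
  have hfz3 : f ⟨z, hzN⟩ ^ 3 = 1 := by
    rw [← map_pow, ← map_one f]
    congr 1
    apply Subtype.ext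
    change z ^ 3 = 1
    rw [← hz, pow_orderOf_eq_one]
  have hfc : f ⟨z, hzN⟩ * f ⟨u, huN⟩ = f ⟨u, huN⟩ * f ⟨z, hzN⟩ := by
    rw [← map_mul, ← map_mul]
    congr 1
    exact Subtype.ext huz.symm
  have key : ∀ w : G, w ∈ normalizer (zpowers x : Set G) → w ∈ E → w * x = x * w := fun w hw hwE =>
    hE.commute_of_min h3 hr hmin hx hwE hw
  rcases perm_three _ _ hfz3 hfz1 hfc with h1 | h1 | h1
  · rw [hf] at h1
    exact hux (key u hu h1)
  · have h2 : f (⟨u, huN⟩ * ⟨z, hzN⟩⁻¹) = 1 := by rw [map_mul, map_inv, h1, mul_inv_cancel]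
    rw [hf] at h2
    have h4 : u * z⁻¹ ∈ E := h2
    have h5 := key _ (mul_mem hu (inv_mem hzn)) h4
    apply hux
    have h6 : z⁻¹ * x = x * z⁻¹ := (Commute.inv_left (show Commute z x from hzx)).eq
    calc u * x = u * z⁻¹ * (z * x) := by group
      _ = (u * z⁻¹ * x) * z := by rw [hzx]; group
      _ = x * u := by rw [h5]; group
  · have h2 : f (⟨u, huN⟩ * ⟨z, hzN⟩) = 1 := by rw [map_mul, h1, inv_mul_cancel]
    rw [hf] at h2
    have h4 : u * z ∈ E := h2
    have h5 := key _ (mul_mem hu hzn) h4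
    apply hux
    have h6 : z⁻¹ * x = x * z⁻¹ := (Commute.inv_left (show Commute z x from hzx)).eq
    calc u * x = u * z * (z⁻¹ * x) := by group
      _ = (u * z * x) * z⁻¹ := by rw [h6]; group
      _ = x * u := by rw [h5]; group

/-- **The criterion** with the additional alternative. -/
theorem noTI_of2 [Finite G] (hb : 3 ∣ Nat.card G → Bad3 G)
    (hk : ∀ r : ℕ, r.Prime → 5 ≤ r → r ∣ Nat.card G → Kill k r G ∨ Kill9 r G) : NoTI k G := by
  intro D h
  have h3 : ¬ 3 ∣ Nat.card D := by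
    intro h1
    exact h.not_three_dvd (hb (h1.trans (card_subgroup_dvd_card D))) h1
  have hne : Nat.card D ≠ 1 := by
    intro h1
    exact h.ne (Subgroup.eq_bot_of_card_eq D h1)
  have h5 : ∀ s : ℕ, s.Prime → s ∣ Nat.card D → 5 ≤ s := by
    intro s hs hsd
    by_contra hlt
    have h12 : s = 2 ∨ s = 3 ∨ s = 4 := by have := hs.two_le; omega
    rcases h12 with h12 | h12 | h12
    · have h4 := h.odd
      rw [← Nat.not_even_iff_odd, even_iff_two_dvd] at h4
      exact h4 (h12 ▸ hsd)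
    · exact h3 (h12 ▸ hsd)
    · rw [h12] at hs; revert hs; decide
  have hmin := Nat.minFac_prime hne
  have hle : ∀ s : ℕ, s.Prime → 5 ≤ s → s ∣ Nat.card D → (Nat.card D).minFac ≤ s := fun t ht _ htd =>
    Nat.minFac_le_of_dvd ht.two_le htd
  rcases hk _ hmin (h5 _ hmin (Nat.minFac_dvd _)) ((Nat.minFac_dvd _).trans (card_subgroup_dvd_card D)) with h6 | h6
  · exact h.not_kill h3 hmin (h5 _ hmin (Nat.minFac_dvd _)) (Nat.minFac_dvd _) hle h6
  · exact not_kill9 h h3 hmin (h5 _ hmin (Nat.minFac_dvd _)) (Nat.minFac_dvd _) hle h6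

end Kill9

/-! ### numbers -/

/-- prime divisors `3`, `≥ 5` or a power of two -/
theorem num_cases {m : ℕ} (hm : m ≠ 0) :
    3 ∣ m ∨ (∃ s, s.Prime ∧ 5 ≤ s ∧ s ∣ m) ∨ ∃ a, m = 2 ^ a := by
  by_cases h3 : 3 ∣ m
  · exact Or.inl h3
  by_cases hs : ∃ s, s.Prime ∧ 5 ≤ s ∧ s ∣ m
  · exact Or.inr (Or.inl hs)
  right; right
  refine ⟨_, Nat.eq_prime_pow_of_unique_prime_dvd (p := 2) hm fun {d} hd hdm => ?_⟩
  by_contra h2
  have h5 : ¬ 5 ≤ d := fun h5 => hs ⟨d, hd, h5, hdm⟩
  have h6 : d = 3 ∨ d = 4 := by have := hd.two_le; omega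
  rcases h6 with rfl | rfl
  · exact h3 hdm
  · revert hd; decide

theorem even_range {H G' : Type*} [Group H] [Group G'] [Finite H] (φ : H →* G') (h4 : 4 ∣ Nat.card H)
    (hk : Nat.card φ.ker ≤ 2) : 2 ∣ Nat.card φ.range := by
  have hcard : Nat.card φ.ker * Nat.card φ.range = Nat.card H := by
    rw [← Subgroup.index_ker, Subgroup.card_mul_index]
  have hpos : 0 < Nat.card φ.ker := Nat.card_pos
  have h1 : Nat.card φ.ker = 1 ∨ Nat.card φ.ker = 2 := by omega
  rcases h1 with h1 | h1 <;> rw [h1] at hcard <;> omega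

variable {F : Type} [Field F] [Fintype F] {q n : ℕ}

/-- the image of `SL_2(q^2)` in `PSU_4(q)` has even order -/
theorem even_kap (hF : Fintype.card F = q ^ 2) {κ : SpecialLinearGroup (Fin 2) F →* ↥(SU 4 F q)}
    (hc : ∀ g, κ g ∈ Subgroup.center ↥(SU 4 F q) → ∃ c : F, ∀ i j, g.1 i j = if i = j then c else 0) :
    2 ∣ Nat.card (κ.range.map (pr 4 F q)) := by
  classical
  rw [← MonoidHom.range_comp]
  refine even_range _ ?_ ?_
  · rw [card_sl hF]
    rcases Nat.even_or_odd q with hq | hq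
    · have : 2 ^ 2 ∣ q ^ 2 := pow_dvd_pow_of_dvd hq.two_dvd 2
      exact Dvd.dvd.mul_right this _
    · have h6 : q ^ 2 - 1 ∣ q ^ 4 - 1 := by
        have := Nat.sub_dvd_pow_sub_pow (q ^ 2) 1 2
        rwa [one_pow, ← pow_mul] at this
      exact Dvd.dvd.mul_left ((dvd_trans (by norm_num) (eight_dvd hq)).trans h6) _
  · set φ := (pr 4 F q).comp κ with hφ
    have hker : ∀ g ∈ φ.ker, ∃ c : F, c * c = 1 ∧ ∀ i j, g.1 i j = if i = j then c else 0 := by
      intro g hg
      have h1 : pr 4 F q (κ g) = 1 := hg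
      rw [pr_eq_one_iff] at h1
      obtain ⟨c, hcg⟩ := hc g h1
      refine ⟨c, ?_, hcg⟩
      have hd : (g.1).det = 1 := g.2
      rw [Matrix.det_fin_two, hcg, hcg, hcg, hcg] at hd
      simp at hd
      exact hd
    let f : φ.ker → ↥({1, -1} : Finset F) := fun g => ⟨g.1.1 0 0, by
      obtain ⟨c, hc, g1⟩ := hker g.1 g.2
      rw [g1, if_pos rfl]
      have h3 : (c - 1) * (c + 1) = 0 := by linear_combination hc
      rcases mul_eq_zero.1 h3 with h4 | h4
      · simp [sub_eq_zero.1 h4]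
      · simp [eq_neg_of_add_eq_zero_left h4]⟩
    have hf : Function.Injective f := by
      intro g h hgh
      obtain ⟨c, -, g1⟩ := hker g.1 g.2
      obtain ⟨d, -, h1⟩ := hker h.1 h.2
      have h2 : g.1.1 0 0 = h.1.1 0 0 := congrArg Subtype.val hgh
      rw [g1, h1, if_pos rfl, if_pos rfl] at h2
      apply Subtype.ext
      apply Subtype.ext
      ext i j
      rw [g1, h1, h2]
    refine (Nat.card_le_card_of_injective f hf).trans ?_
    rw [Nat.card_eq_fintype_card, Fintype.card_coe]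
    exact Finset.card_le_two

theorem pow_q_of {c : F} (hq2 : 2 ≤ q) {s : ℕ} (hc : orderOf c = s) (hs : s ∣ q - 1) : c ^ q = c := by
  have hc1 : c ^ (q - 1) = 1 := orderOf_dvd_iff_pow_eq_one.1 (by rwa [hc])
  obtain ⟨v, rfl⟩ : ∃ v, q = v + 1 := ⟨q - 1, by omega⟩
  rw [Nat.add_sub_cancel] at hc1
  rw [pow_succ, hc1, one_mul]

/-- **`r ∣ q ^ 2 + 1`, `PSU_4(q)`, `q ≥ 4`** -/
theorem killAll4_four (hF : Fintype.card F = q ^ 2) (h4 : 4 ≤ q) {r : ℕ} (hr : r.Prime) (h5 : 5 ≤ r)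
    (h : r ∣ q ^ 2 + 1) : KillAll r (PSU 4 F q) := by
  have : Fact r.Prime := ⟨hr⟩
  obtain ⟨κ, hκ, hy⟩ := exists_kap hF
  obtain ⟨g, hg⟩ := exists_prime_orderOf_dvd_card' (G := SpecialLinearGroup (Fin 2) F) r (by
    rw [card_sl hF]
    exact Dvd.dvd.mul_left (dvd_four hF h) _)
  have ha : orderOf (κ g) = r := by rw [orderOf_injective κ hκ, hg]
  obtain ⟨u, j, hj, hu⟩ := conj_four hF hr h5 h ha
  have hrq : ¬ r ∣ q + 1 := by
    intro h1
    have h2 : r ∣ (q + 1) * (q - 1) := Dvd.dvd.mul_right h1 _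
    have h3 : q ^ 2 + 1 = (q + 1) * (q - 1) + 2 := by
      obtain ⟨v, rfl⟩ : ∃ v, q = v + 1 := ⟨q - 1, by omega⟩
      rw [Nat.add_sub_cancel]; ring
    rw [h3] at h
    have h6 := (Nat.dvd_add_right h2).1 h
    have := Nat.le_of_dvd (by norm_num) h6
    omega
  have hx : orderOf (pr 4 F q (κ g)) = r := orderOf_pr hF (by norm_num) hr hrq ha
  have hux : pr 4 F q u * pr 4 F q (κ g) * (pr 4 F q u)⁻¹ = (pr 4 F q (κ g)) ^ j := by
    rw [← map_inv, ← map_mul, ← map_mul, hu, map_pow]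
  have key : 4 ∣ q - 1 ∨ 3 ∣ q - 1 ∨ ∃ s, s.Prime ∧ 5 ≤ s ∧ s ∣ q - 1 := by
    rcases num_cases (m := q - 1) (by omega) with h1 | h1 | ⟨b, hb⟩
    · exact Or.inr (Or.inl h1)
    · exact Or.inr (Or.inr h1)
    · left
      have h2 : 2 ≤ b := by
        by_contra hlt
        have : b = 0 ∨ b = 1 := by omega
        rcases this with rfl | rfl <;> omega
      rw [hb]
      exact pow_dvd_pow 2 h2
  rcases key with h1 | h1 | ⟨s, hs, hs5, h1⟩
  · obtain ⟨c, hc0, hc⟩ := exists_unit hF (s := 4) (by rw [sq_sub hF]; exact Dvd.dvd.mul_right h1 _)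
    obtain ⟨y, hy1, hy2, hy3, -⟩ := hy c (pow_q_of (by omega) hc h1) hc0
    have ho : orderOf (pr 4 F q y) = 2 := by
      have : Fact (Nat.Prime 2) := ⟨Nat.prime_two⟩
      refine orderOf_eq_prime ?_ ?_
      · rw [← map_pow, pr_eq_one_iff, hy3]
        have : 2 * 2 = 4 := by norm_num
        rw [this, ← hc, pow_orderOf_eq_one]
      · intro h2
        rw [pr_eq_one_iff] at h2
        have h3 := orderOf_dvd_of_pow_eq_one ((hy3 1).1 (by rwa [pow_one]))
        rw [hc] at h3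
        omega
    refine killAll_of_bad hx (bad_of_four hr hx hux (by rw [hj]) ho ?_)
    rw [← map_mul, ← map_mul, hy1 g]
  · obtain ⟨c, hc0, hc⟩ := exists_unit hF (s := 3) (by rw [sq_sub hF]; exact Dvd.dvd.mul_right h1 _)
    obtain ⟨y, hy1, hy2, hy3, -⟩ := hy c (pow_q_of (by omega) hc h1) hc0
    have ho : orderOf (pr 4 F q y) = 3 := by
      have : Fact (Nat.Prime 3) := ⟨Nat.prime_three⟩
      refine orderOf_eq_prime ?_ ?_
      · rw [← map_pow, (hy2 3).2 (by rw [← hc, pow_orderOf_eq_one]), map_one]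
      · intro h2
        rw [pr_eq_one_iff] at h2
        have h3 := orderOf_dvd_of_pow_eq_one ((hy3 1).1 (by rwa [pow_one]))
        rw [hc] at h3
        omega
    refine killAll_three hx hux hj ?_ ho
    rw [← map_mul, ← map_mul, hy1 g]
  · obtain ⟨c, hc0, hc⟩ := exists_unit hF (s := s) (by rw [sq_sub hF]; exact Dvd.dvd.mul_right h1 _)
    obtain ⟨y, hy1, hy2, hy3, hy4⟩ := hy c (pow_q_of (by omega) hc h1) hc0
    have ho : orderOf (pr 4 F q y) = s := by
      have : Fact s.Prime := ⟨hs⟩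
      refine orderOf_eq_prime ?_ ?_
      · rw [← map_pow, (hy2 s).2 (by rw [← hc, pow_orderOf_eq_one]), map_one]
      · intro h2
        rw [pr_eq_one_iff] at h2
        have h3 := Nat.le_of_dvd (by norm_num) (orderOf_dvd_of_pow_eq_one ((hy3 1).1 (by rwa [pow_one])))
        rw [hc] at h3
        omega
    refine ⟨_, hx, Or.inr (Or.inr (Or.inr (Or.inr ⟨pr 4 F q y, ?_, ?_, ?_, ?_⟩)))⟩
    · refine mem_normalizer_of_comm ?_
      rw [← map_mul, ← map_mul, hy1 g]
    · intro h2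
      rw [h2, orderOf_one] at ho
      omega
    · rw [ho]
      exact coprime_six_of_prime hs hs5
    · refine bad_of_hom_perfect (pr 4 F q) (x := y) (Y := κ.range) ?_ ?_ ?_
      · rintro _ ⟨m, rfl⟩
        exact hy1 m
      · have hperf : ⁅(⊤ : Subgroup (SpecialLinearGroup (Fin 2) F)), (⊤ : Subgroup (SpecialLinearGroup (Fin 2) F))⁆ = ⊤ := by
          have h2 : IsQuasisimple (SpecialLinearGroup (Fin 2) F) := by
            refine SignalizersComponents.SLQuasisimple.isQuasisimple_two ?_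
            rw [Nat.card_eq_fintype_card, hF]
            nlinarith
          have h3 := Cfsg.Agent.SignalizersComponents.Components.quasisimple_isPerfect h2
          exact h3.1
        rw [MonoidHom.range_eq_map, ← Subgroup.map_commutator, hperf]
      · refine even_kap hF fun m hm => ?_
        exact hy4 m 0 (by rwa [pow_zero, mul_one])

/-- **`r ∣ q ^ 3 + 1`, `PSU_4(q)`, `q ≥ 4`** -/
theorem killAll4_three (hF : Fintype.card F = q ^ 2) (h4 : 4 ≤ q) {r : ℕ} (hr : r.Prime) (h5 : 5 ≤ r)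
    (h : r ∣ q ^ 3 + 1) (hr' : ¬ r ∣ q * (q ^ 2 - 1)) : KillAll r (PSU 4 F q) ∨ Kill9 r (PSU 4 F q) := by
  have : Fact r.Prime := ⟨hr⟩
  obtain ⟨a, ha⟩ := exists_emb (F := F) (q := q) hr (m := 3) (by
    rw [card_three hF]
    exact Dvd.dvd.mul_left (Dvd.dvd.mul_left h _) _)
  have hrq : ¬ r ∣ q := fun h1 => hr' (Dvd.dvd.mul_right h1 _)
  have ha1 : a ≠ 1 := by
    rintro rfl
    rw [orderOf_one] at ha
    omega
  obtain ⟨u, j, hj, hu⟩ := conj_negq hF hr (cast_ne_zero hr hF hrq) (by rw [← ha, pow_orderOf_eq_one]) ha1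
  have hj1 : (j : ZMod r) ≠ 1 := by
    intro h1
    apply hr'
    rw [sq_sub hF]
    refine Dvd.dvd.mul_left (Dvd.dvd.mul_left ?_ _) _
    rw [← ZMod.natCast_eq_zero_iff, Nat.cast_add, Nat.cast_one]
    rw [hj] at h1
    linear_combination -h1
  have hj3 : (j : ZMod r) ^ 3 = 1 := by
    rw [← ZMod.natCast_eq_zero_iff, Nat.cast_add, Nat.cast_pow, Nat.cast_one] at h
    rw [hj]
    linear_combination -h
  have hj4 : (j : ZMod r) ^ 4 ≠ 1 := by
    rw [pow_succ, hj3, one_mul]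
    exact hj1
  have hx : orderOf (pr 4 F q (emb hF 0 (by omega : 0 + 3 ≤ 4) a)) = r := by
    rw [orderOf_emb hF (by omega) (by omega) (by omega), ha]
  have hux : pr 4 F q (emb hF 0 (by omega : 0 + 3 ≤ 4) u) * pr 4 F q (emb hF 0 (by omega : 0 + 3 ≤ 4) a) *
      (pr 4 F q (emb hF 0 (by omega : 0 + 3 ≤ 4) u))⁻¹ = (pr 4 F q (emb hF 0 (by omega : 0 + 3 ≤ 4) a)) ^ j := by
    rw [← map_inv, ← map_inv, ← map_mul, ← map_mul, ← map_mul, ← map_mul, hu, map_pow, map_pow]
  rcases num_cases (m := q + 1) (by omega) with h1 | ⟨s, hs, hs5, h1⟩ | ⟨b, hb⟩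
  · right
    obtain ⟨c, hc0, hc⟩ := exists_unit hF (s := 3) (by rw [sq_sub hF]; exact Dvd.dvd.mul_left h1 _)
    have hc1 : c ^ (q + 1) = 1 := orderOf_dvd_iff_pow_eq_one.1 (by rwa [hc])
    obtain ⟨z, hz, hz1, hz2⟩ := exists_D hF (k := 3) (by norm_num) hc1
    have ho : orderOf (pr 4 F q z) = 3 := by
      have : Fact (Nat.Prime 3) := ⟨Nat.prime_three⟩
      refine orderOf_eq_prime ?_ ?_
      · rw [← map_pow, (hz1 3).2 (by rw [← hc, pow_orderOf_eq_one]), map_one]
      · intro h2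
        rw [pr_eq_one_iff] at h2
        have h3 := orderOf_dvd_of_pow_eq_one ((hz2 1).1 (by rwa [pow_one]))
        rw [hc] at h3
        omega
    refine ⟨_, pr 4 F q (emb hF 0 (by omega) u), pr 4 F q z, hx, mem_normalizer_of_conj hux, ?_, ?_, ho, ?_⟩
    · rw [← map_mul, ← map_mul, hz a]
    · rw [← map_mul, ← map_mul, hz u]
    · intro h2
      have h3 := out_of_conj (k := 1) hx hux (by rwa [pow_one])
      rw [pow_one] at h3
      have h6 := hux
      rw [h2, mul_assoc, mul_inv_cancel, mul_one] at h6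
      have h7 : (pr 4 F q (emb hF 0 (by omega : 0 + 3 ≤ 4) a)) ^ 1 = (pr 4 F q (emb hF 0 (by omega : 0 + 3 ≤ 4) a)) ^ j := by
        rw [pow_one]; exact h6
      rw [pow_eq_pow_iff_modEq, hx] at h7
      have h8 := (ZMod.natCast_eq_natCast_iff _ _ _).2 h7
      apply hj1
      rw [← h8, Nat.cast_one]
  · left
    obtain ⟨c, hc0, hc⟩ := exists_unit hF (s := s) (by rw [sq_sub hF]; exact Dvd.dvd.mul_left h1 _)
    have hc1 : c ^ (q + 1) = 1 := orderOf_dvd_iff_pow_eq_one.1 (by rwa [hc])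
    obtain ⟨z, hz, hz1, hz2⟩ := exists_D hF (k := 3) (by norm_num) hc1
    have ho : orderOf (pr 4 F q z) = s := by
      have : Fact s.Prime := ⟨hs⟩
      refine orderOf_eq_prime ?_ ?_
      · rw [← map_pow, (hz1 s).2 (by rw [← hc, pow_orderOf_eq_one]), map_one]
      · intro h2
        rw [pr_eq_one_iff] at h2
        have h3 := Nat.le_of_dvd (by norm_num) (orderOf_dvd_of_pow_eq_one ((hz2 1).1 (by rwa [pow_one])))
        rw [hc] at h3
        omega
    refine ⟨_, hx, Or.inr (Or.inr (Or.inr (Or.inr ⟨pr 4 F q z, ?_, ?_, ?_, ?_⟩)))⟩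
    · refine mem_normalizer_of_comm ?_
      rw [← map_mul, ← map_mul, hz a]
    · intro h2
      rw [h2, orderOf_one] at ho
      omega
    · rw [ho]
      exact coprime_six_of_prime hs hs5
    · refine bad_comm hF (by norm_num) (sh_injective 0 (by omega : 0 + 3 ≤ 4)) (i₀ := ⟨3, by omega⟩) (fun i hi => ?_)
        (fun b => hz b) (Or.inl (eight_dvd_three hF le_rfl))
      have := congrArg Fin.val hi
      simp only [sh] at this
      omega
  · left
    have h8 : 8 ∣ q + 1 := by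
      have h2 : 3 ≤ b := by
        by_contra hlt
        have : b = 0 ∨ b = 1 ∨ b = 2 := by omega
        rcases this with rfl | rfl | rfl <;> omega
      rw [hb]
      exact pow_dvd_pow 2 h2
    obtain ⟨c, hc0, hc⟩ := exists_unit hF (s := 8) (by rw [sq_sub hF]; exact Dvd.dvd.mul_left h8 _)
    have hc1 : c ^ (q + 1) = 1 := orderOf_dvd_iff_pow_eq_one.1 (by rwa [hc])
    obtain ⟨z, hz, hz1, hz2⟩ := exists_D hF (k := 3) (by norm_num) hc1
    have ho : orderOf (pr 4 F q z) = 2 := by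
      have : Fact (Nat.Prime 2) := ⟨Nat.prime_two⟩
      refine orderOf_eq_prime ?_ ?_
      · rw [← map_pow, pr_eq_one_iff, hz2]
        have : (3 + 1) * 2 = 8 := by norm_num
        rw [this, ← hc, pow_orderOf_eq_one]
      · intro h2
        rw [pr_eq_one_iff] at h2
        have h3 := orderOf_dvd_of_pow_eq_one ((hz2 1).1 (by rwa [pow_one]))
        rw [hc] at h3
        omega
    set X := pr 4 F q (emb hF 0 (by omega : 0 + 3 ≤ 4) a) with hX
    set U := pr 4 F q (emb hF 0 (by omega : 0 + 3 ≤ 4) u) with hU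
    set T := pr 4 F q z with hT
    have hTX : T * X = X * T := by rw [hX, hT, ← map_mul, ← map_mul, hz a]
    have hTU : U * T = T * U := by rw [hU, hT, ← map_mul, ← map_mul, hz u]
    by_cases hO : Out X (U ^ 3)
    · exact ⟨X, hx, Or.inr (Or.inl ⟨U, mem_normalizer_of_conj hux, hO, out_of_conj hx hux hj4⟩)⟩
    · have hUT : (U * T) * X * (U * T)⁻¹ = X ^ j := by
        rw [← hux, _root_.mul_inv_rev]
        calc U * T * X * (T⁻¹ * U⁻¹) = U * (T * X) * T⁻¹ * U⁻¹ := by group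
          _ = U * X * U⁻¹ := by rw [hTX]; group
      refine ⟨X, hx, Or.inr (Or.inl ⟨U * T, mem_normalizer_of_conj hUT, ?_, out_of_conj hx hUT hj4⟩)⟩
      left
      have hodd : ¬ 2 ∣ orderOf (U ^ 3) := fun h2 => hO (Or.inl h2)
      have hT2 : T ^ 2 = 1 := by rw [← ho, pow_orderOf_eq_one]
      have e1 : (U * T) ^ 3 = U ^ 3 * T := by
        rw [(show Commute U T from hTU).mul_pow, pow_succ T 2, hT2, one_mul]
      have hc3 : Commute (U ^ 3) T := (show Commute U T from hTU).pow_left 3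
      have hcop : (orderOf (U ^ 3)).Coprime (orderOf T) := by
        rw [ho]
        exact ((Nat.Prime.coprime_iff_not_dvd Nat.prime_two).2 hodd).symm
      rw [e1, hc3.orderOf_mul_eq_mul_orderOf_of_coprime hcop, ho]
      exact dvd_mul_left _ _

/-- the primes for `PSU_4(q)`, `q ≥ 4` -/
theorem kill4 (hF : Fintype.card F = q ^ 2) (h4 : 4 ≤ q) {r : ℕ} (hr : r.Prime) (h5 : 5 ≤ r)
    (hd : r ∣ Nat.card (PSU 4 F q)) : KillAll r (PSU 4 F q) ∨ Kill9 r (PSU 4 F q) := by
  by_cases h0 : r ∣ q * (q ^ 2 - 1)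
  · exact Or.inl (killAll_block hF (by omega) (k := 2) (m := 2) (by norm_num) (by omega) (by omega) hr
      (by rw [card_two hF]; exact h0) (Or.inr ⟨h4, le_rfl⟩))
  rcases cases_r (q := q) hr (by omega) with h | h | h | ⟨h, h'⟩
  · exact absurd h h0
  · exact killAll4_three hF h4 hr h5 h h0
  · exact Or.inl (killAll4_four hF h4 hr h5 h)
  · exact Or.inl (killAll_large hF (by omega) hr h (fun h1 => h0 (Dvd.dvd.mul_right h1 _)) hd h')

theorem noTI_four (hF : Fintype.card F = q ^ 2) (h4 : 4 ≤ q) (k : ℕ) : NoTI k (PSU 4 F q) := by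
  refine noTI_of2 (fun _ => bad3_psu hF le_rfl (Or.inr h4)) fun r hr h5 hd => ?_
  rcases kill4 hF h4 hr h5 hd with h | h
  · exact Or.inl (h.kill k)
  · exact Or.inr h

/-- `PSU_4(2)` -/
theorem noTI3_two (hF : Fintype.card F = 2 ^ 2) : NoTI 3 (PSU 4 F 2) := by
  refine noTI3_of (fun _ => Or.inl ?_) fun r hr h5 hd => ?_
  · obtain ⟨c, hc0, hc⟩ := exists_unit hF (s := 3) (by norm_num)
    have hc1 : c ^ (2 + 1) = 1 := by
      have : 2 + 1 = 3 := by norm_num
      rw [this, ← hc, pow_orderOf_eq_one]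
    obtain ⟨z, hz, hz1, hz2⟩ := exists_D hF (k := 3) (by norm_num) hc1
    have ho : orderOf (pr 4 F 2 z) = 3 := by
      have : Fact (Nat.Prime 3) := ⟨Nat.prime_three⟩
      refine orderOf_eq_prime ?_ ?_
      · rw [← map_pow, (hz1 3).2 (by rw [← hc, pow_orderOf_eq_one]), map_one]
      · intro h2
        rw [pr_eq_one_iff] at h2
        have h3 := orderOf_dvd_of_pow_eq_one ((hz2 1).1 (by rwa [pow_one]))
        rw [hc] at h3
        omega
    refine bad3_of_card ho ?_ (Or.inl ?_)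
    · refine bad_comm hF (by norm_num) (sh_injective 0 (by omega : 0 + 3 ≤ 4)) (i₀ := ⟨3, by omega⟩) (fun i hi => ?_)
        (fun b => hz b) (Or.inl (eight_dvd_three hF le_rfl))
      have := congrArg Fin.val hi
      simp only [sh] at this
      omega
    · by_contra h27
      have := (dvd27 hF le_rfl h27).1
      omega
  · rcases cases_r (q := 2) hr le_rfl with h | h | h | ⟨h, h'⟩
    · exfalso
      have h6 : r ∣ 2 * 3 := h
      rcases (Nat.Prime.dvd_mul hr).1 h6 with h7 | h7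
      · have := Nat.le_of_dvd (by norm_num) h7
        omega
      · have := Nat.le_of_dvd (by norm_num) h7
        omega
    · exfalso
      have h6 : r ∣ 3 ^ 2 := h
      have h7 := (Nat.prime_dvd_prime_iff_eq hr Nat.prime_three).1 (hr.dvd_of_dvd_pow h6)
      omega
    · obtain ⟨a, ha⟩ := exists_emb (F := F) (q := 2) hr (m := 4) (by
        rw [card_four hF]
        exact Dvd.dvd.mul_left (Dvd.dvd.mul_left (dvd_four hF h) _) _)
      obtain ⟨u, j, hj, hu⟩ := conj_four hF hr h5 h ha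
      have hrq : ¬ r ∣ 2 + 1 := by
        intro h1
        have := Nat.le_of_dvd (by norm_num) h1
        omega
      have hx : orderOf (pr 4 F 2 a) = r := orderOf_pr hF (by norm_num) hr hrq ha
      have hux : pr 4 F 2 u * pr 4 F 2 a * (pr 4 F 2 u)⁻¹ = (pr 4 F 2 a) ^ j := by
        rw [← map_inv, ← map_mul, ← map_mul, hu, map_pow]
      refine Or.inl ⟨_, hx, Or.inr (Or.inr (Or.inr (Or.inr (Or.inl ⟨rfl, ?_⟩))))⟩
      refine dvd_trans ?_ (card_normalizer_dvd hr hx hux)
      rw [hj]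
      exact Dvd.dvd.mul_right (by norm_num) _
    · refine (killAll_large hF (by omega) hr h (fun h1 => ?_) hd h').kill 3
      have := Nat.le_of_dvd (by norm_num) h1
      omega

/-- **The row `PSU_4(q)`, `k = 4`.** -/
theorem noTI4_psu4 {q : ℕ} (K : Type) [Field K] [Fintype K] (hK : Fintype.card K = q ^ 2) (hq : 4 ≤ q) :
    NoTI 4 (Cfsg.PSU 4 K q) := noTI_four hK hq 4

/-- **The row `PSU_4(q)`, `k = 3`.** -/
theorem noTI3_psu4 {q : ℕ} (K : Type) [Field K] [Fintype K] (hK : Fintype.card K = q ^ 2) (hq : 2 ≤ q) (h3 : q ≠ 3) :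
    NoTI 3 (Cfsg.PSU 4 K q) := by
  by_cases h4 : 4 ≤ q
  · exact noTI_four hK h4 3
  · obtain rfl : q = 2 := by omega
    exact noTI3_two hK

end Cfsg.Agent.H372.FxU
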