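import Cfsg.Agent.H372.FxPsuE

/-!
# Fixity 3 and 4: `PSU_n(q)`, `n ≥ 5` (row for helper254)

`no34_psu` : **`No34 (PSU n K q)`, `n ≥ 5`**.
-/

set_option autoImplicit false
set_option linter.unusedSectionVars false

namespace Cfsg.Agent.H372.FxU

open Matrix Subgroup Cfsg Cfsg.Agent.H254.Fx
open Cfsg.Agent.LieClassical.HermBasic Cfsg.Agent.LieClassical.HermSiegel
open Cfsg.Agent.ClassicalGeometry.PSUAutBasic (pr pr_surjective pr_eq_one_iff exists_scalar_of_mem_center)
open Cfsg.Agent.Phan (ext ext_injective ext_comm emb emb_injective sh sh_injective extM extM_mulVec extM_mulVec_of_notMem)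

variable {F : Type} [Field F] [Fintype F] {q n : ℕ}

theorem bad3_psu (hF : Fintype.card F = q ^ 2) (hn : 4 ≤ n) (h : 5 ≤ n ∨ 4 ≤ q) : Bad3 (PSU n F q) := by
  have hq2 := two_le hF
  by_cases h27 : 27 ∣ Nat.card (PSU n F q)
  · obtain ⟨α, hα⟩ := exists_emb Nat.prime_three (three_dvd_two hF)
    refine bad3_of_card (x := pr n F q (emb hF 0 (by omega) α))
      (by rw [orderOf_emb hF (by omega) (by omega) (by omega), hα]) ?_ (Or.inl h27)
    refine bad_block hF (by omega) (by norm_num) (by omega) (m := n - 2) (by omega) α ?_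
    rcases h with h | h
    · exact Or.inl (eight_dvd_three hF (by omega))
    · exact Or.inr ⟨h, by omega⟩
  · obtain ⟨h3, h5⟩ := dvd27 hF hn h27
    exact bad3_explicit hF hn h5 (by omega) h3 h27

theorem dvd_four {r : ℕ} (hF : Fintype.card F = q ^ 2) (h : r ∣ q ^ 2 + 1) : r ∣ q ^ 4 - 1 := by
  have hq2 := two_le hF
  have h1 : q ^ 4 - 1 = (q ^ 2 + 1) * (q ^ 2 - 1) := by
    obtain ⟨w, hw⟩ : ∃ w, q ^ 2 = w + 1 := ⟨q ^ 2 - 1, by have : 1 ≤ q ^ 2 := Nat.one_le_pow _ _ (by omega); omega⟩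
    have h2 : q ^ 4 = (q ^ 2) ^ 2 := by ring
    rw [h2, hw, Nat.add_sub_cancel]
    have : (w + 1) ^ 2 = (w + 1 + 1) * w + 1 := by ring
    omega
  rw [h1]
  exact Dvd.dvd.mul_right h _

/-- data of a prime `r ∣ q ^ 2 + 1` -/
theorem conj_four (hF : Fintype.card F = q ^ 2) {r : ℕ} (hr : r.Prime) (h5 : 5 ≤ r) (h : r ∣ q ^ 2 + 1)
    {a : ↥(SU 4 F q)} (ha : orderOf a = r) :
    ∃ (u : ↥(SU 4 F q)) (j : ℕ), orderOf (j : ZMod r) = 4 ∧ u * a * u⁻¹ = a ^ j := by
  have hrq : ¬ r ∣ q := by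
    intro h1
    have h2 : r ∣ q ^ 2 := dvd_pow h1 (by norm_num)
    have h3 := (Nat.dvd_add_right h2).1 h
    have := Nat.le_of_dvd one_pos h3
    omega
  have ha1 : a ≠ 1 := by
    rintro rfl
    rw [orderOf_one] at ha
    omega
  obtain ⟨u, j, hj, hu⟩ := conj_negq hF hr (cast_ne_zero hr hF hrq) (by rw [← ha, pow_orderOf_eq_one]) ha1
  exact ⟨u, j, by rw [hj]; exact order_four hr h5 h, hu⟩

/-- **`r ∣ q ^ 2 + 1`, `n ≥ 6`** -/
theorem killAll_four_six (hF : Fintype.card F = q ^ 2) (hn : 6 ≤ n) {r : ℕ} (hr : r.Prime) (h5 : 5 ≤ r)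
    (h : r ∣ q ^ 2 + 1) : KillAll r (PSU n F q) := by
  obtain ⟨a, ha⟩ := exists_emb (F := F) (q := q) hr (m := 4) (by
    rw [card_four hF]
    exact Dvd.dvd.mul_left (Dvd.dvd.mul_left (dvd_four hF h) _) _)
  obtain ⟨u, j, hj, hu⟩ := conj_four hF hr h5 h ha
  obtain ⟨t, ht⟩ := exists_emb Nat.prime_two (two_dvd hF (m := n - 4) (by omega))
  refine killAll_of_bad (x := pr n F q (emb hF 0 (by omega) a))
    (by rw [orderOf_emb hF (by omega) (by omega) (by omega), ha]) ?_
  refine bad_of_four (u := pr n F q (emb hF 0 (by omega) u)) (t := pr n F q (emb hF 4 (by omega) t)) hr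
    (by rw [orderOf_emb hF (by omega) (by omega) (by omega), ha]) (j := j) ?_ (by rw [hj])
    (by rw [orderOf_emb hF (by omega) (by omega) (by omega), ht]) ?_
  · rw [← map_inv, ← map_inv, ← map_mul, ← map_mul, ← map_mul, ← map_mul, hu, map_pow, map_pow]
  · rw [← map_mul, ← map_mul, emb_comm hF (by omega) (by omega)]

theorem neg_one_ne {hF : Fintype.card F = q ^ 2} (hq : Odd q) : (-1 : F) ≠ 1 := by
  intro h
  have h2 : (2 : F) = 0 := by linear_combination -h
  have h3 : ((2 : ℕ) : F) = 0 := by exact_mod_cast h2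
  have h4 : (ringChar F) ∣ 2 := (CharP.cast_eq_zero_iff F (ringChar F) 2).1 h3
  have hpr : (ringChar F).Prime := CharP.char_is_prime F (ringChar F)
  have h5 : ringChar F = 2 := (Nat.prime_dvd_prime_iff_eq hpr Nat.prime_two).1 h4
  have h6 : ringChar F ∣ Fintype.card F := by
    rw [← CharP.cast_eq_zero_iff F (ringChar F), Nat.cast_card_eq_zero]
  rw [h5, hF] at h6
  have h7 := Nat.prime_two.dvd_of_dvd_pow h6
  rw [← Nat.not_even_iff_odd, even_iff_two_dvd] at hq
  exact hq h7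

/-- **`r ∣ q ^ 2 + 1`, `n = 5`, `q` odd** -/
theorem killAll_four_odd (hF : Fintype.card F = q ^ 2) (hq : Odd q) {r : ℕ} (hr : r.Prime) (h5 : 5 ≤ r)
    (h : r ∣ q ^ 2 + 1) : KillAll r (PSU 5 F q) := by
  obtain ⟨a, ha⟩ := exists_emb (F := F) (q := q) hr (m := 4) (by
    rw [card_four hF]
    exact Dvd.dvd.mul_left (Dvd.dvd.mul_left (dvd_four hF h) _) _)
  obtain ⟨u, j, hj, hu⟩ := conj_four hF hr h5 h ha
  have hne := neg_one_ne (hF := hF) hq
  obtain ⟨z, hz, hz1, hz2⟩ := exists_D hF (k := 4) (by norm_num) (c := (-1 : F)) (hq.add_one.neg_one_pow)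
  have ho : orderOf (pr 5 F q z) = 2 := by
    have : Fact (Nat.Prime 2) := ⟨Nat.prime_two⟩
    refine orderOf_eq_prime ?_ ?_
    · rw [← map_pow, (hz1 2).2 (by norm_num), map_one]
    · intro h1
      rw [pr_eq_one_iff] at h1
      have h2 := (hz2 1).1 (by rwa [pow_one])
      have h3 : (-1 : F) ^ ((4 + 1) * 1) = -1 := by norm_num
      exact hne (h3.symm.trans h2)
  refine killAll_of_bad (x := pr 5 F q (emb hF 0 (by omega) a))
    (by rw [orderOf_emb hF (by omega) (by omega) (by omega), ha]) ?_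
  refine bad_of_four (u := pr 5 F q (emb hF 0 (by omega) u)) (t := pr 5 F q z) hr
    (by rw [orderOf_emb hF (by omega) (by omega) (by omega), ha]) (j := j) ?_ (by rw [hj]) ho ?_
  · rw [← map_inv, ← map_inv, ← map_mul, ← map_mul, ← map_mul, ← map_mul, hu, map_pow, map_pow]
  · rw [← map_mul, ← map_mul, hz a]

/-- the third alternative of `KillAll` -/
theorem killAll_three {G : Type*} [Group G] [Finite G] {r : ℕ} {x u z : G} (hx : orderOf x = r)
    {j : ℕ} (hu : u * x * u⁻¹ = x ^ j) (hj : orderOf (j : ZMod r) = 4) (hzx : z * x = x * z) (hz : orderOf z = 3) :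
    KillAll r G := by
  refine ⟨x, hx, Or.inr (Or.inr (Or.inl ⟨u, mem_normalizer_of_conj hu, z, mem_normalizer_of_comm hzx, ?_, ?_, hz⟩))⟩
  · exact out_of_conj hx hu (pow_ne_one_of_lt_orderOf (by norm_num) (by rw [hj]; norm_num))
  · exact out_of_conj hx hu (pow_ne_one_of_lt_orderOf (by norm_num) (by rw [hj]; norm_num))

/-- **`r ∣ q ^ 2 + 1`, `n = 5`, `q` even** -/
theorem killAll_four_even (hF : Fintype.card F = q ^ 2) (hq : ¬ 3 ∣ q) {r : ℕ} (hr : r.Prime) (h5 : 5 ≤ r)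
    (h : r ∣ q ^ 2 + 1) : KillAll r (PSU 5 F q) := by
  have : Fact r.Prime := ⟨hr⟩
  have hq2 := two_le hF
  have h3p : Fact (Nat.Prime 3) := ⟨Nat.prime_three⟩
  obtain ⟨κ, hκ, hy⟩ := exists_kap hF
  obtain ⟨g, hg⟩ := exists_prime_orderOf_dvd_card' (G := SpecialLinearGroup (Fin 2) F) r (by
    rw [card_sl hF]
    exact Dvd.dvd.mul_left (dvd_four hF h) _)
  have ha : orderOf (κ g) = r := by rw [orderOf_injective κ hκ, hg]
  obtain ⟨u, j, hj, hu⟩ := conj_four hF hr h5 h ha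
  have h3 : 3 ∣ q - 1 ∨ 3 ∣ q + 1 := by omega
  have hx : orderOf (pr 5 F q (emb hF 0 (by omega) (κ g))) = r := by
    rw [orderOf_emb hF (by omega) (by omega) (by omega), ha]
  have hux : pr 5 F q (emb hF 0 (by omega : 0 + 4 ≤ 5) u) * pr 5 F q (emb hF 0 (by omega) (κ g)) *
      (pr 5 F q (emb hF 0 (by omega) u))⁻¹ = (pr 5 F q (emb hF 0 (by omega) (κ g))) ^ j := by
    rw [← map_inv, ← map_inv, ← map_mul, ← map_mul, ← map_mul, ← map_mul, hu, map_pow, map_pow]
  rcases h3 with h3 | h3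
  · obtain ⟨c, hc0, hc⟩ := exists_unit hF (s := 3) (by rw [sq_sub hF]; exact Dvd.dvd.mul_right h3 _)
    have hc1 : c ^ (q - 1) = 1 := orderOf_dvd_iff_pow_eq_one.1 (by rwa [hc])
    have hcq : c ^ q = c := by
      obtain ⟨v, rfl⟩ : ∃ v, q = v + 1 := ⟨q - 1, by omega⟩
      rw [Nat.add_sub_cancel] at hc1
      rw [pow_succ, hc1, one_mul]
    obtain ⟨y, hy1, hy2, -⟩ := hy c hcq hc0
    have ho : orderOf y = 3 := by
      refine orderOf_eq_prime ((hy2 3).2 (by rw [← hc, pow_orderOf_eq_one])) ?_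
      intro h1
      have h2 := (hy2 1).1 (by rwa [pow_one])
      rw [pow_one] at h2
      rw [h2, orderOf_one] at hc
      omega
    refine killAll_three (z := pr 5 F q (emb hF 0 (by omega) y)) hx hux hj ?_
      (by rw [orderOf_emb hF (by omega) (by omega) (by omega), ho])
    rw [← map_mul, ← map_mul, ← map_mul, ← map_mul, hy1 g]
  · obtain ⟨c, hc0, hc⟩ := exists_unit hF (s := 3) (by rw [sq_sub hF]; exact Dvd.dvd.mul_left h3 _)
    have hc1 : c ^ (q + 1) = 1 := orderOf_dvd_iff_pow_eq_one.1 (by rwa [hc])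
    obtain ⟨z, hz, hz1, hz2⟩ := exists_D hF (k := 4) (by norm_num) hc1
    have ho : orderOf (pr 5 F q z) = 3 := by
      refine orderOf_eq_prime ?_ ?_
      · rw [← map_pow, (hz1 3).2 (by rw [← hc, pow_orderOf_eq_one]), map_one]
      · intro h1
        rw [pr_eq_one_iff] at h1
        have h2 := orderOf_dvd_of_pow_eq_one ((hz2 1).1 (by rwa [pow_one]))
        rw [hc] at h2
        omega
    refine killAll_three (z := pr 5 F q z) hx hux hj ?_ ho
    rw [← map_mul, ← map_mul, hz (κ g)]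

theorem killAll_four (hF : Fintype.card F = q ^ 2) (hn : 5 ≤ n) {r : ℕ} (hr : r.Prime) (h5 : 5 ≤ r)
    (h : r ∣ q ^ 2 + 1) : KillAll r (PSU n F q) := by
  by_cases h6 : 6 ≤ n
  · exact killAll_four_six hF h6 hr h5 h
  obtain rfl : n = 5 := by omega
  rcases Nat.even_or_odd q with hq | hq
  · refine killAll_four_even hF ?_ hr h5 h
    intro h3
    -- `q` is a prime power
    obtain ⟨m, hm, hm'⟩ := FiniteField.card F (ringChar F)
    have hpr : (ringChar F).Prime := CharP.char_is_prime F (ringChar F)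
    rw [hF] at hm'
    have h7 : 2 ∣ ringChar F ^ (m : ℕ) := by rw [← hm']; exact dvd_pow hq.two_dvd (by norm_num)
    have h8 : 3 ∣ ringChar F ^ (m : ℕ) := by rw [← hm']; exact dvd_pow h3 (by norm_num)
    have h9 := (Nat.prime_dvd_prime_iff_eq Nat.prime_two hpr).1 (Nat.prime_two.dvd_of_dvd_pow h7)
    have h10 := (Nat.prime_dvd_prime_iff_eq Nat.prime_three hpr).1 (Nat.prime_three.dvd_of_dvd_pow h8)
    omega
  · exact killAll_four_odd hF hq hr h5 h

/-- **`PSU_n(q)`, `n ≥ 5`** -/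
theorem no34_PSU (hF : Fintype.card F = q ^ 2) (hn : 5 ≤ n) : No34 (PSU n F q) := by
  have hq2 := two_le hF
  refine no34_of (fun _ => bad3_psu hF (by omega) (Or.inl hn)) fun r hr h5 hd => Or.inl ?_
  rcases cases_r (q := q) hr hq2 with h | h | h | ⟨h, h'⟩
  · refine killAll_block hF (by omega) (k := 2) (m := n - 2) (by norm_num) (by omega) (by omega) hr
      (by rw [card_two hF]; exact h) (Or.inl (eight_dvd_three hF (by omega)))
  · refine killAll_block hF (by omega) (k := 3) (m := n - 3) (by norm_num) (by omega) (by omega) hr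
      (by rw [card_three hF]; exact Dvd.dvd.mul_left (Dvd.dvd.mul_left h _) _) ?_
    by_cases h4 : 4 ≤ q
    · exact Or.inr ⟨h4, by omega⟩
    by_cases h3 : q = 3
    · exact Or.inl (eight_dvd_odd hF (by rw [h3]; decide) (by omega))
    · exfalso
      obtain rfl : q = 2 := by omega
      have h6 : r ∣ 3 ^ 2 := h
      have h7 := (Nat.prime_dvd_prime_iff_eq hr Nat.prime_three).1 (hr.dvd_of_dvd_pow h6)
      omega
  · exact killAll_four hF hn hr h5 h
  · by_cases hrq : r ∣ q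
    · refine killAll_block hF (by omega) (k := 2) (m := n - 2) (by norm_num) (by omega) (by omega) hr
        (by rw [card_two hF]; exact Dvd.dvd.mul_right hrq _) (Or.inl (eight_dvd_three hF (by omega)))
    · exact killAll_large hF (by omega) hr h hrq hd h'

/-- **The row `PSU_n(q)`, `n ≥ 5`.** -/
theorem no34_psu {n q : ℕ} (hn : 5 ≤ n) (K : Type) [Field K] [Fintype K] (hK : Fintype.card K = q ^ 2) :
    No34 (Cfsg.PSU n K q) := no34_PSU hK hn

end Cfsg.Agent.H372.FxU
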