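import Cfsg.Agent.H372.Sp
import Cfsg.Agent.LieClassical.OmegaReindex
import Cfsg.Agent.LieClassical.OrthCenter
import Cfsg.Agent.S0248

/-!
# Elements of order eight in orthogonal groups
-/

set_option autoImplicit false

namespace Cfsg.Agent.H372

open Matrix Subgroup Cfsg
open Cfsg.Agent.LieClassical.OmegaReindex

section hom

variable {X Y : Type*} [Group X] [Group Y]

theorem map_mem_commutator (φ : X →* Y) {x : X} (hx : x ∈ commutator X) : φ x ∈ commutator Y := by
  have h := Subgroup.mem_map_of_mem φ hx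
  rw [commutator_def, Subgroup.map_commutator] at h
  exact Subgroup.commutator_mono le_top le_top h

/-- A homomorphism induces one of the commutator subgroups. -/
def comHom (φ : X →* Y) : commutator X →* commutator Y :=
  (φ.comp (commutator X).subtype).codRestrict (commutator Y) fun x => map_mem_commutator φ x.2

theorem comHom_injective {φ : X →* Y} (hφ : Function.Injective φ) : Function.Injective (comHom φ) := by
  intro a b h
  exact Subtype.ext (hφ (congrArg Subtype.val h))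

/-- A homomorphism from a perfect group to the commutator subgroup. -/
def perfHom (φ : X →* Y) (h : commutator X = ⊤) : X →* commutator Y :=
  φ.codRestrict (commutator Y) fun x => map_mem_commutator φ (h ▸ mem_top x)

theorem perfHom_injective {φ : X →* Y} (h : commutator X = ⊤) (hφ : Function.Injective φ) :
    Function.Injective (perfHom φ h) := by
  intro a b hab
  exact hφ (congrArg Subtype.val hab)

theorem coe_perfHom (φ : X →* Y) (h : commutator X = ⊤) (x : X) : (perfHom φ h x : Y) = φ x := rfl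

end hom

section sums

variable {F : Type*} [Field F] {ι κ : Type} [Fintype ι] [DecidableEq ι] [Fintype κ] [DecidableEq κ]

/-- `(A, B) ↦ diag(A, B)` -/
def sumMat : Matrix ι ι F × Matrix κ κ F →* Matrix (ι ⊕ κ) (ι ⊕ κ) F where
  toFun x := Matrix.fromBlocks x.1 0 0 x.2
  map_one' := Matrix.fromBlocks_one
  map_mul' x y := by rw [Matrix.fromBlocks_multiply]; simp

theorem sumMat_injective : Function.Injective (sumMat (F := F) (ι := ι) (κ := κ)) := by
  rintro ⟨a, b⟩ ⟨c, d⟩ h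
  have h1 : Matrix.fromBlocks a 0 0 b = Matrix.fromBlocks c 0 0 d := h
  rw [Matrix.fromBlocks_inj] at h1
  exact Prod.ext h1.1 h1.2.2.2

/-- Block diagonal embedding of general linear groups. -/
def glSum : Matrix.GeneralLinearGroup ι F × Matrix.GeneralLinearGroup κ F →* Matrix.GeneralLinearGroup (ι ⊕ κ) F :=
  (Units.map (sumMat (F := F) (ι := ι) (κ := κ))).comp
    (MulEquiv.prodUnits (M := Matrix ι ι F) (N := Matrix κ κ F)).symm.toMonoidHom

theorem coe_glSum (x : Matrix.GeneralLinearGroup ι F × Matrix.GeneralLinearGroup κ F) :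
    (glSum x : Matrix (ι ⊕ κ) (ι ⊕ κ) F) = Matrix.fromBlocks (x.1 : Matrix ι ι F) 0 0 (x.2 : Matrix κ κ F) := rfl

theorem glSum_injective : Function.Injective (glSum (F := F) (ι := ι) (κ := κ)) := by
  rintro ⟨a, b⟩ ⟨c, d⟩ h
  have h1 := congrArg (fun x : Matrix.GeneralLinearGroup (ι ⊕ κ) F => (x : Matrix (ι ⊕ κ) (ι ⊕ κ) F)) h
  simp only [coe_glSum] at h1
  rw [Matrix.fromBlocks_inj] at h1
  exact Prod.ext (Units.ext h1.1) (Units.ext h1.2.2.2)

/-- Orthogonal sum of two functions. -/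
def sumQ (Q₁ : (ι → F) → F) (Q₂ : (κ → F) → F) : (ι ⊕ κ → F) → F := fun v => Q₁ (v ∘ Sum.inl) + Q₂ (v ∘ Sum.inr)

theorem glSum_mem {Q₁ : (ι → F) → F} {Q₂ : (κ → F) → F} {x : Matrix.GeneralLinearGroup ι F × Matrix.GeneralLinearGroup κ F}
    (h1 : x.1 ∈ isometryGroup F Q₁) (h2 : x.2 ∈ isometryGroup F Q₂) : glSum x ∈ isometryGroup F (sumQ Q₁ Q₂) := by
  rw [mem_isometryGroup] at h1 h2 ⊢
  intro v
  rw [coe_glSum, Matrix.fromBlocks_mulVec]
  simp only [sumQ, Matrix.zero_mulVec, add_zero, zero_add]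
  have e1 : (Sum.elim ((x.1 : Matrix ι ι F) *ᵥ (v ∘ Sum.inl)) ((x.2 : Matrix κ κ F) *ᵥ (v ∘ Sum.inr)) ∘ Sum.inl) =
      (x.1 : Matrix ι ι F) *ᵥ (v ∘ Sum.inl) := rfl
  have e2 : (Sum.elim ((x.1 : Matrix ι ι F) *ᵥ (v ∘ Sum.inl)) ((x.2 : Matrix κ κ F) *ᵥ (v ∘ Sum.inr)) ∘ Sum.inr) =
      (x.2 : Matrix κ κ F) *ᵥ (v ∘ Sum.inr) := rfl
  rw [e1, e2, h1, h2]

/-- The isometries of an orthogonal sum. -/
def isoSum (Q₁ : (ι → F) → F) (Q₂ : (κ → F) → F) :
    isometryGroup F Q₁ × isometryGroup F Q₂ →* isometryGroup F (sumQ Q₁ Q₂) :=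
  (glSum.comp ((isometryGroup F Q₁).subtype.prodMap (isometryGroup F Q₂).subtype)).codRestrict
    (isometryGroup F (sumQ Q₁ Q₂)) fun x => glSum_mem x.1.2 x.2.2

theorem isoSum_injective (Q₁ : (ι → F) → F) (Q₂ : (κ → F) → F) : Function.Injective (isoSum Q₁ Q₂) := by
  rintro ⟨a, b⟩ ⟨c, d⟩ h
  have h1 := glSum_injective (congrArg Subtype.val h)
  exact Prod.ext (Subtype.ext (congrArg Prod.fst h1)) (Subtype.ext (congrArg Prod.snd h1))

/-- first factor -/
def isoInl (Q₁ : (ι → F) → F) (Q₂ : (κ → F) → F) : isometryGroup F Q₁ →* isometryGroup F (sumQ Q₁ Q₂) :=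
  (isoSum Q₁ Q₂).comp (MonoidHom.inl _ _)

/-- second factor -/
def isoInr (Q₁ : (ι → F) → F) (Q₂ : (κ → F) → F) : isometryGroup F Q₂ →* isometryGroup F (sumQ Q₁ Q₂) :=
  (isoSum Q₁ Q₂).comp (MonoidHom.inr _ _)

theorem isoInl_injective (Q₁ : (ι → F) → F) (Q₂ : (κ → F) → F) : Function.Injective (isoInl Q₁ Q₂) := by
  intro a b h
  exact congrArg Prod.fst (isoSum_injective Q₁ Q₂ (a₁ := (a, 1)) (a₂ := (b, 1)) h)

theorem isoInr_injective (Q₁ : (ι → F) → F) (Q₂ : (κ → F) → F) : Function.Injective (isoInr Q₁ Q₂) := by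
  intro a b h
  exact congrArg Prod.snd (isoSum_injective Q₁ Q₂ (a₁ := (1, a)) (a₂ := (1, b)) h)

end sums

section levi

variable {F : Type*} [Field F]

/-- `A ↦ diag(A, A⁻ᵀ)` -/
def leviGL (m : ℕ) : Matrix.GeneralLinearGroup (Fin m) F →* Matrix.GeneralLinearGroup (Fin m ⊕ Fin m) F where
  toFun A := ⟨Matrix.fromBlocks (A : Matrix (Fin m) (Fin m) F) 0 0
      ((A⁻¹ : Matrix.GeneralLinearGroup (Fin m) F) : Matrix (Fin m) (Fin m) F)ᵀ,
    Matrix.fromBlocks ((A⁻¹ : Matrix.GeneralLinearGroup (Fin m) F) : Matrix (Fin m) (Fin m) F) 0 0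
      (A : Matrix (Fin m) (Fin m) F)ᵀ, by
        rw [Matrix.fromBlocks_multiply, ← Matrix.transpose_mul, ← Units.val_mul, mul_inv_cancel]
        simp, by
        rw [Matrix.fromBlocks_multiply, ← Matrix.transpose_mul, ← Units.val_mul, inv_mul_cancel]
        simp⟩
  map_one' := by
    apply Units.ext
    simp
  map_mul' A B := by
    apply Units.ext
    show Matrix.fromBlocks ((A * B : Matrix.GeneralLinearGroup (Fin m) F) : Matrix (Fin m) (Fin m) F) 0 0
      (((A * B)⁻¹ : Matrix.GeneralLinearGroup (Fin m) F) : Matrix (Fin m) (Fin m) F)ᵀ =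
      Matrix.fromBlocks (A : Matrix (Fin m) (Fin m) F) 0 0
        ((A⁻¹ : Matrix.GeneralLinearGroup (Fin m) F) : Matrix (Fin m) (Fin m) F)ᵀ *
      Matrix.fromBlocks (B : Matrix (Fin m) (Fin m) F) 0 0
        ((B⁻¹ : Matrix.GeneralLinearGroup (Fin m) F) : Matrix (Fin m) (Fin m) F)ᵀ
    rw [Matrix.fromBlocks_multiply, _root_.mul_inv_rev, Units.val_mul, Units.val_mul, Matrix.transpose_mul]
    simp only [Matrix.mul_zero, Matrix.zero_mul, add_zero, zero_add]

theorem coe_leviGL (m : ℕ) (A : Matrix.GeneralLinearGroup (Fin m) F) :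
    (leviGL m A : Matrix (Fin m ⊕ Fin m) (Fin m ⊕ Fin m) F) = Matrix.fromBlocks (A : Matrix (Fin m) (Fin m) F) 0 0
      ((A⁻¹ : Matrix.GeneralLinearGroup (Fin m) F) : Matrix (Fin m) (Fin m) F)ᵀ := rfl

theorem leviGL_injective (m : ℕ) : Function.Injective (leviGL (F := F) m) := by
  intro A B h
  have h1 := congrArg (fun x : Matrix.GeneralLinearGroup (Fin m ⊕ Fin m) F =>
    (x : Matrix (Fin m ⊕ Fin m) (Fin m ⊕ Fin m) F)) h
  simp only [coe_leviGL] at h1
  exact Units.ext (Matrix.fromBlocks_inj.1 h1).1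

theorem quadFormPlus_eq_dot (m : ℕ) (v : Fin m ⊕ Fin m → F) :
    quadFormPlus m F v = (v ∘ Sum.inl) ⬝ᵥ (v ∘ Sum.inr) := rfl

theorem leviGL_mem (m : ℕ) (A : Matrix.GeneralLinearGroup (Fin m) F) :
    leviGL m A ∈ isometryGroup F (quadFormPlus m F) := by
  rw [mem_isometryGroup]
  intro v
  rw [coe_leviGL, Matrix.fromBlocks_mulVec, quadFormPlus_eq_dot, quadFormPlus_eq_dot]
  simp only [Matrix.zero_mulVec, add_zero, zero_add]
  have e1 : ∀ a b : Fin m → F, (Sum.elim a b ∘ Sum.inl) = a := fun a b => rfl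
  have e2 : ∀ a b : Fin m → F, (Sum.elim a b ∘ Sum.inr) = b := fun a b => rfl
  rw [e1, e2, Matrix.mulVec_transpose, dotProduct_comm, ← Matrix.dotProduct_mulVec,
    Matrix.mulVec_mulVec, ← Units.val_mul, inv_mul_cancel, Units.val_one, Matrix.one_mulVec, dotProduct_comm]

/-- The Levi factor `SL_m` in the isometry group. -/
def leviIso (m : ℕ) : Matrix.SpecialLinearGroup (Fin m) F →* isometryGroup F (quadFormPlus m F) :=
  ((leviGL m).comp Matrix.SpecialLinearGroup.toGL).codRestrict _ fun _ => leviGL_mem m _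

theorem leviIso_injective (m : ℕ) : Function.Injective (leviIso (F := F) m) := by
  intro A B h
  exact Matrix.SpecialLinearGroup.toGL_injective (leviGL_injective m (congrArg Subtype.val h))

theorem sl_perfect {m : ℕ} (hm : 3 ≤ m) : commutator (Matrix.SpecialLinearGroup (Fin m) F) = ⊤ :=
  Cfsg.Agent.S0248.result m hm

/-- An element of order eight modulo scalars in `SL_m`, `m ≥ 3`, odd characteristic. -/
theorem exists_eight_sl_odd [Finite F] (h2 : (2 : F) ≠ 0) {m : ℕ} (hm : 3 ≤ m) :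
    ∃ x : Matrix.SpecialLinearGroup (Fin m) F, x ^ 8 = 1 ∧ x ^ 4 ∉ center (Matrix.SpecialLinearGroup (Fin m) F) := by
  obtain ⟨k, rfl⟩ := Nat.exists_eq_add_of_le hm
  obtain ⟨x, h8, h4⟩ := exists_eight_sl3 (F := F) h2
  refine ⟨blkSL 3 k x, by rw [← map_pow, h8, map_one], ?_⟩
  rw [← map_pow]
  exact blkSL_not_mem_center h4

/-- An element of order eight modulo scalars in `SL_m`, `m ≥ 5`, characteristic two. -/
theorem exists_eight_sl_even (h2 : (2 : F) = 0) {m : ℕ} (hm : 5 ≤ m) :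
    ∃ x : Matrix.SpecialLinearGroup (Fin m) F, x ^ 8 = 1 ∧ x ^ 4 ∉ center (Matrix.SpecialLinearGroup (Fin m) F) := by
  obtain ⟨k, rfl⟩ := Nat.exists_eq_add_of_le hm
  obtain ⟨x, h8, h4⟩ := exists_eight_sl5 (F := F) h2
  refine ⟨blkSL 5 k x, by rw [← map_pow, h8, map_one], ?_⟩
  rw [← map_pow]
  exact blkSL_not_mem_center h4

/-- Embedding of a perfect group in `O(Q)` with an element of order eight modulo the centre. -/
theorem exists_eight_of_iso {ι : Type} [Fintype ι] [DecidableEq ι] {Q : (ι → F) → F} {X : Type*} [Group X]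
    (φ : X →* isometryGroup F Q) (hφ : Function.Injective φ) (hp : commutator X = ⊤)
    (h : ∃ x : X, x ^ 8 = 1 ∧ x ^ 4 ∉ center X) : ∃ y : POmega F Q, orderOf y = 8 := by
  obtain ⟨x, h8, h4⟩ := h
  exact exists_eight_of_hom (perfHom φ hp) (perfHom_injective hp hφ) h8 h4

theorem quadFormOdd_eq (m : ℕ) : quadFormOdd m F = sumQ (fun v : Unit → F => v () ^ 2) (quadFormPlus m F) := rfl

theorem quadFormMinus_eq (m : ℕ) (a b : F) : quadFormMinus m F a b =
    sumQ (quadFormPlus m F) (fun z : Fin 2 → F => z 0 ^ 2 + a * z 0 * z 1 + b * z 1 ^ 2) := rfl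

/-- **`PΩ_{2m+1}(q)`, `q` odd, `m ≥ 3`, has an element of order eight.** -/
theorem exists_eight_omegaOdd [Finite F] (h2 : (2 : F) ≠ 0) {m : ℕ} (hm : 3 ≤ m) :
    ∃ x : POmega F (quadFormOdd m F), orderOf x = 8 := by
  rw [quadFormOdd_eq]
  exact exists_eight_of_iso ((isoInr _ _).comp (leviIso m)) ((isoInr_injective _ _).comp (leviIso_injective m))
    (sl_perfect hm) (exists_eight_sl_odd h2 hm)

/-- **`PΩ⁺_{2m}(q)`, `q` odd, `m ≥ 3`, has an element of order eight.** -/
theorem exists_eight_omegaPlus_odd [Finite F] (h2 : (2 : F) ≠ 0) {m : ℕ} (hm : 3 ≤ m) :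
    ∃ x : POmega F (quadFormPlus m F), orderOf x = 8 :=
  exists_eight_of_iso (leviIso m) (leviIso_injective m) (sl_perfect hm) (exists_eight_sl_odd h2 hm)

/-- **`PΩ⁺_{2m}(q)`, `q` even, `m ≥ 5`, has an element of order eight.** -/
theorem exists_eight_omegaPlus_even (h2 : (2 : F) = 0) {m : ℕ} (hm : 5 ≤ m) :
    ∃ x : POmega F (quadFormPlus m F), orderOf x = 8 :=
  exists_eight_of_iso (leviIso m) (leviIso_injective m) (sl_perfect (by omega)) (exists_eight_sl_even h2 hm)

/-- **`PΩ⁻_{2m+2}(q)`, `q` odd, `m ≥ 3`, has an element of order eight.** -/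
theorem exists_eight_omegaMinus_odd [Finite F] (h2 : (2 : F) ≠ 0) {m : ℕ} (hm : 3 ≤ m) (a b : F) :
    ∃ x : POmega F (quadFormMinus m F a b), orderOf x = 8 := by
  rw [quadFormMinus_eq]
  exact exists_eight_of_iso ((isoInl _ _).comp (leviIso m)) ((isoInl_injective _ _).comp (leviIso_injective m))
    (sl_perfect hm) (exists_eight_sl_odd h2 hm)

/-- **`PΩ⁻_{2m+2}(q)`, `q` even, `m ≥ 5`, has an element of order eight.** -/
theorem exists_eight_omegaMinus_even (h2 : (2 : F) = 0) {m : ℕ} (hm : 5 ≤ m) (a b : F) :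
    ∃ x : POmega F (quadFormMinus m F a b), orderOf x = 8 := by
  rw [quadFormMinus_eq]
  exact exists_eight_of_iso ((isoInl _ _).comp (leviIso m)) ((isoInl_injective _ _).comp (leviIso_injective m))
    (sl_perfect (by omega)) (exists_eight_sl_even h2 hm)

end levi

end Cfsg.Agent.H372
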