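import Cfsg.Agent.H372.U3Ar

/-!
# Arithmetic of the elimination of the other simple groups
-/

set_option autoImplicit false

namespace Cfsg.Agent.H372.U3

theorem two_pow_ge {m : ℕ} (hm : 2 ≤ m) : 4 ≤ 2 ^ m := by
  calc 4 = 2 ^ 2 := by norm_num
    _ ≤ 2 ^ m := Nat.pow_le_pow_right (by norm_num) hm

theorem two_pow_ge_eight {m : ℕ} (hm : 3 ≤ m) : 8 ≤ 2 ^ m := by
  calc 8 = 2 ^ 3 := by norm_num
    _ ≤ 2 ^ m := Nat.pow_le_pow_right (by norm_num) hm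

theorem four_dvd_two_pow {m : ℕ} (hm : 2 ≤ m) : 4 ∣ 2 ^ m := by
  calc 4 = 2 ^ 2 := by norm_num
    _ ∣ 2 ^ m := pow_dvd_pow 2 hm

theorem eight_dvd_two_pow {m : ℕ} (hm : 3 ≤ m) : 8 ∣ 2 ^ m := by
  calc 8 = 2 ^ 3 := by norm_num
    _ ∣ 2 ^ m := pow_dvd_pow 2 hm

/-- basic data about `q = 2 ^ m`: `q ^ 2 = 4 k q`, equation for `nn q`. -/
theorem nn_eq {q : ℕ} (hq : 1 ≤ q) : (dd q = 1 ∧ nn q + q = q ^ 2 + 1 ∧ ¬ 3 ∣ q + 1) ∨
    (dd q = 3 ∧ 3 * nn q + q = q ^ 2 + 1 ∧ 3 ∣ q + 1) := by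
  have h := dd_mul_nn hq
  have h2 : q ≤ q ^ 2 := by nlinarith
  rcases dd_cases q with ⟨h1, h3⟩ | ⟨h1, h3⟩
  · left
    rw [h1] at h
    exact ⟨h1, by omega, h3⟩
  · right
    rw [h1] at h
    exact ⟨h1, by omega, h3⟩

theorem lt_nn {q : ℕ} (hq : 4 ≤ q) : q < nn q := by
  rcases nn_eq (q := q) (by omega) with ⟨-, h, -⟩ | ⟨-, h, -⟩ <;> nlinarith

/-- `q = 2 ^ m` with `3 ∣ q + 1` and `m ≥ 2` gives `m ≥ 3`. -/
theorem three_le {m : ℕ} (hm : 2 ≤ m) (h : 3 ∣ 2 ^ m + 1) : 3 ≤ m := by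
  by_contra hcon
  obtain rfl : m = 2 := by omega
  omega

theorem nn_ne_pow {m k : ℕ} (hm : 2 ≤ m) (hk : 2 ≤ k) : nn (2 ^ m) ≠ 2 ^ k - 1 ∧ nn (2 ^ m) ≠ 2 ^ k + 1 := by
  have h4 := two_pow_ge hm
  have h4' := two_pow_ge hk
  obtain ⟨a, ha⟩ := four_dvd_two_pow hm
  obtain ⟨b, hb⟩ := four_dvd_two_pow hk
  have hsq : (2 ^ m) ^ 2 = 4 * (a * 2 ^ m) := by rw [pow_two]; nth_rw 1 [ha]; ring
  rcases nn_eq (q := 2 ^ m) (by omega) with ⟨-, h, h3⟩ | ⟨-, h, h3⟩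
  · constructor
    · intro he
      rw [he] at h
      omega
    · intro he
      rw [he] at h
      -- `2 ^ k = q (q - 1)`
      obtain ⟨t, ht⟩ : ∃ t, 2 ^ m = t + 1 := ⟨2 ^ m - 1, by omega⟩
      have h5 : t ∣ 2 ^ k := by
        refine ⟨t + 1, ?_⟩
        rw [ht] at h
        ring_nf at h ⊢
        omega
      obtain ⟨j, -, hj⟩ := (Nat.dvd_prime_pow Nat.prime_two).1 h5
      have h6 : j = 0 := by
        by_contra hj0
        have : 2 ∣ t := by rw [hj]; exact dvd_pow_self 2 hj0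
        omega
      rw [h6, pow_zero] at hj
      omega
  · have hm3 := three_le hm h3
    obtain ⟨a', ha'⟩ := eight_dvd_two_pow hm3
    have hsq' : (2 ^ m) ^ 2 = 8 * (a' * 2 ^ m) := by rw [pow_two]; nth_rw 1 [ha']; ring
    constructor
    · intro he
      rw [he] at h
      -- `3 2^k = q² - q + 4`
      have hk2 : k = 2 := by
        by_contra hk2
        obtain ⟨b', hb'⟩ := eight_dvd_two_pow (m := k) (by omega)
        omega
      subst hk2
      have h8 := two_pow_ge_eight hm3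
      norm_num at h
      nlinarith
    · intro he
      rw [he] at h
      omega

theorem nn_inj {m k : ℕ} (hm : 2 ≤ m) (hk : 2 ≤ k) (h : nn (2 ^ m) = nn (2 ^ k)) : k = m := by
  have h4 := two_pow_ge hm
  have h4' := two_pow_ge hk
  obtain ⟨a, ha⟩ := four_dvd_two_pow hm
  obtain ⟨b, hb⟩ := four_dvd_two_pow hk
  have hsq : (2 ^ m) ^ 2 = 4 * (a * 2 ^ m) := by rw [pow_two]; nth_rw 1 [ha]; ring
  have hsq' : (2 ^ k) ^ 2 = 4 * (b * 2 ^ k) := by rw [pow_two]; nth_rw 1 [hb]; ring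
  have key : (2 ^ m) ^ 2 + 2 ^ k = (2 ^ k) ^ 2 + 2 ^ m → k = m := by
    intro he
    apply Nat.pow_right_injective (le_refl 2)
    show 2 ^ k = 2 ^ m
    generalize 2 ^ m = x at *
    generalize 2 ^ k = y at *
    by_contra hne
    rcases Nat.lt_or_gt_of_ne hne with h1 | h1 <;> nlinarith
  rcases nn_eq (q := 2 ^ m) (by omega) with ⟨-, h1, -⟩ | ⟨-, h1, -⟩ <;>
    rcases nn_eq (q := 2 ^ k) (by omega) with ⟨-, h2, -⟩ | ⟨-, h2, -⟩
  · apply key; omega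
  · omega
  · omega
  · apply key; omega

/-- `2 ^ m` modulo `2 ^ a - 1` -/
theorem pow_mod_dvd (a m : ℕ) : 2 ^ a - 1 ∣ 2 ^ m - 2 ^ (m % a) := by
  have h1 : 2 ^ m = 2 ^ (m % a) * (2 ^ a) ^ (m / a) := by
    rw [← pow_mul, ← pow_add, Nat.mod_add_div]
  have h2 : 2 ^ m - 2 ^ (m % a) = 2 ^ (m % a) * ((2 ^ a) ^ (m / a) - 1) := by
    rw [Nat.mul_sub, mul_one, ← h1]
  rw [h2]
  exact (Nat.sub_one_dvd_pow_sub_one _ _).mul_left _


/-- the least positive residue -/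
theorem exists_res {a m c : ℕ} (ha : 1 ≤ a) (h : 2 ^ a - 1 ∣ c * (2 ^ m + 1)) :
    ∃ r, r < a ∧ 2 ^ a - 1 ∣ c * (2 ^ r + 1) := by
  refine ⟨m % a, Nat.mod_lt _ ha, ?_⟩
  have h1 : 2 ^ (m % a) ≤ 2 ^ m := Nat.pow_le_pow_right (by norm_num) (Nat.mod_le _ _)
  have h2 := (pow_mod_dvd a m).mul_left c
  have h3 : c * (2 ^ m + 1) = c * (2 ^ m - 2 ^ (m % a)) + c * (2 ^ (m % a) + 1) := by
    rw [← mul_add]
    congr 1
    omega
  rw [h3] at h
  exact (Nat.dvd_add_right h2).1 h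

theorem dvd_three_mul {a m : ℕ} (ha : 1 ≤ a) (h : 2 ^ a - 1 ∣ 3 * (2 ^ m + 1)) : a = 1 ∨ a = 2 ∨ a = 4 := by
  obtain ⟨r, hr, hd⟩ := exists_res ha h
  by_contra hcon
  push Not at hcon
  obtain ⟨h1, h2, h4⟩ := hcon
  by_cases h3 : a = 3
  · subst h3
    have : r = 0 ∨ r = 1 ∨ r = 2 := by omega
    rcases this with rfl | rfl | rfl <;> omega
  · have h5 : 5 ≤ a := by omega
    obtain ⟨b, rfl⟩ : ∃ b, a = b + 1 := ⟨a - 1, by omega⟩
    have h6 : 2 ^ r ≤ 2 ^ b := Nat.pow_le_pow_right (by norm_num) (by omega)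
    have h7 : 16 ≤ 2 ^ b := by
      calc 16 = 2 ^ 4 := by norm_num
        _ ≤ 2 ^ b := Nat.pow_le_pow_right (by norm_num) (by omega)
    rw [pow_succ] at hd
    obtain ⟨c, hc⟩ := hd
    have hc1 : c = 1 := by
      have hc0 : c ≠ 0 := by
        rintro rfl
        rw [mul_zero] at hc
        exact absurd hc (by positivity)
      by_contra hc1
      have : 2 ≤ c := by omega
      have : (2 ^ b * 2 - 1) * 2 ≤ (2 ^ b * 2 - 1) * c := Nat.mul_le_mul_left _ this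
      omega
    rw [hc1, mul_one] at hc
    -- `3 2^r + 4 = 2^(b+1)`
    rcases Nat.lt_or_ge r 3 with h8 | h8
    · have : r = 0 ∨ r = 1 ∨ r = 2 := by omega
      rcases this with rfl | rfl | rfl <;> omega
    · obtain ⟨x, hx⟩ := eight_dvd_two_pow h8
      obtain ⟨y, hy⟩ := eight_dvd_two_pow (m := b) (by omega)
      omega

theorem dvd_one_mul {a m : ℕ} (ha : 1 ≤ a) (h : 2 ^ a - 1 ∣ 2 ^ m + 1) : a ≤ 2 := by
  by_contra hcon
  obtain ⟨r, hr, hd⟩ := exists_res (c := 1) ha (by rw [one_mul]; exact h)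
  rw [one_mul] at hd
  obtain ⟨b, rfl⟩ : ∃ b, a = b + 1 := ⟨a - 1, by omega⟩
  have h6 : 2 ^ r ≤ 2 ^ b := Nat.pow_le_pow_right (by norm_num) (by omega)
  have h7 : 4 ≤ 2 ^ b := two_pow_ge (by omega)
  rw [pow_succ] at hd
  have := Nat.le_of_dvd (Nat.succ_pos _) hd
  omega

section om

variable {m : ℕ} (hm : 2 ≤ m)
include hm

theorem even_q' : Even (2 ^ m) := even_two_pow (by omega)

/-- the even orders -/
theorem om_even' {n : ℕ} (h : Om (2 ^ m) (2 * n)) : n ∣ 2 ∨ n ∣ (2 ^ m + 1) / dd (2 ^ m) := by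
  have hq : 1 ≤ 2 ^ m := Nat.one_le_two_pow
  rcases om_even hq (even_q' hm) h (dvd_mul_right _ _) with h | ⟨k, hk, h⟩
  · left
    rw [show 4 = 2 * 2 by norm_num] at h
    exact Nat.dvd_of_mul_dvd_mul_left (by norm_num) h
  · right
    have : n = k := Nat.eq_of_mul_eq_mul_left (by norm_num) h
    rwa [this]

omit hm in
theorem coprime_part {m : ℕ} {x : ℕ} (h1 : x ∣ nn (2 ^ m)) (h2 : x ∣ (2 ^ m + 1) / dd (2 ^ m)) : x = 1 := by
  have hq : 1 ≤ 2 ^ m := Nat.one_le_two_pow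
  exact Nat.eq_one_of_dvd_coprimes (nn_coprime_succ hq) h1 (h2.trans (Nat.div_dvd_of_dvd (dd_dvd_succ _)))

theorem nn_gt : 4 < nn (2 ^ m) := lt_of_le_of_lt (two_pow_ge hm) (lt_nn (two_pow_ge hm))

/-- full form of `om_prime` -/
theorem om_nn {n : ℕ} (h : Om (2 ^ m) n) (hn : nn (2 ^ m) ∣ n) : n = nn (2 ^ m) := by
  have hq : 1 ≤ 2 ^ m := Nat.one_le_two_pow
  have h4 := nn_gt hm
  obtain ⟨p, hp, hpn⟩ := Nat.exists_prime_and_dvd (show nn (2 ^ m) ≠ 1 by omega)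
  exact Nat.dvd_antisymm (om_prime hq h hp hpn (hpn.trans hn)) hn

/-- `PSL₂(2^k)` -/
theorem elim_psl_even {k : ℕ} (hk : 2 ≤ k) (h1 : Om (2 ^ m) (2 ^ k - 1)) (h2 : Om (2 ^ m) (2 ^ k + 1))
    (h : nn (2 ^ m) ∣ 2 ∨ nn (2 ^ m) ∣ 2 ^ k - 1 ∨ nn (2 ^ m) ∣ 2 ^ k + 1) : False := by
  have h4 := nn_gt hm
  rcases h with h | h | h
  · have := Nat.le_of_dvd (by norm_num) h
    omega
  · exact (nn_ne_pow hm hk).1 (om_nn hm h1 h).symm
  · exact (nn_ne_pow hm hk).2 (om_nn hm h2 h).symm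

omit hm in
theorem le_div_three {m : ℕ} {x : ℕ} (h : x ∣ (2 ^ m + 1) / dd (2 ^ m)) : dd (2 ^ m) * x ≤ 2 ^ m + 1 := by
  have h1 := Nat.mul_div_cancel' (dd_dvd_succ (2 ^ m))
  have h2 : 0 < (2 ^ m + 1) / dd (2 ^ m) := by
    rcases Nat.eq_zero_or_pos ((2 ^ m + 1) / dd (2 ^ m)) with h3 | h3
    · rw [h3, mul_zero] at h1
      have := Nat.two_pow_pos m
      omega
    · exact h3
  have h3 := Nat.le_of_dvd h2 h
  calc dd (2 ^ m) * x ≤ dd (2 ^ m) * ((2 ^ m + 1) / dd (2 ^ m)) := Nat.mul_le_mul_left _ h3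
    _ = 2 ^ m + 1 := h1

/-- bound for even orders -/
theorem even_bound {x : ℕ} (h : Om (2 ^ m) (2 * x)) : x ≤ 2 ∨ dd (2 ^ m) * x ≤ 2 ^ m + 1 := by
  rcases om_even' hm h with h | h
  · exact Or.inl (Nat.le_of_dvd (by norm_num) h)
  · exact Or.inr (le_div_three h)

/-- `PSL₂(Q)`, `Q = 2 t + 1` odd -/
theorem elim_psl_odd {t p : ℕ} (ht : 2 ≤ t) (hp : p.Prime) (hpt : p ∣ 2 * t + 1) (h1 : Om (2 ^ m) t) (h2 : Om (2 ^ m) (t + 1))
    (h : nn (2 ^ m) ∣ p ∨ nn (2 ^ m) ∣ t ∨ nn (2 ^ m) ∣ t + 1) : False := by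
  have h4 := nn_gt hm
  have hq := two_pow_ge hm
  obtain ⟨x, hx⟩ := nn_odd (q := 2 ^ m) (by omega)
  rcases h with h | h | h
  · -- `nn = p`
    have hpn : nn (2 ^ m) = p := by
      rcases (Nat.dvd_prime hp).1 h with h | h
      · omega
      · exact h
    have hle : nn (2 ^ m) ≤ 2 * t + 1 := by rw [hpn]; exact Nat.le_of_dvd (by omega) hpt
    -- the even one among `t`, `t + 1`
    obtain ⟨y, hy, hyt⟩ : ∃ y, Om (2 ^ m) (2 * y) ∧ (t = 2 * y ∨ t + 1 = 2 * y) := by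
      rcases Nat.even_or_odd' t with ⟨y, hy | hy⟩
      · exact ⟨y, hy ▸ h1, Or.inl hy⟩
      · refine ⟨y + 1, ?_, Or.inr (by omega)⟩
        have : 2 * (y + 1) = t + 1 := by omega
        rw [this]
        exact h2
    have h13 : 2 ^ m = 4 ∨ 8 ≤ 2 ^ m := by
      rcases Nat.lt_or_ge m 3 with h3 | h3
      · left
        obtain rfl : m = 2 := by omega
        norm_num
      · exact Or.inr (two_pow_ge_eight h3)
    have hny : nn (2 ^ m) ≤ 4 * y + 1 := by rcases hyt with h | h <;> omega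
    rcases nn_eq (q := 2 ^ m) (by omega) with ⟨d1, h5, h6⟩ | ⟨d3, h5, h6⟩
    · rcases even_bound hm hy with h7 | h7
      · nlinarith
      · rw [d1, one_mul] at h7
        rcases h13 with h13 | h13
        · rw [h13] at h5 h7
          have h8 : nn (2 ^ m) = 13 := by rw [h13]; omega
          have h9 : 2 * y ∣ 10 := by
            rcases om_even' hm hy with h10 | h10
            · rw [h8] at hle
              have := Nat.le_of_dvd (by norm_num) h10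
              omega
            · rw [d1, Nat.div_one, h13] at h10
              exact Nat.mul_dvd_mul_left 2 h10
          rw [h8] at hpn
          rw [← hpn] at hpt
          have h10 : 2 * y ≤ 10 := Nat.le_of_dvd (by norm_num) h9
          have h11 : y = 1 ∨ y = 5 := by
            have h12 : y ∣ 5 := by
              have : 2 * y ∣ 2 * 5 := h9
              exact Nat.dvd_of_mul_dvd_mul_left (by norm_num) this
            exact (Nat.dvd_prime (by norm_num)).1 h12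
          rcases h11 with rfl | rfl
          · omega
          · rcases hyt with h12 | h12 <;> omega
        · nlinarith
    · have h8 := two_pow_ge_eight (three_le hm h6)
      rcases even_bound hm hy with h7 | h7
      · nlinarith
      · rw [d3] at h7
        nlinarith
  · have h5 := om_nn hm h1 h
    have h6 : t + 1 = 2 * (x + 1) := by omega
    rw [h6] at h2
    rcases nn_eq (q := 2 ^ m) (by omega) with ⟨d1, h7, -⟩ | ⟨d3, h7, h8⟩
    · rcases even_bound hm h2 with h9 | h9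
      · omega
      · rw [d1] at h9; nlinarith
    · rcases even_bound hm h2 with h9 | h9
      · omega
      · rw [d3] at h9; nlinarith
  · have h5 := om_nn hm h2 h
    have h6 : t = 2 * x := by omega
    rw [h6] at h1
    rcases nn_eq (q := 2 ^ m) (by omega) with ⟨d1, h7, -⟩ | ⟨d3, h7, h8⟩
    · rcases even_bound hm h1 with h9 | h9
      · nlinarith
      · rw [d1] at h9; nlinarith
    · have := two_pow_ge_eight (three_le hm h8)
      rcases even_bound hm h1 with h9 | h9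
      · nlinarith
      · rw [d3] at h9; nlinarith

/-- `PSp₄(2^k)` -/
theorem elim_psp {k : ℕ} (hk : 2 ≤ k) (h1 : Om (2 ^ m) (2 * (2 ^ k - 1))) (h2 : Om (2 ^ m) (2 * (2 ^ k + 1))) : False := by
  have hk4 := two_pow_ge hk
  have a1 : 2 ^ k - 1 ∣ 2 ^ m + 1 := by
    rcases om_even' hm h1 with h | h
    · have := Nat.le_of_dvd (by norm_num) h; omega
    · exact h.trans (Nat.div_dvd_of_dvd (dd_dvd_succ _))
  have a2 : 2 ^ k + 1 ∣ 2 ^ m + 1 := by
    rcases om_even' hm h2 with h | h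
    · have := Nat.le_of_dvd (by norm_num) h; omega
    · exact h.trans (Nat.div_dvd_of_dvd (dd_dvd_succ _))
  obtain ⟨b, hb⟩ := four_dvd_two_pow hk
  have hc : Nat.Coprime (2 ^ k - 1) (2 ^ k + 1) := by
    have e : 2 ^ k + 1 = (2 ^ k - 1) + 2 := by omega
    rw [e, Nat.coprime_self_add_right]
    exact Nat.coprime_two_right.2 ⟨2 * b - 1, by omega⟩
  have h3 := Nat.Coprime.mul_dvd_of_dvd_of_dvd hc a1 a2
  have h4 : (2 ^ k - 1) * (2 ^ k + 1) = 2 ^ (2 * k) - 1 := by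
    obtain ⟨t, ht⟩ : ∃ t, 2 ^ k = t + 1 := ⟨2 ^ k - 1, by omega⟩
    rw [mul_comm 2 k, pow_mul, ht, Nat.add_sub_cancel]
    symm
    apply Nat.sub_eq_of_eq_add
    ring
  rw [h4] at h3
  have := dvd_one_mul (by omega) h3
  omega

/-- `PSL₃(2^k)` -/
theorem elim_psl_three {k : ℕ} (hk : 1 ≤ k) (h1 : Om (2 ^ m) (2 * ((2 ^ k - 1) / Nat.gcd 3 (2 ^ k - 1)))) :
    k = 1 ∨ k = 2 ∨ k = 4 := by
  set g := Nat.gcd 3 (2 ^ k - 1) with hg
  have hgd : g ∣ 3 := Nat.gcd_dvd_left _ _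
  have hgd' : g ∣ 2 ^ k - 1 := Nat.gcd_dvd_right _ _
  have e : g * ((2 ^ k - 1) / g) = 2 ^ k - 1 := Nat.mul_div_cancel' hgd'
  have h2 : 2 ≤ 2 ^ k := by
    calc 2 = 2 ^ 1 := by norm_num
      _ ≤ 2 ^ k := Nat.pow_le_pow_right (by norm_num) hk
  have hodd : Odd (2 ^ k - 1) := by
    have : Even (2 ^ k) := even_two_pow hk
    exact Nat.Even.sub_odd (by omega) this odd_one
  apply dvd_three_mul (m := m) hk
  rcases om_even' hm h1 with h | h
  · have h3 : (2 ^ k - 1) / g = 1 := by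
      have h4 : Nat.Coprime ((2 ^ k - 1) / g) 2 :=
        Nat.coprime_two_right.2 (Odd.of_dvd_nat hodd (Nat.div_dvd_of_dvd hgd'))
      exact Nat.eq_one_of_dvd_coprimes h4 dvd_rfl h
    rw [h3, mul_one] at e
    rw [← e]
    exact hgd.mul_right _
  · rw [← e]
    exact Nat.mul_dvd_mul hgd (h.trans (Nat.div_dvd_of_dvd (dd_dvd_succ _)))

/-- `PSU₃(2^k)` -/
theorem elim_psu {k : ℕ} (hk : 2 ≤ k) (h1 : Om (2 ^ m) (2 ^ k + 1)) (h2 : Om (2 ^ m) (2 * ((2 ^ k + 1) / dd (2 ^ k))))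
    (h3 : Om (2 ^ m) (((2 ^ k) ^ 2 - 1) / dd (2 ^ k))) (h4 : Om (2 ^ m) (nn (2 ^ k)))
    (h : Om (2 ^ k) (nn (2 ^ m))) : k = m := by
  have hk4 := two_pow_ge hk
  have hm4 := two_pow_ge hm
  have hn := nn_gt hm
  have e : dd (2 ^ k) * ((2 ^ k + 1) / dd (2 ^ k)) = 2 ^ k + 1 := Nat.mul_div_cancel' (dd_dvd_succ _)
  have hodd : Odd ((2 ^ k + 1) / dd (2 ^ k)) := odd_succ_div (even_two_pow (by omega))
  have hd3 : dd (2 ^ k) ≤ 3 := Nat.le_of_dvd (by norm_num) (Nat.gcd_dvd_left 3 _)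
  -- the bad case
  have key : (2 ^ k + 1) / dd (2 ^ k) ∣ nn (2 ^ m) → False := by
    intro h5
    have h6 : (2 ^ k + 1) / dd (2 ^ k) = 1 := by
      rcases om_even' hm h2 with h7 | h7
      · have h8 : Nat.Coprime ((2 ^ k + 1) / dd (2 ^ k)) 2 := Nat.coprime_two_right.2 hodd
        exact Nat.eq_one_of_dvd_coprimes h8 dvd_rfl h7
      · exact coprime_part h5 h7
    rw [h6] at e
    omega
  have hs : (2 ^ k + 1) / dd (2 ^ k) ∣ ((2 ^ k) ^ 2 - 1) / dd (2 ^ k) := by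
    obtain ⟨t, ht, -, e'⟩ := sq_eq (q := 2 ^ k) (by omega)
    have e2 : (2 ^ k) ^ 2 - 1 = t * (2 ^ k + 1) := by rw [e', ht]
    rw [e2, Nat.mul_div_assoc _ (dd_dvd_succ _)]
    exact dvd_mul_left _ _
  rcases h with h | h | h | h | h
  · exfalso
    apply key
    rw [← om_nn hm h1 h]
    exact Nat.div_dvd_of_dvd (dd_dvd_succ _)
  · exfalso
    have h5 : nn (2 ^ m) ∣ (2 ^ k + 1) / dd (2 ^ k) :=
      (Nat.coprime_two_right.2 (nn_odd (q := 2 ^ m) (by omega))).dvd_of_dvd_mul_left h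
    apply key
    rw [← om_nn hm h1 (h5.trans (Nat.div_dvd_of_dvd (dd_dvd_succ _)))]
    exact Nat.div_dvd_of_dvd (dd_dvd_succ _)
  · exfalso
    apply key
    rw [← om_nn hm h3 h]
    exact hs
  · exact nn_inj hm hk (om_nn hm h4 h).symm
  · have := Nat.le_of_dvd (by norm_num) h
    omega

/-- The Suzuki groups -/
theorem elim_sz {a : ℕ} (ha : 1 ≤ a) (h1 : Om (2 ^ m) (2 ^ (2 * a + 1) - 1))
    (h2 : Om (2 ^ m) (2 ^ (2 * a + 1) + 2 ^ (a + 1) + 1)) (h3 : Om (2 ^ m) (2 ^ (2 * a + 1) - 2 ^ (a + 1) + 1))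
    (h : nn (2 ^ m) ∣ 2 ^ (2 * a + 1) - 1 ∨ nn (2 ^ m) ∣ 2 ^ (2 * a + 1) + 2 ^ (a + 1) + 1 ∨
      nn (2 ^ m) ∣ 2 ^ (2 * a + 1) - 2 ^ (a + 1) + 1) : False := by
  have hm4 := two_pow_ge hm
  obtain ⟨x, hx⟩ := four_dvd_two_pow hm
  have hsq : (2 ^ m) ^ 2 = 4 * (x * 2 ^ m) := by rw [pow_two]; nth_rw 1 [hx]; ring
  obtain ⟨y, hy⟩ := eight_dvd_two_pow (m := 2 * a + 1) (by omega)
  have hy1 : 8 ≤ 2 ^ (2 * a + 1) := two_pow_ge_eight (by omega)
  obtain ⟨z, hz⟩ := four_dvd_two_pow (m := a + 1) (by omega)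
  have eQ : 2 ^ (2 * a + 1) = 2 ^ (a + 1) * 2 ^ a := by rw [← pow_add]; congr 1; omega
  have hz1 : 4 ≤ 2 ^ (a + 1) := two_pow_ge (by omega)
  have ha2 : 2 ≤ 2 ^ a := by
    calc 2 = 2 ^ 1 := by norm_num
      _ ≤ 2 ^ a := Nat.pow_le_pow_right (by norm_num) ha
  have hle : 2 ^ (a + 1) ≤ 2 ^ (2 * a + 1) := Nat.pow_le_pow_right (by norm_num) (by omega)
  -- equality of two products `2 ^ i * odd`
  have pow_odd : ∀ {i j u v : ℕ}, Odd u → Odd v → 2 ^ i * u = 2 ^ j * v → i = j ∧ u = v := by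
    intro i j u v hu hv he
    have h5 : 2 ^ i ∣ 2 ^ j := by
      have : 2 ^ i ∣ 2 ^ j * v := by rw [← he]; exact dvd_mul_right _ _
      exact (Nat.Coprime.pow_left i (Nat.coprime_two_left.2 hv)).dvd_of_dvd_mul_right this
    have h6 : 2 ^ j ∣ 2 ^ i := by
      have : 2 ^ j ∣ 2 ^ i * u := by rw [he]; exact dvd_mul_right _ _
      exact (Nat.Coprime.pow_left j (Nat.coprime_two_left.2 hu)).dvd_of_dvd_mul_right this
    have h7 := Nat.dvd_antisymm h5 h6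
    refine ⟨Nat.pow_right_injective (le_refl 2) h7, ?_⟩
    rw [h7] at he
    exact Nat.eq_of_mul_eq_mul_left (Nat.two_pow_pos j) he
  have hodd : Odd (2 ^ m - 1) := Nat.Even.sub_odd (by omega) (even_q' hm) odd_one
  have hae : Even (2 ^ a) := even_two_pow ha
  rcases h with h | h | h
  · have h5 := om_nn hm h1 h
    rcases nn_eq (q := 2 ^ m) (by omega) with ⟨-, h6, -⟩ | ⟨-, h6, h7⟩
    · omega
    · obtain ⟨x', hx'⟩ := eight_dvd_two_pow (three_le hm h7)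
      have hsq' : (2 ^ m) ^ 2 = 8 * (x' * 2 ^ m) := by rw [pow_two]; nth_rw 1 [hx']; ring
      omega
  · have h5 := om_nn hm h2 h
    rcases nn_eq (q := 2 ^ m) (by omega) with ⟨d1, h6, -⟩ | ⟨-, h6, -⟩
    · have h7 : 2 ^ m * (2 ^ m - 1) = 2 ^ (a + 1) * (2 ^ a + 1) := by
        rw [Nat.mul_sub, mul_one, ← pow_two, mul_add, mul_one, ← eQ]
        omega
      obtain ⟨h8, h9⟩ := pow_odd hodd hae.add_one h7
      rw [h8, pow_succ] at h9
      have h10 : 2 ^ a = 2 ^ 1 := by omega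
      have h11 : a = 1 := Nat.pow_right_injective (le_refl 2) h10
      subst h11
      obtain rfl : m = 2 := h8
      -- `7` is not an order
      have h1' : Om (2 ^ 2) 7 := by
        norm_num at h1 ⊢
        exact h1
      have := three_of_seven (m := 2) (by norm_num) h1'
      omega
    · omega
  · have h5 := om_nn hm h3 h
    rcases nn_eq (q := 2 ^ m) (by omega) with ⟨d1, h6, -⟩ | ⟨-, h6, -⟩
    · have h7 : 2 ^ m * (2 ^ m - 1) = 2 ^ (a + 1) * (2 ^ a - 1) := by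
        rw [Nat.mul_sub, mul_one, ← pow_two, Nat.mul_sub, mul_one, ← eQ]
        omega
      obtain ⟨h8, h9⟩ := pow_odd hodd (Nat.Even.sub_odd (by omega) hae odd_one) h7
      rw [h8, pow_succ] at h9
      omega
    · omega

/-- The Ree groups -/
theorem elim_ree {a : ℕ} (ha : 1 ≤ a) (h1 : Om (2 ^ m) (3 ^ (2 * a + 1) - 1))
    (h2 : Om (2 ^ m) ((3 ^ (2 * a + 1) + 1) / 2))
    (h : nn (2 ^ m) ∣ 6 ∨ nn (2 ^ m) ∣ 9 ∨ nn (2 ^ m) ∣ 3 ^ (2 * a + 1) - 1 ∨ nn (2 ^ m) ∣ (3 ^ (2 * a + 1) + 1) / 2 ∨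
      nn (2 ^ m) ∣ 3 ^ (2 * a + 1) - 3 ^ (a + 1) + 1 ∨ nn (2 ^ m) ∣ 3 ^ (2 * a + 1) + 3 ^ (a + 1) + 1) : False := by
  have hm4 := two_pow_ge hm
  have hn := nn_gt hm
  have hodd := nn_odd (q := 2 ^ m) (by omega)
  have hc3 : Nat.Coprime (nn (2 ^ m)) 3 :=
    ((Nat.Prime.coprime_iff_not_dvd Nat.prime_three).2 (nn_coprime_three (by omega))).symm
  have hc2 : Nat.Coprime (nn (2 ^ m)) 2 := Nat.coprime_two_right.2 hodd
  have h8 : 3 ^ (2 * a + 1) % 8 = 3 := by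
    have h9 : 9 ^ a % 8 = 1 := by
      clear ha h1 h2 h
      induction a with
      | zero => rfl
      | succ a ih => rw [pow_succ]; omega
    rw [pow_succ, pow_mul, show (3 : ℕ) ^ 2 = 9 by norm_num]
    omega
  have h27 : 27 ≤ 3 ^ (2 * a + 1) := by
    calc 27 = 3 ^ 3 := by norm_num
      _ ≤ 3 ^ (2 * a + 1) := Nat.pow_le_pow_right (by norm_num) (by omega)
  have h9a : 9 ≤ 3 ^ (a + 1) := by
    calc 9 = 3 ^ 2 := by norm_num
      _ ≤ 3 ^ (a + 1) := Nat.pow_le_pow_right (by norm_num) (by omega)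
  have hsq : 3 ^ (a + 1) * 3 ^ (a + 1) = 3 * 3 ^ (2 * a + 1) := by
    rw [← pow_add, ← pow_succ']; congr 1; omega
  obtain ⟨c, hc⟩ : ∃ c, 3 ^ (2 * a + 1) = 8 * c + 3 := ⟨3 ^ (2 * a + 1) / 8, by omega⟩
  have hQ1 : 3 ^ (2 * a + 1) - 1 = 2 * (4 * c + 1) := by omega
  have hQ2 : (3 ^ (2 * a + 1) + 1) / 2 = 2 * (2 * c + 1) := by omega
  rw [hQ1] at h1 h
  rw [hQ2] at h2 h
  have a1 : 4 * c + 1 ∣ (2 ^ m + 1) / dd (2 ^ m) := by
    rcases om_even' hm h1 with h' | h'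
    · have := Nat.le_of_dvd (by norm_num) h'; omega
    · exact h'
  have a2 : 2 * c + 1 ∣ (2 ^ m + 1) / dd (2 ^ m) := by
    rcases om_even' hm h2 with h' | h'
    · have := Nat.le_of_dvd (by norm_num) h'; omega
    · exact h'
  rcases h with h | h | h | h | h
  · have : nn (2 ^ m) ∣ 1 := by
      have h' : nn (2 ^ m) ∣ 2 * 3 := h
      have := (hc3.dvd_of_dvd_mul_right h')
      exact (Nat.eq_one_of_dvd_coprimes hc2 dvd_rfl this).dvd
    have := Nat.le_of_dvd (by norm_num) this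
    omega
  · have : nn (2 ^ m) = 1 :=
      Nat.eq_one_of_dvd_coprimes (Nat.Coprime.pow_right 2 hc3) dvd_rfl (by norm_num; exact h)
    omega
  · have h' := hc2.dvd_of_dvd_mul_left h
    have := coprime_part dvd_rfl (h'.trans a1)
    omega
  · have h' := hc2.dvd_of_dvd_mul_left h
    have := coprime_part dvd_rfl (h'.trans a2)
    omega
  · -- size
    have hle : nn (2 ^ m) ≤ 3 ^ (2 * a + 1) + 3 ^ (a + 1) + 1 := by
      rcases h with h | h
      · exact (Nat.le_of_dvd (Nat.succ_pos _) h).trans (by omega)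
      · exact Nat.le_of_dvd (Nat.succ_pos _) h
    have hcop : Nat.Coprime (4 * c + 1) (2 * c + 1) := by
      have e : 4 * c + 1 = 2 * c + (2 * c + 1) := by ring
      rw [e, Nat.coprime_add_self_left]
      have e2 : 2 * c + 1 = 1 + 2 * c := by ring
      rw [e2, Nat.coprime_add_self_right]
      exact Nat.coprime_one_right _
    have h3 := le_div_three (Nat.Coprime.mul_dvd_of_dvd_of_dvd hcop a1 a2)
    have hd1 : 1 ≤ dd (2 ^ m) := dd_pos _
    have h4 : (4 * c + 1) * (2 * c + 1) ≤ 2 ^ m + 1 := by nlinarith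
    have h5 : (2 ^ m) ^ 2 + 1 ≤ 3 * nn (2 ^ m) + 2 ^ m := by
      rcases nn_eq (q := 2 ^ m) (by omega) with ⟨-, h6, -⟩ | ⟨-, h6, -⟩ <;> omega
    have h6 : 3 ^ (a + 1) ≤ 3 ^ (2 * a + 1) := Nat.pow_le_pow_right (by norm_num) (by omega)
    rw [hc] at hle h6
    have h7 : nn (2 ^ m) ≤ 16 * c + 7 := by omega
    have hc3' : 3 ≤ c := by omega
    -- `q² + 1 ≤ 48 c + 21 + q`, `8 c² + 6 c ≤ q`
    have h10 : 8 * c ≤ 2 ^ m := by nlinarith
    nlinarith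

end om

end Cfsg.Agent.H372.U3
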