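import Cfsg.Agent.H369.PglSit
import Cfsg.Agent.H363.PslTorus
import Cfsg.Agent.H376.CocPsl
import Cfsg.Agent.S2262
import Cfsg.Agent.S2470
import Cfsg.Agent.S2476

/-!
# Row `PSL_n(u)`, `n ≥ 3`, of the recognition of `PGL_2(q)` by spectrum (S3447)
-/

set_option autoImplicit false

namespace Cfsg.Agent.H372.PglPsl

open Cfsg.Agent.H369.Pgl

/-- `gcd (n, q - 1)` divides `(q ^ n - 1) / (q - 1)` -/
theorem gcd_dvd_quot {q : ℕ} (hq1 : 1 < q) (n : ℕ) : Nat.gcd n (q - 1) ∣ (q ^ n - 1) / (q - 1) := by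
  rw [← Nat.geomSum_eq (by omega)]
  have h1 : ∑ i ∈ Finset.range n, q ^ i ≡ ∑ i ∈ Finset.range n, 1 [MOD Nat.gcd n (q - 1)] := by
    have hq : q ≡ 1 [MOD Nat.gcd n (q - 1)] := by
      have h2 : Nat.gcd n (q - 1) ∣ q - 1 := Nat.gcd_dvd_right _ _
      exact ((Nat.modEq_iff_dvd' hq1.le).2 h2).symm
    have h3 : ∀ i, q ^ i ≡ 1 [MOD Nat.gcd n (q - 1)] := fun i => by
      have := hq.pow i
      rwa [one_pow] at this
    induction n with
    | zero => exact Nat.ModEq.refl _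
    | succ k _ =>
      generalize Nat.gcd (k + 1) (q - 1) = g at h3
      clear hq
      induction (k + 1) with
      | zero => exact Nat.ModEq.refl _
      | succ j ih =>
        rw [Finset.sum_range_succ, Finset.sum_range_succ]
        exact ih.add (h3 j)
  have h2 : ∑ i ∈ Finset.range n, 1 ≡ 0 [MOD Nat.gcd n (q - 1)] := by
    rw [Finset.sum_const, Finset.card_range, smul_eq_mul, mul_one]
    exact (Nat.modEq_zero_iff_dvd).2 (Nat.gcd_dvd_left _ _)
  exact (Nat.modEq_zero_iff_dvd).1 (h1.trans h2)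

/-- numbers: `p = (u ^ n - 1) / ((u - 1) d)` -/
theorem num_n {u n d p : ℕ} (hu : 2 ≤ u) (hn : 4 ≤ n) (hd : d ≤ u - 1) (hp : 2 ≤ p)
    (h : (u ^ n - 1) / (u - 1) = p * d) (hk : (u - 1) * (p ^ 2 - 1) ≤ 2 * (u ^ n - 1)) : False := by
  obtain ⟨v, rfl⟩ : ∃ v, u = v + 1 := ⟨u - 1, by omega⟩
  rw [Nat.add_sub_cancel] at *
  have hv : 1 ≤ v := by omega
  have hdvd : v ∣ (v + 1) ^ n - 1 := by
    have := Nat.sub_dvd_pow_sub_pow (v + 1) 1 n
    rwa [one_pow, Nat.add_sub_cancel] at this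
  have h1 : v * (p * d) = (v + 1) ^ n - 1 := by rw [← h, Nat.mul_div_cancel' hdvd]
  rw [← h1] at hk
  have h2 : p ^ 2 - 1 ≤ 2 * (p * d) := by
    have : v * (p ^ 2 - 1) ≤ v * (2 * (p * d)) := by
      calc v * (p ^ 2 - 1) ≤ 2 * (v * (p * d)) := hk
        _ = v * (2 * (p * d)) := by ring
    exact Nat.le_of_mul_le_mul_left this hv
  have h3 : p ≤ 2 * d := by
    by_contra hcon
    have h4 : 2 * d + 1 ≤ p := by omega
    have h5 : p * (2 * d + 1) ≤ p * p := Nat.mul_le_mul_left p h4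
    have h6 : p ^ 2 = p * p := sq p
    rw [h6] at h2
    have h7 : p * (2 * d + 1) = 2 * (p * d) + p := by ring
    omega
  have h4 : (v + 1) ^ 4 ≤ (v + 1) ^ n := Nat.pow_le_pow_right (by omega) hn
  have h5 : v * (p * d) ≤ v * (2 * v * v) := by
    apply Nat.mul_le_mul_left
    calc p * d ≤ (2 * d) * d := Nat.mul_le_mul_right d h3
      _ ≤ 2 * v * v := by nlinarith
  have h6 : 1 ≤ (v + 1) ^ n := Nat.one_le_pow _ _ (by omega)
  have h7 : (v + 1) ^ 4 ≤ v * (2 * v * v) + 1 := by omega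
  have h8 : (v + 1) ^ 4 = v * (2 * v * v) + 1 + (v ^ 4 + 2 * v ^ 3 + 6 * v ^ 2 + 4 * v) := by ring
  have h9 : 0 < v ^ 4 + 2 * v ^ 3 + 6 * v ^ 2 + 4 * v := by positivity
  omega

/-- numbers: `p = (u ^ (n - 1) - 1) / (u - 1)` -/
theorem num_n1 {u n d p : ℕ} (hu : 2 ≤ u) (hn : 4 ≤ n) (hd : d ∣ u - 1) (hp : 2 ≤ p)
    (hp1 : p * (u - 1) ∣ u ^ (n - 1) - 1) (h : u ^ (n - 1) - 1 ∣ p * d)
    (hk : (u - 1) * (p ^ 2 - 1) ≤ 2 * (u ^ n - 1)) : False := by
  obtain ⟨v, rfl⟩ : ∃ v, u = v + 1 := ⟨u - 1, by omega⟩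
  rw [Nat.add_sub_cancel] at *
  have hv : 1 ≤ v := by omega
  have hd1 : d ≤ v := Nat.le_of_dvd (by omega) hd
  have hd0 : 0 < d := Nat.pos_of_dvd_of_pos hd (by omega)
  have h6 : 1 ≤ (v + 1) ^ (n - 1) := Nat.one_le_pow _ _ (by omega)
  have h7 : (v + 1) ^ 3 ≤ (v + 1) ^ (n - 1) := Nat.pow_le_pow_right (by omega) (by omega)
  have h8 : (v + 1) ^ n = (v + 1) * (v + 1) ^ (n - 1) := by
    rw [← pow_succ']; congr 1; omega
  have h9 : (v + 1) ^ (n - 1) - 1 ≤ p * v := (Nat.le_of_dvd (Nat.mul_pos (by omega) hd0) h).trans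
    (Nat.mul_le_mul_left p hd1)
  have h10 : 0 < (v + 1) ^ (n - 1) - 1 := by
    have : (v + 1) ^ 3 = v * (v ^ 2 + 3 * v + 3) + 1 := by ring
    have h11 : 0 < v * (v ^ 2 + 3 * v + 3) := by positivity
    omega
  have h11 : p * v ≤ (v + 1) ^ (n - 1) - 1 := Nat.le_of_dvd h10 hp1
  have h12 : (v + 1) ^ (n - 1) = p * v + 1 := by omega
  have h13 : (v + 1) ^ n - 1 = v * (p * (v + 1) + 1) := by
    rw [h8, h12]
    have : (v + 1) * (p * v + 1) = v * (p * (v + 1) + 1) + 1 := by ring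
    omega
  rw [h13] at hk
  have h14 : p ^ 2 - 1 ≤ 2 * (p * (v + 1) + 1) := by
    have : v * (p ^ 2 - 1) ≤ v * (2 * (p * (v + 1) + 1)) := by
      calc v * (p ^ 2 - 1) ≤ 2 * (v * (p * (v + 1) + 1)) := hk
        _ = v * (2 * (p * (v + 1) + 1)) := by ring
    exact Nat.le_of_mul_le_mul_left this hv
  have h15 : v ^ 2 + 3 * v + 3 ≤ p := by
    have h16 : v * (v ^ 2 + 3 * v + 3) ≤ v * p := by
      have : (v + 1) ^ 3 = v * (v ^ 2 + 3 * v + 3) + 1 := by ring
      have h17 : p * v = v * p := mul_comm _ _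
      omega
    exact Nat.le_of_mul_le_mul_left h16 hv
  have h16 : p ^ 2 ≤ 2 * (p * (v + 1) + 1) + 1 := by omega
  have h17 : 7 ≤ p := by nlinarith
  nlinarith

section
variable {F : Type*} [Field F] [Fintype F] {n : ℕ}

/-- the numerical consequences of an isolated prime `p` of exponent `p` in `PSL_n(u)`, `n ≥ 4` -/
theorem iso_four {p : ℕ} (hp : p.Prime) (hp2 : p ≠ 2) (hn : 4 ≤ n)
    (hpd : p ∣ Nat.card (Matrix.ProjectiveSpecialLinearGroup (Fin n) F))
    (hiso : ∀ y : Matrix.ProjectiveSpecialLinearGroup (Fin n) F, p ∣ orderOf y → orderOf y = p)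
    (hk : (Fintype.card F - 1) * (p ^ 2 - 1) ≤ 2 * (Fintype.card F ^ n - 1)) : False := by
  have hu : 2 ≤ Fintype.card F := Fintype.one_lt_card
  obtain ⟨ℓ, hℓc⟩ := CharP.exists F
  have hℓ : ℓ.Prime := CharP.char_is_prime F ℓ
  have := Fact.mk hℓ
  obtain ⟨f, -, hf⟩ := FiniteField.card F ℓ
  have hℓd : ℓ ∣ Fintype.card F := by rw [hf]; exact dvd_pow_self ℓ f.pos.ne'
  have hp2' := hp.two_le
  -- `p` is not the characteristic
  by_cases hpℓ : p = ℓ
  · subst hpℓ
    obtain ⟨g, hg⟩ := H376.Coc.psl_adj (F := F) (a := 2) (b := 2) (n := n) (x := p) (s := 2) (by omega) (by norm_num)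
      (by norm_num) hp Nat.prime_two hp2 (H376.Coc.sl_dvd le_rfl hp (Or.inl hℓd))
      (H376.Coc.sl_dvd le_rfl Nat.prime_two (Or.inr ⟨1, le_rfl, by norm_num, by
        rw [pow_one]
        have hodd : Odd (Fintype.card F) := by rw [hf]; exact (hp.odd_of_ne_two hp2).pow
        obtain ⟨k, hk⟩ := hodd
        exact ⟨k, by omega⟩⟩))
    have h1 := hiso g (by rw [hg]; exact Dvd.intro _ rfl)
    rw [hg] at h1
    omega
  -- the order of `u` modulo `p` is `n - 1` or `n`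
  have hnotin : p * ℓ ∉ Set.range (orderOf : Matrix.ProjectiveSpecialLinearGroup (Fin n) F → ℕ) := by
    rintro ⟨g, hg⟩
    have h1 := hiso g (by rw [hg]; exact Dvd.intro _ rfl)
    rw [hg] at h1
    have h2 : p * 2 ≤ p * ℓ := Nat.mul_le_mul_left p hℓ.two_le
    omega
  have hk1 : n - 2 < orderOf ((Fintype.card F : ℕ) : ZMod p) := by
    rcases (S2470.result ℓ n (by omega) (by omega) p hp hp2 hpℓ hpd _ rfl).1 hnotin with h | ⟨h, -⟩
    · exact h
    · omega
  have hnd : ∀ j, 1 ≤ j → j ≤ n - 2 → ¬ p ∣ Fintype.card F ^ j - 1 := by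
    intro j hj1 hj2 hj
    have h1 := (H376.Coc.ord_dvd_iff (by omega)).2 hj
    have h2 := Nat.le_of_dvd (by omega) h1
    omega
  have hnd1 : ¬ p ∣ Fintype.card F - 1 := by
    have := hnd 1 le_rfl (by omega)
    rwa [pow_one] at this
  obtain ⟨j, hj1, hjn, hj⟩ : ∃ j, 1 ≤ j ∧ j ≤ n ∧ p ∣ Fintype.card F ^ j - 1 := by
    rcases H376.Coc.psl_dvd hp (by omega) hpd with h | h
    · exfalso
      rw [hf] at h
      exact hpℓ ((Nat.prime_dvd_prime_iff_eq hp hℓ).1 (hp.dvd_of_dvd_pow h))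
    · exact h
  have hjj : j = n ∨ j = n - 1 := by
    by_contra hcon
    exact hnd j hj1 (by omega) hj
  have hgcd : Nat.gcd n (Nat.card F - 1) ∣ Fintype.card F - 1 := by
    rw [Nat.card_eq_fintype_card]; exact Nat.gcd_dvd_right _ _
  have hpg : ¬ p ∣ Nat.gcd n (Nat.card F - 1) := fun h => hnd1 (h.trans hgcd)
  have hgpos : 0 < Nat.gcd n (Nat.card F - 1) := Nat.gcd_pos_of_pos_left _ (by omega)
  have hu1 : Fintype.card F - 1 ∣ Fintype.card F ^ n - 1 := by
    have := Nat.sub_dvd_pow_sub_pow (Fintype.card F) 1 n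
    rwa [one_pow] at this
  have hu2 : Fintype.card F - 1 ∣ Fintype.card F ^ (n - 1) - 1 := by
    have := Nat.sub_dvd_pow_sub_pow (Fintype.card F) 1 (n - 1)
    rwa [one_pow] at this
  rcases hjj with rfl | rfl
  · obtain ⟨x, hx⟩ := H363.PslSpec.exists_singer (F := F) (n := j) (by omega)
    have hq : (Fintype.card F ^ j - 1) / (Fintype.card F - 1) =
        orderOf x * Nat.gcd j (Nat.card F - 1) := by
      rw [hx, Nat.card_eq_fintype_card, Nat.div_mul_cancel]
      exact gcd_dvd_quot (by omega) j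
    have h1 : p ∣ (Fintype.card F ^ j - 1) / (Fintype.card F - 1) := by
      have h2 : (Fintype.card F - 1) * ((Fintype.card F ^ j - 1) / (Fintype.card F - 1)) = Fintype.card F ^ j - 1 :=
        Nat.mul_div_cancel' hu1
      rw [← h2] at hj
      exact (hp.dvd_mul.1 hj).resolve_left hnd1
    rw [hq] at h1
    have h2 : p ∣ orderOf x := (hp.dvd_mul.1 h1).resolve_right hpg
    rw [hiso x h2] at hq
    exact num_n hu hn (Nat.le_of_dvd (by omega) hgcd) hp.two_le hq hk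
  · obtain ⟨x, hx⟩ := H363.PslTorus.exists_big (F := F) (n := n) (by omega)
    rw [Nat.card_eq_fintype_card] at hx hgcd hpg hgpos
    have h1 : p ∣ orderOf x := (hp.dvd_mul.1 (hj.trans hx)).resolve_right hpg
    rw [hiso x h1] at hx
    have hcop : Nat.Coprime p (Fintype.card F - 1) := (hp.coprime_iff_not_dvd).2 hnd1
    exact num_n1 hu hn hgcd hp.two_le (hcop.mul_dvd_of_dvd_of_dvd hj hu2) hx hk

/-- the numerical consequences of an isolated prime `p` of exponent `p` in `PSL_3(u)`, `u ≠ 2` -/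
theorem iso_three {p : ℕ} (hp : p.Prime) (hp2 : p ≠ 2) (h2 : Fintype.card F ≠ 2)
    (hpd : p ∣ Nat.card (Matrix.ProjectiveSpecialLinearGroup (Fin 3) F))
    (hiso : ∀ y : Matrix.ProjectiveSpecialLinearGroup (Fin 3) F, p ∣ orderOf y → orderOf y = p)
    (hk : (Fintype.card F - 1) * (p ^ 2 - 1) ≤ 2 * (Fintype.card F ^ 3 - 1)) :
    Fintype.card F = 4 ∧ (p = 3 ∨ p = 5) := by
  have hu : 2 ≤ Fintype.card F := Fintype.one_lt_card
  obtain ⟨ℓ, hℓc⟩ := CharP.exists F
  have hℓ : ℓ.Prime := CharP.char_is_prime F ℓ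
  have hFℓ := Fact.mk hℓ
  have hspec := S2476.result (F := F) ℓ
  obtain ⟨f, -, hf⟩ := FiniteField.card F ℓ
  have hiso' : ∀ k, p ∣ k → k ∈ Set.range (orderOf : Matrix.ProjectiveSpecialLinearGroup (Fin 3) F → ℕ) → k = p := by
    rintro _ h ⟨y, rfl⟩
    exact hiso y h
  rw [hspec] at hiso'
  have hFp := Fact.mk hp
  obtain ⟨g, hg⟩ := exists_prime_orderOf_dvd_card' p hpd
  have hpm : p ∈ Set.range (orderOf : Matrix.ProjectiveSpecialLinearGroup (Fin 3) F → ℕ) := ⟨g, hg⟩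
  rw [hspec] at hpm
  simp only [Set.mem_ofPred_eq] at hpm hiso'
  generalize hu' : Fintype.card F = u at *
  clear hspec hg g hiso hpd hℓc
  obtain ⟨v, rfl⟩ : ∃ v, u = v + 1 := ⟨u - 1, by omega⟩
  rw [Nat.add_sub_cancel] at *
  have hp3 : 3 ≤ p := by have := hp.two_le; omega
  have hv : 2 ≤ v := by omega
  have hp4 : ¬ p ∣ 4 := by
    intro h
    have h1 : p ∣ 2 ^ 2 := h
    have := (Nat.prime_dvd_prime_iff_eq hp Nat.prime_two).1 (hp.dvd_of_dvd_pow h1)
    omega
  have hmulprime : ∀ a b : ℕ, a * b = p → a = 1 ∨ b = 1 := by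
    intro a b hab
    rcases (Nat.dvd_prime hp).1 (Dvd.intro _ hab : a ∣ p) with h | h
    · exact Or.inl h
    · right
      have : a * b = a * 1 := by rw [hab, h, mul_one]
      exact Nat.eq_of_mul_eq_mul_left (by rw [h]; omega) this
  have hℓ2 := hℓ.two_le
  by_cases h3 : 3 ∣ v
  · obtain ⟨w, rfl⟩ := h3
    have hw : 1 ≤ w := by omega
    have hg : Nat.gcd 3 (3 * w) = 3 := Nat.gcd_eq_left (Dvd.intro _ rfl)
    have hA : ((3 * w + 1) ^ 2 + (3 * w + 1) + 1) / 3 = 3 * w ^ 2 + 3 * w + 1 := by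
      have : (3 * w + 1) ^ 2 + (3 * w + 1) + 1 = 3 * (3 * w ^ 2 + 3 * w + 1) := by ring
      rw [this, Nat.mul_div_cancel_left _ (by norm_num)]
    have hB : ((3 * w + 1) ^ 2 - 1) / 3 = w * (3 * w + 2) := by
      have : (3 * w + 1) ^ 2 - 1 = 3 * (w * (3 * w + 2)) := by
        have : (3 * w + 1) ^ 2 = 3 * (w * (3 * w + 2)) + 1 := by ring
        omega
      rw [this, Nat.mul_div_cancel_left _ (by norm_num)]
    have hC : ℓ * (3 * w) / 3 = ℓ * w := by
      have : ℓ * (3 * w) = 3 * (ℓ * w) := by ring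
      rw [this, Nat.mul_div_cancel_left _ (by norm_num)]
    rw [hg, hA, hB, hC] at hpm hiso'
    have caseV : p ∣ 3 * w → w = 1 ∧ p = 3 := by
      intro h
      have h1 := hiso' (3 * w) h (Or.inr (Or.inr (Or.inl dvd_rfl)))
      rcases hmulprime 3 w h1 with h2 | h2
      · omega
      · exact ⟨h2, by rw [← h1, h2]⟩
    rcases hpm with h | h | h | h | ⟨-, h⟩
    · exfalso
      have h1 := hiso' _ h (Or.inl dvd_rfl)
      have h5 : (3 * w + 1) ^ 3 - 1 = 3 * w * (3 * p) := by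
        have : (3 * w + 1) ^ 3 = 3 * w * (3 * (3 * w ^ 2 + 3 * w + 1)) + 1 := by ring
        rw [this, h1]; omega
      rw [h5] at hk
      have h6 : p ^ 2 - 1 ≤ 6 * p := by
        have : 3 * w * (p ^ 2 - 1) ≤ 3 * w * (6 * p) := by
          calc 3 * w * (p ^ 2 - 1) ≤ 2 * (3 * w * (3 * p)) := hk
            _ = 3 * w * (6 * p) := by ring
        exact Nat.le_of_mul_le_mul_left this (by omega)
      have h7 : 7 ≤ p := by nlinarith
      have h8 : p ^ 2 ≤ 6 * p + 1 := by omega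
      nlinarith
    · have h1 := hiso' _ h (Or.inr (Or.inl dvd_rfl))
      rcases hmulprime _ _ h1 with h5 | h5
      · subst h5; exact ⟨rfl, Or.inr (by omega)⟩
      · omega
    · obtain ⟨h1, h5⟩ := caseV h
      subst h1; exact ⟨rfl, Or.inl h5⟩
    · rcases hp.dvd_mul.1 h with h1 | h1
      · exfalso
        have h5 := (Nat.prime_dvd_prime_iff_eq hp hℓ).1 h1
        subst h5
        have h6 := hiso' _ h (Or.inr (Or.inr (Or.inr (Or.inl dvd_rfl))))
        rcases hmulprime _ _ h6 with h7 | h7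
        · omega
        · subst h7
          have h8 : p ∣ 2 ^ 2 := by
            have : 3 * 1 + 1 = 2 ^ 2 := by norm_num
            rw [← this, hf]; exact dvd_pow_self p f.pos.ne'
          exact hp4 h8
      · obtain ⟨h5, h6⟩ := caseV (h1.mul_left 3)
        subst h5
        have := Nat.dvd_one.1 h1
        omega
    · exact absurd h hp4
  · exfalso
    have hg : Nat.gcd 3 v = 1 := (Nat.Prime.coprime_iff_not_dvd Nat.prime_three).2 h3
    rw [hg, Nat.div_one, Nat.div_one, Nat.div_one] at hpm hiso'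
    have hB : (v + 1) ^ 2 - 1 = v * (v + 2) := by
      have : (v + 1) ^ 2 = v * (v + 2) + 1 := by ring
      omega
    rw [hB] at hpm hiso'
    have caseB : ¬ p ∣ v * (v + 2) := by
      intro h
      have h1 := hiso' _ h (Or.inr (Or.inl dvd_rfl))
      rcases hmulprime _ _ h1 with h2 | h2 <;> omega
    rcases hpm with h | h | h | h | ⟨-, h⟩
    · have h1 := hiso' _ h (Or.inl dvd_rfl)
      have h5 : (v + 1) ^ 3 - 1 = v * p := by
        have : (v + 1) ^ 3 = v * ((v + 1) ^ 2 + (v + 1) + 1) + 1 := by ring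
        rw [this, h1]; omega
      rw [h5] at hk
      have h6 : p ^ 2 - 1 ≤ 2 * p := by
        have : v * (p ^ 2 - 1) ≤ v * (2 * p) := by
          calc v * (p ^ 2 - 1) ≤ 2 * (v * p) := hk
            _ = v * (2 * p) := by ring
        exact Nat.le_of_mul_le_mul_left this (by omega)
      have h8 : p ^ 2 ≤ 2 * p + 1 := by omega
      nlinarith
    · exact caseB h
    · exact caseB (h.mul_right _)
    · rcases hp.dvd_mul.1 h with h1 | h1
      · have h5 := (Nat.prime_dvd_prime_iff_eq hp hℓ).1 h1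
        subst h5
        have h6 := hiso' _ h (Or.inr (Or.inr (Or.inr (Or.inl dvd_rfl))))
        rcases hmulprime _ _ h6 with h7 | h7 <;> omega
      · exact caseB (h1.mul_right _)
    · exact hp4 h

end

/-- **Row `PSL_n(u)`, `n ≥ 3`** -/
theorem row_psl {S : Type*} [Group S] [Finite S] [IsSimpleGroup S] (hna : ¬ IsMulCommutative S) {p m : ℕ}
    {X : Subgroup (MulAut S)} (H : Sit S p m X) {F : Type*} [Field F] [Fintype F] {n : ℕ} (hn : 3 ≤ n)
    (h32 : ¬ (n = 3 ∧ Fintype.card F = 2)) (e : S ≃* Matrix.ProjectiveSpecialLinearGroup (Fin n) F) : False := by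
  have hu : 2 ≤ Fintype.card F := Fintype.one_lt_card
  have hmeo : ∀ x : MulAut S, (Fintype.card F - 1) * orderOf x ≤ Fintype.card F ^ n - 1 := by
    intro x
    have h := (S2262.result (F := F) n (by omega) (by omega) (by omega) h32).1 (MulAut.congr e x)
    have h1 : orderOf (MulAut.congr e x) = orderOf x :=
      orderOf_injective (MulAut.congr e).toMonoidHom (MulAut.congr e).injective x
    rwa [h1] at h
  have hiso : ∀ y : Matrix.ProjectiveSpecialLinearGroup (Fin n) F, p ∣ orderOf y → orderOf y = p := by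
    intro y hy
    have h1 : orderOf (e.symm y) = orderOf y := orderOf_injective e.symm.toMonoidHom e.symm.injective y
    have h2 := H.iso hna (g := e.symm y) (by rwa [h1])
    rwa [h1] at h2
  have hpd : p ∣ Nat.card (Matrix.ProjectiveSpecialLinearGroup (Fin n) F) := by
    rw [← Nat.card_congr e.toEquiv]; exact H.dvd
  have hk : (Fintype.card F - 1) * (p ^ 2 - 1) ≤ 2 * (Fintype.card F ^ n - 1) := by
    obtain ⟨x, -, hx⟩ := H.kill'
    calc (Fintype.card F - 1) * (p ^ 2 - 1) ≤ (Fintype.card F - 1) * (2 * orderOf x) := Nat.mul_le_mul_left _ hx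
      _ = 2 * ((Fintype.card F - 1) * orderOf x) := by ring
      _ ≤ 2 * (Fintype.card F ^ n - 1) := Nat.mul_le_mul_left _ (hmeo x)
  by_cases h4 : 4 ≤ n
  · exact iso_four H.hp H.hp2 h4 hpd hiso hk
  obtain rfl : n = 3 := by omega
  obtain ⟨hF4, hpp⟩ := iso_three H.hp H.hp2 (fun h => h32 ⟨rfl, h⟩) hpd hiso hk
  obtain ⟨x, hxX, hx⟩ := H.kill
  have hx2 := hmeo x
  rw [hF4] at hx2
  have hx3 : p ^ m - 1 ≤ 42 := by
    have : (4 : ℕ) ^ 3 = 64 := by norm_num
    omega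
  have hle : 25 ≤ p ^ m := H.le_q
  have hdvd : ∀ s : ℕ, s.Prime → s ∣ Nat.card S → s = p ∨ s ∣ p ^ m - 1 ∨ s ∣ p ^ m + 1 := fun s h1 h2 =>
    H.prime_dvd hna h1 h2
  have hcard : Nat.card S = Nat.card (Matrix.ProjectiveSpecialLinearGroup (Fin 3) F) := Nat.card_congr e.toEquiv
  have hord : ∀ k, k ∈ Set.range (orderOf : Matrix.ProjectiveSpecialLinearGroup (Fin 3) F → ℕ) → k ∣ Nat.card S := by
    rintro _ ⟨y, rfl⟩
    rw [hcard]
    exact orderOf_dvd_natCard y
  obtain ⟨ℓ, hℓc⟩ := CharP.exists F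
  have hℓ : ℓ.Prime := CharP.char_is_prime F ℓ
  have hFℓ := Fact.mk hℓ
  have hspec := S2476.result (F := F) ℓ
  rw [hspec] at hord
  simp only [hF4] at hord
  have h7 : 7 ∣ Nat.card S := hord 7 (by left; decide)
  have h5 : 5 ∣ Nat.card S := hord 5 (by right; left; decide)
  have hm1 : m ≤ 3 := by
    by_contra hcon
    have h1 : p ^ 4 ≤ p ^ m := Nat.pow_le_pow_right H.hp.pos (by omega)
    have h3 := H.three_le
    have h2 : 3 ^ 4 ≤ p ^ 4 := Nat.pow_le_pow_left h3 4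
    omega
  have hm2 := H.hm
  have h75 := hdvd 7 (by norm_num) h7
  have h55 := hdvd 5 (by norm_num) h5
  rcases hpp with rfl | rfl
  · have : m = 2 ∨ m = 3 := by omega
    rcases this with rfl | rfl
    · norm_num at hle
    · revert h55; decide
  · have : m = 2 ∨ m = 3 := by omega
    rcases this with rfl | rfl
    · revert h75; decide
    · norm_num at hx3

end Cfsg.Agent.H372.PglPsl
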