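import Mathlib

/-!
# Numbers for the row `PSU_n(u)` of the recognition of `PGL_2(q)` (S3447)
-/

set_option autoImplicit false

namespace Cfsg.Agent.H372.PglPsuNum

theorem core1 {u w : ℕ} (hu : 4 ≤ u) (hX : u ^ 4 ≤ w + 1) :
    (u + 1) ^ 2 * (2 * u * (w + 1 + u + 2) + 1) < w ^ 2 := by
  obtain ⟨a, rfl⟩ : ∃ a, u = a + 4 := ⟨u - 4, by omega⟩
  obtain ⟨b, hb⟩ : ∃ b, w = a ^ 4 + 16 * a ^ 3 + 96 * a ^ 2 + 256 * a + 255 + b := by
    refine ⟨w - (a ^ 4 + 16 * a ^ 3 + 96 * a ^ 2 + 256 * a + 255), ?_⟩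
    have h1 : (a + 4) ^ 4 = a ^ 4 + 16 * a ^ 3 + 96 * a ^ 2 + 256 * a + 255 + 1 := by ring
    omega
  subst hb
  have h : (a ^ 4 + 16 * a ^ 3 + 96 * a ^ 2 + 256 * a + 255 + b) ^ 2 =
      (a + 4 + 1) ^ 2 * (2 * (a + 4) * (a ^ 4 + 16 * a ^ 3 + 96 * a ^ 2 + 256 * a + 255 + b + 1 + (a + 4) + 2) + 1) +
      (a ^ 8 + 30 * a ^ 7 + 388 * a ^ 6 + 2814 * a ^ 5 + 2 * a ^ 4 * b + 12436 * a ^ 4 + 30 * a ^ 3 * b + 33912 * a ^ 3 + 164 * a ^ 2 * b + 54549 * a ^ 2 + 382 * a * b + 45090 * a + b ^ 2 + 310 * b + 12600) := by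
    ring
  rw [h]
  omega

theorem core2 {u X w : ℕ} (hu : 5 ≤ u) (hX : u ^ 4 ≤ X) (hw : u * X = w + 1) :
    (u + 1) ^ 4 * (2 * u * (X + u + 2) + 1) < w ^ 2 := by
  obtain ⟨a, rfl⟩ : ∃ a, u = a + 5 := ⟨u - 5, by omega⟩
  obtain ⟨b, rfl⟩ : ∃ b, X = (a + 5) ^ 4 + b := ⟨X - (a + 5) ^ 4, by omega⟩
  have hw2 : w = a ^ 5 + 25 * a ^ 4 + 250 * a ^ 3 + 1250 * a ^ 2 + 3125 * a + 3124 + (a + 5) * b := by
    have : (a + 5) * ((a + 5) ^ 4 + b) =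
        a ^ 5 + 25 * a ^ 4 + 250 * a ^ 3 + 1250 * a ^ 2 + 3125 * a + 3124 + (a + 5) * b + 1 := by ring
    omega
  subst hw2
  have h : (a ^ 5 + 25 * a ^ 4 + 250 * a ^ 3 + 1250 * a ^ 2 + 3125 * a + 3124 + (a + 5) * b) ^ 2 =
      (a + 5 + 1) ^ 4 * (2 * (a + 5) * ((a + 5) ^ 4 + b + (a + 5) + 2) + 1) +
      (a ^ 10 + 48 * a ^ 9 + 1027 * a ^ 8 + 12868 * a ^ 7 + 2 * a ^ 6 * b + 104220 * a ^ 6 + 58 * a ^ 5 * b + 567384 * a ^ 5 + 692 * a ^ 4 * b + 2087071 * a ^ 4 + 4328 * a ^ 3 * b + 5057884 * a ^ 3 + a ^ 2 * b ^ 2 + 14862 * a ^ 2 * b + 7546961 * a ^ 2 + 10 * a * b ^ 2 + 26266 * a * b + 5932552 * a + 25 * b ^ 2 + 18280 * b + 1567360) := by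
    ring
  rw [h]
  omega

/-- `4 f ≤ 2 u` -/
theorem four_mul_le {u f ℓ : ℕ} (hℓ : 2 ≤ ℓ) (hf : 1 ≤ f) (hu : u = ℓ ^ f) : 4 * f ≤ 2 * u := by
  have h1 : 2 ^ f ≤ u := by rw [hu]; exact Nat.pow_le_pow_left hℓ f
  have h2 : 2 * f ≤ 2 ^ f := by
    clear hu h1
    induction f, hf using Nat.le_induction with
    | base => norm_num
    | succ k hk ih => rw [pow_succ]; omega
  omega

/-- the numbers in the second torus -/
theorem far1_num {u n f p : ℕ} (hu : 2 ≤ u) (hn : 4 ≤ n) (hdvd : (u + 1) ∣ n) (hf : 4 * f ≤ 2 * u)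
    (hN : u ^ (n - 1) - 1 ≤ (u + 1) * p) (hk : p ^ 2 ≤ 4 * f * (u ^ (n - 1) + u + 2) + 1) :
    (n = 4 ∧ u = 3) ∨ (n = 6 ∧ u = 2) := by
  set X := u ^ (n - 1) with hX
  have hX1 : 1 ≤ X := Nat.one_le_pow _ _ (by omega)
  obtain ⟨w, hw⟩ : ∃ w, X = w + 1 := ⟨X - 1, by omega⟩
  have h1 : w ^ 2 ≤ (u + 1) ^ 2 * (2 * u * (w + 1 + u + 2) + 1) := by
    calc w ^ 2 ≤ ((u + 1) * p) ^ 2 := Nat.pow_le_pow_left (by omega) 2
      _ = (u + 1) ^ 2 * p ^ 2 := by ring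
      _ ≤ (u + 1) ^ 2 * (4 * f * (X + u + 2) + 1) := Nat.mul_le_mul_left _ hk
      _ ≤ (u + 1) ^ 2 * (2 * u * (w + 1 + u + 2) + 1) := by
        apply Nat.mul_le_mul_left
        rw [hw]
        have := Nat.mul_le_mul_right (w + 1 + u + 2) hf
        omega
  obtain ⟨k, hk'⟩ := hdvd
  have hk0 : 1 ≤ k := by
    rcases Nat.eq_zero_or_pos k with h | h
    · rw [h] at hk'; omega
    · exact h
  by_cases h4 : 4 ≤ u
  · exfalso
    have h2 : u ^ 4 ≤ w + 1 := by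
      rw [← hw, hX]
      apply Nat.pow_le_pow_right (by omega)
      have : (u + 1) * 1 ≤ (u + 1) * k := Nat.mul_le_mul_left _ hk0
      omega
    have := core1 h4 h2
    omega
  have hu23 : u = 2 ∨ u = 3 := by omega
  rcases hu23 with rfl | rfl
  · by_cases h6 : n = 6
    · exact Or.inr ⟨h6, rfl⟩
    exfalso
    have hn9 : 9 ≤ n := by omega
    have h2 : 2 ^ 8 ≤ w + 1 := by
      rw [← hw, hX]
      exact Nat.pow_le_pow_right (by omega) (by omega)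
    norm_num at h2 h1
    nlinarith
  · by_cases h6 : n = 4
    · exact Or.inl ⟨h6, rfl⟩
    exfalso
    have hn9 : 8 ≤ n := by omega
    have h2 : 3 ^ 7 ≤ w + 1 := by
      rw [← hw, hX]
      exact Nat.pow_le_pow_right (by omega) (by omega)
    norm_num at h2 h1
    nlinarith

/-- the numbers in the first torus, `n ≥ 5` -/
theorem far2_num {u n f p : ℕ} (hu : 2 ≤ u) (hn : 5 ≤ n) (hf : 4 * f ≤ 2 * u)
    (hN : u * u ^ (n - 1) - 1 ≤ (u + 1) * (p * Nat.gcd n (u + 1)))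
    (hk : p ^ 2 ≤ 4 * f * (u ^ (n - 1) + u + 2) + 1) :
    (n = 5 ∧ u = 4) ∨ (n = 6 ∧ u = 2) := by
  set X := u ^ (n - 1) with hX
  have hX1 : 1 ≤ X := Nat.one_le_pow _ _ (by omega)
  have hd1 : Nat.gcd n (u + 1) ≤ u + 1 := Nat.gcd_le_right _ (by omega)
  have h1 : ∀ d, Nat.gcd n (u + 1) ≤ d → (u * X - 1) ^ 2 ≤ (u + 1) ^ 2 * d ^ 2 * (2 * u * (X + u + 2) + 1) := by
    intro d hd
    calc (u * X - 1) ^ 2 ≤ ((u + 1) * (p * d)) ^ 2 := by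
          apply Nat.pow_le_pow_left
          exact hN.trans (Nat.mul_le_mul_left _ (Nat.mul_le_mul_left _ hd))
      _ = (u + 1) ^ 2 * d ^ 2 * p ^ 2 := by ring
      _ ≤ (u + 1) ^ 2 * d ^ 2 * (4 * f * (X + u + 2) + 1) := Nat.mul_le_mul_left _ hk
      _ ≤ (u + 1) ^ 2 * d ^ 2 * (2 * u * (X + u + 2) + 1) := by
        apply Nat.mul_le_mul_left
        have := Nat.mul_le_mul_right (X + u + 2) hf
        omega
  by_cases h5 : 5 ≤ u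
  · exfalso
    have h2 : u ^ 4 ≤ X := Nat.pow_le_pow_right (by omega) (by omega)
    have h3 : 1 ≤ u * X := Nat.mul_pos (by omega) hX1
    have h4 := core2 h5 h2 (w := u * X - 1) (by omega)
    have h6 := h1 (u + 1) hd1
    have h7 : (u + 1) ^ 2 * (u + 1) ^ 2 = (u + 1) ^ 4 := by ring
    rw [h7] at h6
    omega
  have hu234 : u = 2 ∨ u = 3 ∨ u = 4 := by omega
  rcases hu234 with rfl | rfl | rfl
  · by_cases h6 : n = 6
    · exact Or.inr ⟨h6, rfl⟩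
    exfalso
    by_cases h3 : 3 ∣ n
    · have hn9 : 9 ≤ n := by omega
      have h2 : 2 ^ 8 ≤ X := Nat.pow_le_pow_right (by omega) (by omega)
      have h4 := h1 3 (by omega)
      obtain ⟨b, hb⟩ : ∃ b, X = 256 + b := ⟨X - 256, by omega⟩
      rw [hb] at h4
      have h7 : 2 * (256 + b) - 1 = 511 + 2 * b := by omega
      rw [h7] at h4
      nlinarith
    · have hg : Nat.gcd n (2 + 1) = 1 := by
        rw [Nat.gcd_comm]
        exact (Nat.Prime.coprime_iff_not_dvd Nat.prime_three).2 h3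
      have h2 : 2 ^ 4 ≤ X := Nat.pow_le_pow_right (by omega) (by omega)
      have h4 := h1 1 (by omega)
      obtain ⟨b, hb⟩ : ∃ b, X = 16 + b := ⟨X - 16, by omega⟩
      rw [hb] at h4
      have h7 : 2 * (16 + b) - 1 = 31 + 2 * b := by omega
      rw [h7] at h4
      nlinarith
  · exfalso
    by_cases h6 : n = 5
    · subst h6
      have h4 := h1 1 (by decide)
      norm_num [hX] at h4
    · have h2 : 3 ^ 5 ≤ X := Nat.pow_le_pow_right (by omega) (by omega)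
      have h4 := h1 4 hd1
      obtain ⟨b, hb⟩ : ∃ b, X = 243 + b := ⟨X - 243, by omega⟩
      rw [hb] at h4
      have h7 : 3 * (243 + b) - 1 = 728 + 3 * b := by omega
      rw [h7] at h4
      nlinarith
  · by_cases h6 : n = 5
    · exact Or.inl ⟨h6, rfl⟩
    exfalso
    have h2 : 4 ^ 5 ≤ X := Nat.pow_le_pow_right (by omega) (by omega)
    have h4 := h1 5 hd1
    obtain ⟨b, hb⟩ : ∃ b, X = 1024 + b := ⟨X - 1024, by omega⟩
    rw [hb] at h4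
    have h7 : 4 * (1024 + b) - 1 = 4095 + 4 * b := by omega
    rw [h7] at h4
    nlinarith

/-- the numbers for `n = 4` -/
theorem four_num {u f p : ℕ} (hu : 3 ≤ u) (hf : 4 * f ≤ 2 * u)
    (hN : u ^ 4 - 1 ≤ (u + 1) * (p * Nat.gcd 4 (u + 1)))
    (hk : p ^ 2 ≤ 4 * f * (u ^ 3 + 1) + 1) : u = 3 := by
  by_contra hne
  have h1 : ∀ d, Nat.gcd 4 (u + 1) ≤ d → (u ^ 4 - 1) ^ 2 ≤ (u + 1) ^ 2 * (d ^ 2 * (2 * u * (u ^ 3 + 1) + 1)) := by
    intro d hd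
    calc (u ^ 4 - 1) ^ 2 ≤ ((u + 1) * (p * d)) ^ 2 := by
          apply Nat.pow_le_pow_left
          exact hN.trans (Nat.mul_le_mul_left _ (Nat.mul_le_mul_left _ hd))
      _ = (u + 1) ^ 2 * (d ^ 2 * p ^ 2) := by ring
      _ ≤ (u + 1) ^ 2 * (d ^ 2 * (2 * u * (u ^ 3 + 1) + 1)) := by
        apply Nat.mul_le_mul_left
        apply Nat.mul_le_mul_left
        have := Nat.mul_le_mul_right (u ^ 3 + 1) hf
        omega
  by_cases h7 : 7 ≤ u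
  · have h2 := h1 4 (Nat.gcd_le_left _ (by norm_num))
    obtain ⟨a, rfl⟩ : ∃ a, u = a + 7 := ⟨u - 7, by omega⟩
    have h3 : (a + 7) ^ 4 - 1 = (a + 7 + 1) * ((a + 6) * ((a + 7) ^ 2 + 1)) := by
      have : (a + 7) ^ 4 = (a + 7 + 1) * ((a + 6) * ((a + 7) ^ 2 + 1)) + 1 := by ring
      omega
    rw [h3, mul_pow] at h2
    have h4 := Nat.le_of_mul_le_mul_left h2 (by positivity)
    have h5 : ((a + 6) * ((a + 7) ^ 2 + 1)) ^ 2 = 4 ^ 2 * (2 * (a + 7) * ((a + 7) ^ 3 + 1) + 1) +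
      (a ^ 6 + 40 * a ^ 5 + 636 * a ^ 4 + 5064 * a ^ 3 + 20548 * a ^ 2 + 36464 * a + 12928) := by ring
    omega
  · have : u = 4 ∨ u = 5 ∨ u = 6 := by omega
    rcases this with rfl | rfl | rfl
    · have h2 := h1 1 (by decide)
      norm_num at h2
    · have h2 := h1 2 (by decide)
      norm_num at h2
    · have h2 := h1 1 (by decide)
      norm_num at h2

/-- the numbers for `n = 3`, `f = 1` -/
theorem three_num_one {u p : ℕ} (hu : 3 ≤ u)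
    (hN : u ^ 3 + 1 ≤ (u + 1) * (p * Nat.gcd 3 (u + 1)))
    (hk : p ^ 2 ≤ 4 * (u ^ 2 + u) + 1) : u = 3 ∨ u = 5 := by
  obtain ⟨a, rfl⟩ : ∃ a, u = a + 3 := ⟨u - 3, by omega⟩
  have h1 : (a + 3) ^ 3 + 1 = (a + 3 + 1) * (a ^ 2 + 5 * a + 7) := by ring
  rw [h1] at hN
  have h2 : a ^ 2 + 5 * a + 7 ≤ p * Nat.gcd 3 (a + 3 + 1) := Nat.le_of_mul_le_mul_left hN (by omega)
  have h3 : (a ^ 2 + 5 * a + 7) ^ 2 ≤ (Nat.gcd 3 (a + 3 + 1)) ^ 2 * (4 * ((a + 3) ^ 2 + (a + 3)) + 1) := by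
    calc (a ^ 2 + 5 * a + 7) ^ 2 ≤ (p * Nat.gcd 3 (a + 3 + 1)) ^ 2 := Nat.pow_le_pow_left h2 2
      _ = (Nat.gcd 3 (a + 3 + 1)) ^ 2 * p ^ 2 := by ring
      _ ≤ _ := Nat.mul_le_mul_left _ hk
  have hg3 : Nat.gcd 3 (a + 3 + 1) ≤ 3 := Nat.gcd_le_left _ (by norm_num)
  by_cases h5 : 5 ≤ a
  · exfalso
    obtain ⟨b, rfl⟩ : ∃ b, a = b + 5 := ⟨a - 5, by omega⟩
    have h4 : (Nat.gcd 3 (b + 5 + 3 + 1)) ^ 2 * (4 * ((b + 5 + 3) ^ 2 + (b + 5 + 3)) + 1) ≤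
        9 * (4 * ((b + 5 + 3) ^ 2 + (b + 5 + 3)) + 1) := by
      apply Nat.mul_le_mul_right
      calc (Nat.gcd 3 (b + 5 + 3 + 1)) ^ 2 ≤ 3 ^ 2 := Nat.pow_le_pow_left hg3 2
        _ = 9 := by norm_num
    nlinarith [sq_nonneg b]
  · have : a = 0 ∨ a = 1 ∨ a = 2 ∨ a = 3 ∨ a = 4 := by omega
    rcases this with rfl | rfl | rfl | rfl | rfl
    · exact Or.inl rfl
    · exfalso; revert h3; decide
    · exact Or.inr rfl
    · exfalso; revert h3; decide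
    · exfalso; revert h3; decide

/-- the numbers for `n = 3`, `f ≥ 2` -/
theorem three_num_two {u p ℓ f : ℕ} (hℓ : 2 ≤ ℓ) (hf : 2 ≤ f) (hu : u = ℓ ^ f)
    (hN : u ^ 3 + 1 ≤ (u + 1) * (p * Nat.gcd 3 (u + 1)))
    (hk : p ^ 2 ≤ 4 * f * (u ^ 2 - 1) + 1) : u = 8 ∧ f = 3 := by
  have h1 : u ^ 3 + 1 = (u + 1) * (u ^ 2 - u + 1) := by
    have h4 : 4 ≤ u := by
      calc 4 = 2 ^ 2 := rfl
        _ ≤ ℓ ^ 2 := Nat.pow_le_pow_left hℓ 2
        _ ≤ u := by rw [hu]; exact Nat.pow_le_pow_right (by omega) hf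
    obtain ⟨a, rfl⟩ : ∃ a, u = a + 1 := ⟨u - 1, by omega⟩
    have : (a + 1) ^ 2 - (a + 1) = a ^ 2 + a := by
      have : (a + 1) ^ 2 = a ^ 2 + a + (a + 1) := by ring
      omega
    rw [this]; ring
  rw [h1] at hN
  have h2 : u ^ 2 - u + 1 ≤ p * Nat.gcd 3 (u + 1) := Nat.le_of_mul_le_mul_left hN (by omega)
  have h3 : (u ^ 2 - u + 1) ^ 2 ≤ (Nat.gcd 3 (u + 1)) ^ 2 * (4 * f * (u ^ 2 - 1) + 1) := by
    calc (u ^ 2 - u + 1) ^ 2 ≤ (p * Nat.gcd 3 (u + 1)) ^ 2 := Nat.pow_le_pow_left h2 2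
      _ = (Nat.gcd 3 (u + 1)) ^ 2 * p ^ 2 := by ring
      _ ≤ _ := Nat.mul_le_mul_left _ hk
  have hg3 : (Nat.gcd 3 (u + 1)) ^ 2 ≤ 9 := by
    calc (Nat.gcd 3 (u + 1)) ^ 2 ≤ 3 ^ 2 := Nat.pow_le_pow_left (Nat.gcd_le_left _ (by norm_num)) 2
      _ = 9 := by norm_num
  have h9 : (u ^ 2 - u + 1) ^ 2 ≤ 9 * (4 * f * (u ^ 2 - 1) + 1) := h3.trans (Nat.mul_le_mul_right _ hg3)
  -- `f = 2`
  by_cases hf2 : f = 2
  · exfalso
    subst hf2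
    have hg : Nat.gcd 3 (u + 1) = 1 := by
      apply (Nat.Prime.coprime_iff_not_dvd Nat.prime_three).2
      rw [hu]
      intro h
      have h5 : ℓ ^ 2 % 3 = 0 ∨ ℓ ^ 2 % 3 = 1 := by
        have : ℓ % 3 = 0 ∨ ℓ % 3 = 1 ∨ ℓ % 3 = 2 := by omega
        rcases this with h | h | h <;> simp [Nat.pow_mod, h]
      omega
    rw [hg] at h3
    have h4 : 4 ≤ u := by
      calc 4 = 2 ^ 2 := rfl
        _ ≤ ℓ ^ 2 := Nat.pow_le_pow_left hℓ 2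
        _ = u := hu.symm
    obtain ⟨a, ha⟩ : ∃ a, u = a + 4 := ⟨u - 4, by omega⟩
    rw [ha] at h3
    have e1 : (a + 4) ^ 2 - (a + 4) + 1 = a ^ 2 + 7 * a + 13 := by
      have : (a + 4) ^ 2 = a ^ 2 + 7 * a + 12 + (a + 4) := by ring
      omega
    have e2 : (a + 4) ^ 2 - 1 = a ^ 2 + 8 * a + 15 := by
      have : (a + 4) ^ 2 = a ^ 2 + 8 * a + 15 + 1 := by ring
      omega
    rw [e1, e2] at h3
    nlinarith
  by_cases hf3 : f = 3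
  · by_cases hℓ2 : ℓ = 2
    · exact ⟨by rw [hu, hℓ2, hf3]; norm_num, hf3⟩
    exfalso
    subst hf3
    have h4 : 27 ≤ u := by
      calc 27 = 3 ^ 3 := rfl
        _ ≤ ℓ ^ 3 := Nat.pow_le_pow_left (by omega) 3
        _ = u := hu.symm
    obtain ⟨a, ha⟩ : ∃ a, u = a + 27 := ⟨u - 27, by omega⟩
    rw [ha] at h9
    have e1 : (a + 27) ^ 2 - (a + 27) + 1 = a ^ 2 + 53 * a + 703 := by
      have : (a + 27) ^ 2 = a ^ 2 + 53 * a + 702 + (a + 27) := by ring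
      omega
    have e2 : (a + 27) ^ 2 - 1 = a ^ 2 + 54 * a + 728 := by
      have : (a + 27) ^ 2 = a ^ 2 + 54 * a + 728 + 1 := by ring
      omega
    rw [e1, e2] at h9
    nlinarith
  · exfalso
    have hf4 : 4 ≤ f := by omega
    have h4 : 4 * f ≤ u := by
      have h5 : 2 ^ f ≤ u := by rw [hu]; exact Nat.pow_le_pow_left hℓ f
      have h6 : 4 * f ≤ 2 ^ f := by
        clear hk h3 h9 hf hu hf2 hf3 h5
        induction f, hf4 using Nat.le_induction with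
        | base => norm_num
        | succ k hk ih => rw [pow_succ]; omega
      omega
    obtain ⟨a, ha⟩ : ∃ a, u = a + 16 := ⟨u - 16, by omega⟩
    have h7 : 9 * (4 * f * (u ^ 2 - 1) + 1) ≤ 9 * (u * (u ^ 2 - 1) + 1) := by
      have := Nat.mul_le_mul_right (u ^ 2 - 1) h4
      omega
    have h8 := h9.trans h7
    rw [ha] at h8
    have e1 : (a + 16) ^ 2 - (a + 16) + 1 = a ^ 2 + 31 * a + 241 := by
      have : (a + 16) ^ 2 = a ^ 2 + 31 * a + 240 + (a + 16) := by ring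
      omega
    have e2 : (a + 16) ^ 2 - 1 = a ^ 2 + 32 * a + 255 := by
      have : (a + 16) ^ 2 = a ^ 2 + 32 * a + 255 + 1 := by ring
      omega
    rw [e1, e2] at h8
    have h10 : (a ^ 2 + 31 * a + 241) ^ 2 = 9 * ((a + 16) * (a ^ 2 + 32 * a + 255) + 1) +
      (a ^ 4 + 53 * a ^ 3 + 1011 * a ^ 2 + 8039 * a + 21352) := by ring
    omega

end Cfsg.Agent.H372.PglPsuNum
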