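import Cfsg.Agent.H948.UMain
import Cfsg.Agent.H202.Psu
import Cfsg.Agent.Lib.FieldAutCard

/-!
# Torus elements of `PSU_n(u)` and a bound for the orders of the automorphisms (helper372)

* `exists_sing` : an element `x` of `PSU_n(u)` with `u ^ n - (-1) ^ n ∣ (u + 1) * (|x| * gcd (n, u + 1))`;
* `exists_ext` : an element `x` of `PSU_n(u)` with `u ^ (n-1) - (-1) ^ (n-1) ∣ |x| * gcd (n, u + 1)`;
* `orderOf_aut_dvd` : the order of an automorphism divides `2 f |g|`, `g ∈ PGU_n(u)`, `u = ℓ ^ f`.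
-/

set_option autoImplicit false

namespace Cfsg.Agent.H372.PsuTor

open Cfsg Matrix
open Cfsg.Agent.LieClassical.HermBasic Cfsg.Agent.H948.UBase Cfsg.Agent.H948.UProd Cfsg.Agent.H948.UTorus
  Cfsg.Agent.H948.UMain

section tor
open Cfsg.Agent.ClassicalGeometry.PSUAutBasic (pr)
variable {F : Type*} [Field F] [Fintype F] {u : ℕ} {hF : Fintype.card F = u ^ 2}

/-- the power `k` of an isometry with trivial image in `PSU` is scalar -/
theorem exists_psu_of_iso {V : Type*} [AddCommGroup V] [Module F V] [FiniteDimensional F V]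
    {B : V →ₛₗ[cj hF] V →ₗ[F] F} (hB : IsHerm hF B) {n : ℕ} (hn : Module.finrank F V = n) (hn3 : 3 ≤ n)
    {T : Module.End F V} (hT : Iso B T) (hd : LinearMap.det T = 1) :
    ∃ x : PSU n F u, IsScal (T ^ orderOf x) := by
  obtain ⟨e, he⟩ := exists_coord hB hn
  refine ⟨pr n F u (suHom e he (⟨T, hT, hd⟩ : isoM B)), ?_⟩
  have h := pow_orderOf_eq_one (pr n F u (suHom e he (⟨T, hT, hd⟩ : isoM B)))
  rw [← map_pow, ← map_pow, pr_suHom_eq_one_iff hn3] at h
  exact h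

theorem finite_C {m : ℕ} (t : Tor hF m) : Finite t.C := by
  apply Nat.finite_of_card_ne_zero
  rw [t.card]
  unfold ph
  have := two_le hF
  split_ifs
  · omega
  · have : u ^ 1 ≤ u ^ (m - 1 + 1) := Nat.pow_le_pow_right (by omega) (by omega)
    rw [pow_one] at this
    omega

/-- the Singer type elements of `PSU_n(u)` -/
theorem exists_sing (hF : Fintype.card F = u ^ 2) {n : ℕ} (hn : 3 ≤ n) :
    ∃ x : PSU n F u, ph u (n - 1) ∣ (u + 1) * (orderOf x * Nat.gcd n (u + 1)) := by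
  obtain ⟨t⟩ := exists_tor hF (m := n) (by omega)
  have hfin : Finite t.C := finite_C t
  obtain ⟨z, hz⟩ := IsCyclic.exists_ofOrder_eq_natCard (α := t.C)
  rw [t.card] at hz
  have hdet : LinearMap.det (t.ρ (z ^ (u + 1))) = 1 := by
    rw [map_pow, map_pow]
    exact det_norm t.herm (t.iso z)
  obtain ⟨x, hx⟩ := exists_psu_of_iso t.herm t.dim hn (t.iso (z ^ (u + 1))) hdet
  refine ⟨x, ?_⟩
  rw [← hz]
  apply orderOf_dvd_of_pow_eq_one
  obtain ⟨c, hc⟩ := hx
  set w := (z ^ (u + 1)) ^ orderOf x with hw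
  have h1 : ∀ v, t.ρ w v = c • v := fun v => by
    rw [hw, map_pow]; exact hc v
  obtain ⟨v₀, hv₀⟩ := exists_ne_zero (by omega) t
  have h2 : c ^ (u + 1) = 1 := norm_of_scal t.herm (t.iso w) h1 hv₀
  have h0 : t.ρ w = c • (1 : Module.End F t.V) := LinearMap.ext fun v => by
    rw [h1, LinearMap.smul_apply, Module.End.one_apply]
  have h4 : c ^ n = 1 := by
    have h5 : LinearMap.det (t.ρ w) = 1 := by
      rw [hw, map_pow, map_pow, hdet, one_pow]
    rw [h0, LinearMap.det_smul, map_one, mul_one, t.dim] at h5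
    exact h5
  have h6 : c ^ Nat.gcd n (u + 1) = 1 := pow_gcd_eq_one.2 ⟨h4, h2⟩
  rw [pow_mul, pow_mul, ← hw]
  apply t.inj
  rw [map_one, map_pow, h0, smul_pow, one_pow, h6, one_smul]

/-- the elements of `PSU_n(u)` in the torus of order `u ^ (n-1) - (-1) ^ (n-1)` -/
theorem exists_ext (hF : Fintype.card F = u ^ 2) {n : ℕ} (hn : 3 ≤ n) :
    ∃ x : PSU n F u, ph u (n - 2) ∣ orderOf x * Nat.gcd n (u + 1) := by
  obtain ⟨m, rfl⟩ : ∃ m, n = m + 1 := ⟨n - 1, by omega⟩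
  have e1 : m + 1 - 2 = m - 1 := by omega
  rw [e1]
  obtain ⟨t⟩ := exists_tor hF (m := m) (by omega)
  have hfin : Finite t.C := finite_C t
  obtain ⟨z, hz⟩ := IsCyclic.exists_ofOrder_eq_natCard (α := t.C)
  rw [t.card] at hz
  obtain ⟨x, hx⟩ := exists_psu_of_iso (isHerm_prod t.herm isHerm_one) (finrank_ext t) (by omega) (iso_ext t z)
    (det_ext t z)
  refine ⟨x, ?_⟩
  rw [← hz]
  apply orderOf_dvd_of_pow_eq_one
  rw [ext_pow] at hx
  obtain ⟨c, hc⟩ := hx
  set w := z ^ orderOf x with hw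
  have h1 : ∀ v, t.ρ w v = c • v := fun v => by
    have := congrArg Prod.fst (hc (v, 0))
    exact this
  obtain ⟨v₀, hv₀⟩ := exists_ne_zero (by omega) t
  have h2 : c ^ (u + 1) = 1 := norm_of_scal t.herm (t.iso w) h1 hv₀
  have h3 : (LinearMap.det (t.ρ w))⁻¹ = c := by
    have := congrArg Prod.snd (hc (0, 1))
    simpa [H948.UMain.ext] using this
  have h0 : t.ρ w = c • (1 : Module.End F t.V) := LinearMap.ext fun v => by
    rw [h1, LinearMap.smul_apply, Module.End.one_apply]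
  have h4 : LinearMap.det (t.ρ w) = c ^ m := by
    rw [h0, LinearMap.det_smul, map_one, mul_one, t.dim]
  have h5 : c ^ (m + 1) = 1 := by
    rw [pow_succ, ← h4, ← h3, mul_inv_cancel₀ (det_ne_zero t w)]
  have h6 : c ^ Nat.gcd (m + 1) (u + 1) = 1 := pow_gcd_eq_one.2 ⟨h5, h2⟩
  rw [pow_mul, ← hw]
  apply t.inj
  rw [map_one, map_pow, h0, smul_pow, one_pow, h6, one_smul]

end tor

section aut

open Cfsg.Agent.ClassicalGeometry.UnitAutBasic (pr pr_surjective)
open Cfsg.Agent.Schreier.PSU Cfsg.Agent.ClassicalGeometry.PSUAutCount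

variable {F : Type*} [Field F] [Fintype F] {q n : ℕ}

/-- every ring automorphism of a field with `ℓ ^ k` elements has order dividing `k` -/
theorem ringAut_pow {ℓ k : ℕ} (hℓ : ℓ.Prime) (hk : 1 ≤ k) (hF : Fintype.card F = ℓ ^ k) (ρ : F ≃+* F) : ρ ^ k = 1 := by
  have := Fact.mk hℓ
  have hfin : Finite (F ≃+* F) := Finite.of_injective (fun α : F ≃+* F => (α : F → F)) DFunLike.coe_injective
  have h1 := Lib.FieldAutCard.card_ringAut hk hF
  rw [← h1]
  exact pow_card_eq_one'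

/-- **the orders of the automorphisms of `PSU_n(q)`** -/
theorem orderOf_aut_dvd (hF : Fintype.card F = q ^ 2) (hn : 3 ≤ n) (h32 : ¬ (n = 3 ∧ q = 2)) {ℓ f : ℕ}
    (hℓ : ℓ.Prime) (hf : 1 ≤ f) (hq : q = ℓ ^ f) (x : MulAut (PSU n F q)) :
    ∃ g : (↥(GU n F q) ⧸ Subgroup.center ↥(GU n F q)), orderOf x ∣ 2 * f * orderOf g := by
  obtain ⟨A, ρ, rfl⟩ := ClassicalGeometry.PSUAutMain.exists_toAut hF hn h32 x
  have hN := H202.Psu.inndiag_normal hF hn h32 (n := n)
  have hρ : ρ ^ (2 * f) = 1 := ringAut_pow hℓ (by omega) (by rw [hF, hq, ← pow_mul, mul_comm]) ρ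
  have h1 : (toAut A ρ : MulAut (PSU n F q)) ^ (2 * f) ∈ inndiagPSU n F q := by
    rw [← QuotientGroup.eq_one_iff, QuotientGroup.mk_pow, toAut_eq, QuotientGroup.mk_mul]
    have h2 : ((f₁ A : MulAut (PSU n F q)) : MulAut (PSU n F q) ⧸ inndiagPSU n F q) = 1 := by
      rw [QuotientGroup.eq_one_iff, H202.Psu.inndiag_eq]
      exact ⟨A, rfl⟩
    rw [h2, one_mul, ← QuotientGroup.mk_pow, ← map_pow, hρ, map_one, QuotientGroup.mk_one]
  rw [H202.Psu.inndiag_eq] at h1
  obtain ⟨B, hB⟩ := h1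
  refine ⟨(B : ↥(GU n F q) ⧸ Subgroup.center ↥(GU n F q)), ?_⟩
  apply orderOf_dvd_of_pow_eq_one
  rw [pow_mul, ← hB, ← map_pow]
  have h3 : B ^ orderOf (B : ↥(GU n F q) ⧸ Subgroup.center ↥(GU n F q)) ∈ Subgroup.center ↥(GU n F q) := by
    rw [← QuotientGroup.eq_one_iff, QuotientGroup.mk_pow, pow_orderOf_eq_one]
  set C := B ^ orderOf (B : ↥(GU n F q) ⧸ Subgroup.center ↥(GU n F q)) with hC
  ext y
  obtain ⟨s, rfl⟩ := pr_surjective y
  have h4 : semiConj C 1 s = s := by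
    apply Cfsg.Agent.LieClassical.HermSiegel.mat_injective
    rw [H202.Psu.mat_semiConj_one]
    let s' : GU n F q := ⟨Matrix.SpecialLinearGroup.toGL s.1, s.2⟩
    have h5 : C * s' = s' * C := (Subgroup.mem_center_iff.1 h3 s').symm
    have h6 : gm C * gm s' = gm s' * gm C := by rw [← gm_mul, ← gm_mul, h5]
    change gm C * gm s' * gm C⁻¹ = gm s'
    rw [h6, mul_assoc, gm_mul_inv, mul_one]
  change pr n F q (semiConj C 1 s) = _
  rw [h4]
  rfl

end aut

end Cfsg.Agent.H372.PsuTor
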