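import Cfsg.Agent.H369.PglSit
import Cfsg.Agent.H372.PsuTor
import Cfsg.Agent.H372.PglPsuNum
import Cfsg.Agent.S0280
import Cfsg.Agent.S2263
import Cfsg.Agent.S2366
import Cfsg.Agent.S2603

/-!
# Row `PSU_n(u)`, `n ≥ 3`, of the recognition of `PGL_2(q)` by spectrum (S3447)
-/

set_option autoImplicit false

namespace Cfsg.Agent.H372.PglPsu

open Cfsg Cfsg.Agent.H369.Pgl Cfsg.Agent.H948.UProd Cfsg.Agent.H948.UBase Cfsg.Agent.H948.UMain
open Cfsg.Agent.H564.NearTwo Cfsg.Agent.H94.PG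

variable {F : Type} [Field F] [Fintype F] {n u : ℕ}

/-- an isolated prime of exponent `p` is not near `2` -/
theorem not_near {G : Type*} [Group G] {p : ℕ} (hp : p.Prime) (hp2 : p ≠ 2)
    (hiso : ∀ y : G, p ∣ orderOf y → orderOf y = p) : ¬ Near G p := by
  have key : ∀ s, ¬ Adj G p s := by
    rintro s ⟨-, hs, hne, x, y, hx, hy, hc⟩
    have hcop : (orderOf x).Coprime (orderOf y) := by
      rw [hx, hy]; exact (Nat.coprime_primes hp hs).2 hne
    have h1 := hc.orderOf_mul_eq_mul_orderOf_of_coprime hcop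
    rw [hx, hy] at h1
    have h2 := hiso (x * y) (by rw [h1]; exact Dvd.intro _ rfl)
    rw [h1] at h2
    have h3 := hp.pos
    have h4 := hs.two_le
    nlinarith
  rintro (h | h | ⟨s, h, -⟩)
  · exact hp2 h
  · exact key 2 h
  · exact key s h

theorem add_one_dvd_ph (hu : 1 ≤ u) (i : ℕ) : u + 1 ∣ ph u i := by
  unfold ph
  split_ifs with h
  · have : Odd (i + 1) := h.add_one
    have h1 := this.nat_add_dvd_pow_add_pow u 1
    rwa [one_pow] at h1
  · have h0 : Even (i + 1) := by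
      rw [Nat.even_add_one]; exact h
    obtain ⟨k, hk⟩ := h0
    have h1 : u ^ (i + 1) - 1 = (u ^ 2) ^ k - 1 ^ k := by
      rw [one_pow, ← pow_mul]; congr 2; omega
    rw [h1]
    have h2 : u ^ 2 - 1 ∣ (u ^ 2) ^ k - 1 ^ k := Nat.sub_dvd_pow_sub_pow _ _ _
    refine dvd_trans ?_ h2
    obtain ⟨v, rfl⟩ : ∃ v, u = v + 1 := ⟨u - 1, by omega⟩
    exact ⟨v, by
      have : (v + 1) ^ 2 = (v + 1 + 1) * v + 1 := by ring
      omega⟩

theorem ph_le (i : ℕ) : u ^ (i + 1) - 1 ≤ ph u i := by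
  unfold ph
  split_ifs
  · omega
  · exact le_rfl

/-- the automorphisms of order prime to `|Out|` are inner -/
theorem inner_of_coprime (hF : Fintype.card F = u ^ 2) (hn : 3 ≤ n) (h32 : ¬ (n = 3 ∧ u = 2)) {ℓ f : ℕ}
    (hℓ : ℓ.Prime) (hf : 1 ≤ f) (hq : u = ℓ ^ f) {x : MulAut (PSU n F u)}
    (hc : (orderOf x).Coprime (Nat.gcd n (u + 1) * (2 * f))) : ∃ g, x = MulAut.conj g := by
  have := Fact.mk hℓ
  obtain ⟨φ, hφ, -, hk⟩ := S2603.result hf hq hF hn h32
  have hfin : NeZero (2 * f) := ⟨by omega⟩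
  have h1 : Nat.card (Out (PSU n F u)) = Nat.gcd n (u + 1) * (2 * f) := by
    rw [← Subgroup.card_mul_index φ.ker, hk, Subgroup.index_ker, MonoidHom.range_eq_top.2 hφ, Subgroup.card_top,
      Nat.card_eq_of_bijective Multiplicative.toAdd Multiplicative.toAdd.bijective, Nat.card_zmod]
  have h2 : ((x : Out (PSU n F u)) : Out (PSU n F u)) = 1 := by
    rw [← orderOf_eq_one_iff]
    have h3 : orderOf (x : Out (PSU n F u)) ∣ orderOf x := orderOf_map_dvd (QuotientGroup.mk' (Inn (PSU n F u))) x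
    have h4 : orderOf (x : Out (PSU n F u)) ∣ Nat.gcd n (u + 1) * (2 * f) := by
      rw [← h1]; exact orderOf_dvd_natCard _
    exact Nat.eq_one_of_dvd_coprimes hc h3 h4
  rw [QuotientGroup.eq_one_iff] at h2
  obtain ⟨g, hg⟩ := h2
  exact ⟨g, hg.symm⟩

/-- the maximal element order of `PGU_n(u)` -/
theorem meo (hF : Fintype.card F = u ^ 2) (hn : 3 ≤ n) (h32 : ¬ (n = 3 ∧ u = 2)) {ℓ f : ℕ}
    (hℓ : ℓ.Prime) (hf : 1 ≤ f) (hq : u = ℓ ^ f) (g : (↥(GU n F u) ⧸ Subgroup.center ↥(GU n F u))) :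
    (Odd n → 2 ≤ f → orderOf g ≤ u ^ (n - 1) - 1) ∧ (Odd n → f = 1 → orderOf g ≤ u ^ (n - 1) + u) ∧
    (Even n → 2 < u → orderOf g ≤ u ^ (n - 1) + 1) ∧ orderOf g ≤ u ^ (n - 1) + u + 2 := by
  have h := S2263.result ℓ f n hℓ hf u hq hF hn h32
  obtain ⟨h1, h2, h3, h4⟩ := h
  have hu : 2 ≤ u := by rw [hq]; exact (hℓ.two_le.trans (Nat.le_self_pow (by omega) ℓ))
  have a1 : Odd n → 2 ≤ f → orderOf g ≤ u ^ (n - 1) - 1 := fun ho hf2 => (h1 ho hf2).1 g
  have a2 : Odd n → f = 1 → orderOf g ≤ u ^ (n - 1) + u := by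
    intro ho hf1
    have h5 := (h2 ho hf1).1 g
    have h6 : ℓ = u := by rw [hq, hf1, pow_one]
    rw [h6] at h5
    have h7 : u ^ (n - 1) = u ^ (n - 2) * u := by rw [← pow_succ]; congr 1; omega
    rw [h7]
    calc orderOf g ≤ (u ^ (n - 2) + 1) * u := h5
      _ = _ := by ring
  have a3 : Even n → 2 < u → orderOf g ≤ u ^ (n - 1) + 1 := fun he hu2 => (h3 he hu2).1 g
  refine ⟨a1, a2, a3, ?_⟩
  rcases Nat.even_or_odd n with he | ho
  · by_cases hu2 : u = 2
    · have h5 := (h4 he hu2).1 g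
      generalize orderOf g = o at *
      have hn4 : 4 ≤ n := by
        obtain ⟨k, hk⟩ := he; omega
      have h6 : 2 ^ (n - 1) = 4 * 2 ^ (n - 3) := by
        have : n - 1 = n - 3 + 2 := by omega
        rw [this, pow_add]; ring
      rw [hu2, h6]
      omega
    · have := a3 he (by omega)
      omega
  · by_cases hf1 : f = 1
    · have := a2 ho hf1
      omega
    · have := a1 ho (by omega)
      omega

section core

variable {p m : ℕ} {X : Subgroup (MulAut (PSU n F u))}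

/-- the possible parameters -/
theorem params [Finite (PSU n F u)] [IsSimpleGroup (PSU n F u)] (hna : ¬ IsMulCommutative (PSU n F u))
    (H : Sit (PSU n F u) p m X)
    (hF : Fintype.card F = u ^ 2) (hn : 3 ≤ n) (h32 : ¬ (n = 3 ∧ u = 2)) {ℓ f : ℕ}
    (hℓ : ℓ.Prime) (hf : 1 ≤ f) (hq : u = ℓ ^ f) :
    ((n = 3 ∧ u = 3 ∧ p = 7) ∨ (n = 3 ∧ u = 5 ∧ p = 7) ∨ (n = 3 ∧ u = 8 ∧ p = 19) ∨ (n = 4 ∧ u = 2 ∧ p = 5) ∨
    (n = 4 ∧ u = 3 ∧ p = 5) ∨ (n = 4 ∧ u = 3 ∧ p = 7) ∨ (n = 6 ∧ u = 2 ∧ p = 7) ∨ (n = 6 ∧ u = 2 ∧ p = 11) ∨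
    (n = 5 ∧ u = 4 ∧ p = 41)) := by
  have hu : 2 ≤ u := by rw [hq]; exact (hℓ.two_le.trans (Nat.le_self_pow (by omega) ℓ))
  have hp := H.hp
  have hp3 := H.three_le
  have hiso : ∀ y : PSU n F u, p ∣ orderOf y → orderOf y = p := fun y hy => H.iso hna hy
  have h4f : 4 * f ≤ 2 * u := PglPsuNum.four_mul_le hℓ.two_le hf hq
  have hdiv : Nat.gcd n (u + 1) ∣ u + 1 := Nat.gcd_dvd_right _ _
  -- the automorphism of large order
  obtain ⟨x, hxX, hx⟩ := H.kill'
  obtain ⟨g, hg⟩ := PsuTor.orderOf_aut_dvd hF hn h32 hℓ hf hq x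
  obtain ⟨m1, m2, m3, m4⟩ := meo hF hn h32 hℓ hf hq g
  have hxg : p ^ 2 ≤ 4 * f * orderOf g + 1 := by
    have hfg : 0 < 2 * f * orderOf g := Nat.mul_pos (by omega) (orderOf_pos g)
    have h1 := Nat.le_of_dvd hfg hg
    have h2 : 4 * f * orderOf g = 2 * (2 * f * orderOf g) := by ring
    omega
  have hk4 : p ^ 2 ≤ 4 * f * (u ^ (n - 1) + u + 2) + 1 :=
    hxg.trans (Nat.add_le_add_right (Nat.mul_le_mul_left _ m4) 1)
  rcases near_or hF hn h32 hp H.hp2 H.dvd with h | ⟨h, hu1⟩ | ⟨hn4, ⟨h, hu1⟩, hdn⟩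
  · exact absurd h (not_near hp H.hp2 hiso)
  · obtain ⟨y, hy⟩ := PsuTor.exists_sing hF hn
    have hpy : orderOf y = p := by
      apply hiso
      have h1 : p ∣ orderOf y * Nat.gcd n (u + 1) := (hp.dvd_mul.1 (h.trans hy)).resolve_left hu1
      exact (hp.dvd_mul.1 h1).resolve_right (fun h2 => hu1 (h2.trans hdiv))
    rw [hpy] at hy
    have hpos : 0 < (u + 1) * (p * Nat.gcd n (u + 1)) :=
      Nat.mul_pos (by omega) (Nat.mul_pos hp.pos (Nat.gcd_pos_of_pos_left _ (by omega)))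
    have hN := Nat.le_of_dvd hpos hy
    have e1 : n - 1 + 1 = n := by omega
    by_cases hn5 : 5 ≤ n
    · have h2 : u * u ^ (n - 1) - 1 ≤ (u + 1) * (p * Nat.gcd n (u + 1)) := by
        have h3 := ph_le (u := u) (n - 1)
        rw [pow_succ'] at h3
        exact h3.trans hN
      rcases PglPsuNum.far2_num hu hn5 h4f h2 hk4 with ⟨rfl, rfl⟩ | ⟨rfl, rfl⟩
      · have h3 : ph 4 (5 - 1) = 5 ^ 2 * 41 := by decide
        rw [h3] at h
        rcases hp.dvd_mul.1 h with h5 | h5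
        · exact absurd (hp.dvd_of_dvd_pow h5) hu1
        · have := (Nat.prime_dvd_prime_iff_eq hp (by norm_num)).1 h5
          omega
      · have h3 : ph 2 (6 - 1) = 3 ^ 2 * 7 := by decide
        rw [h3] at h
        rcases hp.dvd_mul.1 h with h5 | h5
        · exact absurd (hp.dvd_of_dvd_pow h5) hu1
        · have := (Nat.prime_dvd_prime_iff_eq hp (by norm_num)).1 h5
          omega
    have hn34 : n = 3 ∨ n = 4 := by omega
    rcases hn34 with rfl | rfl
    · have hu3 : 3 ≤ u := by omega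
      have h3 : ph u (3 - 1) = u ^ 3 + 1 := rfl
      rw [h3] at hN h
      by_cases hf1 : f = 1
      · subst hf1
        have h5 := m2 (by decide) rfl
        have h6 : p ^ 2 ≤ 4 * (u ^ 2 + u) + 1 := by
          have h7 : p ^ 2 ≤ 4 * 1 * (u ^ 2 + u) + 1 := hxg.trans (Nat.add_le_add_right (Nat.mul_le_mul_left _ h5) 1)
          omega
        rcases PglPsuNum.three_num_one hu3 hN h6 with rfl | rfl
        · have h7 : (3 : ℕ) ^ 3 + 1 = (3 + 1) * 7 := by norm_num
          rw [h7] at h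
          have := (Nat.prime_dvd_prime_iff_eq hp (by norm_num)).1 ((hp.dvd_mul.1 h).resolve_left hu1)
          omega
        · have h7 : (5 : ℕ) ^ 3 + 1 = (5 + 1) ^ 2 * 7 / 2 := by norm_num
          have h8 : (5 : ℕ) ^ 3 + 1 = (5 + 1) * (3 * 7) := by norm_num
          rw [h8] at h
          rcases hp.dvd_mul.1 h with h9 | h9
          · exact absurd h9 hu1
          · rcases hp.dvd_mul.1 h9 with h10 | h10
            · exact absurd (h10.trans (by norm_num)) hu1
            · have := (Nat.prime_dvd_prime_iff_eq hp (by norm_num)).1 h10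
              omega
      · have h5 := m1 (by decide) (by omega)
        have h6 : p ^ 2 ≤ 4 * f * (u ^ 2 - 1) + 1 := hxg.trans (Nat.add_le_add_right (Nat.mul_le_mul_left _ h5) 1)
        obtain ⟨rfl, rfl⟩ := PglPsuNum.three_num_two hℓ.two_le (by omega) hq hN h6
        have h8 : (8 : ℕ) ^ 3 + 1 = (8 + 1) * (3 * 19) := by norm_num
        rw [h8] at h
        rcases hp.dvd_mul.1 h with h9 | h9
        · exact absurd h9 hu1
        · rcases hp.dvd_mul.1 h9 with h10 | h10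
          · exact absurd (h10.trans (by norm_num)) hu1
          · have := (Nat.prime_dvd_prime_iff_eq hp (by norm_num)).1 h10
            omega
    · have h3 : ph u (4 - 1) = u ^ 4 - 1 := rfl
      rw [h3] at hN h
      by_cases hu2 : u = 2
      · subst hu2
        have h8 : (2 : ℕ) ^ 4 - 1 = (2 + 1) * 5 := by norm_num
        rw [h8] at h
        have := (Nat.prime_dvd_prime_iff_eq hp (by norm_num)).1 ((hp.dvd_mul.1 h).resolve_left hu1)
        omega
      · have h5 := m3 (by decide) (by omega)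
        have h6 : p ^ 2 ≤ 4 * f * (u ^ 3 + 1) + 1 := hxg.trans (Nat.add_le_add_right (Nat.mul_le_mul_left _ h5) 1)
        have h7 := PglPsuNum.four_num (by omega) h4f hN h6
        subst h7
        have h8 : (3 : ℕ) ^ 4 - 1 = (3 + 1) * (4 * 5) := by norm_num
        rw [h8] at h
        rcases hp.dvd_mul.1 h with h9 | h9
        · exact absurd h9 hu1
        · rcases hp.dvd_mul.1 h9 with h10 | h10
          · exact absurd h10 hu1
          · have := (Nat.prime_dvd_prime_iff_eq hp (by norm_num)).1 h10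
            omega
  · obtain ⟨y, hy⟩ := PsuTor.exists_ext hF hn
    have hpd : ¬ p ∣ Nat.gcd n (u + 1) := fun h2 => hu1 (h2.trans hdiv)
    have hpy : orderOf y = p := hiso _ ((hp.dvd_mul.1 (h.trans hy)).resolve_right hpd)
    rw [hpy] at hy
    have hd0 : 0 < Nat.gcd n (u + 1) := Nat.gcd_pos_of_pos_left _ (by omega)
    have hN : u ^ (n - 1) - 1 ≤ (u + 1) * p := by
      have h3 := ph_le (u := u) (n - 2)
      have e2 : n - 2 + 1 = n - 1 := by omega
      rw [e2] at h3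
      have h5 := Nat.le_of_dvd (Nat.mul_pos hp.pos hd0) hy
      calc u ^ (n - 1) - 1 ≤ p * Nat.gcd n (u + 1) := h3.trans h5
        _ ≤ p * (u + 1) := Nat.mul_le_mul_left _ (Nat.le_of_dvd (by omega) hdiv)
        _ = (u + 1) * p := mul_comm _ _
    rcases PglPsuNum.far1_num hu hn4 hdn h4f hN hk4 with ⟨rfl, rfl⟩ | ⟨rfl, rfl⟩
    · have h3 : ph 3 (4 - 2) = (3 + 1) * 7 := by decide
      rw [h3] at h
      have := (Nat.prime_dvd_prime_iff_eq hp (by norm_num)).1 ((hp.dvd_mul.1 h).resolve_left hu1)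
      omega
    · have h3 : ph 2 (6 - 2) = (2 + 1) * 11 := by decide
      rw [h3] at h
      have := (Nat.prime_dvd_prime_iff_eq hp (by norm_num)).1 ((hp.dvd_mul.1 h).resolve_left hu1)
      omega

/-- the bound for `q` -/
theorem bound [Finite (PSU n F u)] (H : Sit (PSU n F u) p m X)
    (hF : Fintype.card F = u ^ 2) (hn : 3 ≤ n) (h32 : ¬ (n = 3 ∧ u = 2)) {ℓ f : ℕ}
    (hℓ : ℓ.Prime) (hf : 1 ≤ f) (hq : u = ℓ ^ f) :
    p ^ m ≤ 4 * f * (u ^ (n - 1) + u + 2) + 1 ∧ (Even n → 2 < u → p ^ m ≤ 4 * f * (u ^ (n - 1) + 1) + 1) := by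
  obtain ⟨x, hxX, hx⟩ := H.kill
  obtain ⟨g, hg⟩ := PsuTor.orderOf_aut_dvd hF hn h32 hℓ hf hq x
  obtain ⟨m1, m2, m3, m4⟩ := meo hF hn h32 hℓ hf hq g
  have hxg : p ^ m ≤ 4 * f * orderOf g + 1 := by
    have hfg : 0 < 2 * f * orderOf g := Nat.mul_pos (by omega) (orderOf_pos g)
    have h1 := Nat.le_of_dvd hfg hg
    have h2 : 4 * f * orderOf g = 2 * (2 * f * orderOf g) := by ring
    omega
  refine ⟨hxg.trans (Nat.add_le_add_right (Nat.mul_le_mul_left _ m4) 1), fun h1 h2 => ?_⟩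
  exact hxg.trans (Nat.add_le_add_right (Nat.mul_le_mul_left _ (m3 h1 h2)) 1)

/-- the primes of `|PSU_n(u)|` -/
theorem dvd_card (hF : Fintype.card F = u ^ 2) (hn : 3 ≤ n) {s : ℕ} (hs : s.Prime) (hsu : ¬ s ∣ u + 1)
    (h : s ∣ u ^ (n * (n - 1) / 2) * ∏ i ∈ Finset.range n, (if Even i then u ^ (i + 1) + 1 else u ^ (i + 1) - 1)) :
    s ∣ Nat.card (PSU n F u) := by
  rw [← S0280.result hF n (by omega)] at h
  have h1 := (hs.dvd_mul.1 h).resolve_left (fun h2 => hsu (h2.trans (Nat.gcd_dvd_right _ _)))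
  exact (hs.dvd_mul.1 h1).resolve_left hsu

/-- a cyclic Sylow subgroup has an element of its order -/
theorem exists_of_cyclic {G : Type*} [Group G] [Finite G] {s a : ℕ} (hs : s.Prime) (h : ∀ P : Sylow s G, IsCyclic P)
    (ha : s ^ a ∣ Nat.card G) : ∃ g : G, orderOf g = s ^ a := by
  have := Fact.mk hs
  let P : Sylow s G := default
  have hP : IsCyclic P := h P
  obtain ⟨g, hg⟩ := hP.exists_generator
  have h1 : orderOf g = Nat.card P := orderOf_eq_card_of_forall_mem_zpowers hg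
  have h2 : s ^ a ∣ Nat.card P := by
    obtain ⟨Q, hQ⟩ := Sylow.exists_subgroup_card_pow_prime s ha
    have hQp : IsPGroup s Q := IsPGroup.of_card hQ
    obtain ⟨R, hR⟩ := hQp.exists_le_sylow
    rw [← hQ, ← (Sylow.equiv R P).toEquiv |> Nat.card_congr]
    exact Subgroup.card_dvd_of_le hR
  have h3 : s ^ a ∣ orderOf (g : G) := by
    rw [Subgroup.orderOf_coe, h1]
    exact h2
  obtain ⟨c, hc⟩ := h3
  have hc0 : c ≠ 0 := by
    rintro rfl
    rw [mul_zero] at hc
    exact (orderOf_pos (g : G)).ne' hc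
  refine ⟨(g : G) ^ c, ?_⟩
  rw [orderOf_pow_of_dvd hc0 (by rw [hc]; exact Dvd.intro_left _ rfl), hc, Nat.mul_div_cancel _ (Nat.pos_of_ne_zero hc0)]

/-- a numerical contradiction from a prime -/
theorem kill_prime [Finite (PSU n F u)] [IsSimpleGroup (PSU n F u)] (hna : ¬ IsMulCommutative (PSU n F u))
    (H : Sit (PSU n F u) p m X) (hF : Fintype.card F = u ^ 2) (hn : 3 ≤ n) {s : ℕ} (hs : s.Prime)
    (hsu : ¬ s ∣ u + 1)
    (h : s ∣ u ^ (n * (n - 1) / 2) * ∏ i ∈ Finset.range n, (if Even i then u ^ (i + 1) + 1 else u ^ (i + 1) - 1))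
    (hsp : s ≠ p) (h1 : ¬ s ∣ p ^ m - 1) (h2 : ¬ s ∣ p ^ m + 1) : False := by
  rcases H.prime_dvd hna hs (dvd_card hF hn hs hsu h) with h3 | h3 | h3
  · exact hsp h3
  · exact h1 h3
  · exact h2 h3

/-- the row for `PSU` itself -/
theorem core [Finite (PSU n F u)] [IsSimpleGroup (PSU n F u)] (hna : ¬ IsMulCommutative (PSU n F u))
    (H : Sit (PSU n F u) p m X)
    (hF : Fintype.card F = u ^ 2) (hn : 3 ≤ n) (h32 : ¬ (n = 3 ∧ u = 2)) : False := by
  obtain ⟨ℓ, hℓc⟩ := CharP.exists F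
  have hℓ : ℓ.Prime := CharP.char_is_prime F ℓ
  obtain ⟨k, -, hk⟩ := FiniteField.card F ℓ
  obtain ⟨f, -, hq⟩ : ∃ f, f ≤ (k : ℕ) ∧ u = ℓ ^ f := by
    apply (Nat.dvd_prime_pow hℓ).1
    rw [← hk, hF]
    exact dvd_pow_self u (by norm_num)
  have hf : 1 ≤ f := by
    rcases Nat.eq_zero_or_pos f with h0 | h0
    · exfalso
      rw [h0, pow_zero] at hq
      rw [hq] at hF
      have := Fintype.one_lt_card (α := F)
      omega
    · exact h0
  have h4f : 4 * f ≤ 2 * u := PglPsuNum.four_mul_le hℓ.two_le hf hq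
  obtain ⟨b1, b2⟩ := bound H hF hn h32 hℓ hf hq
  have hm := H.hm
  have b1' : p ^ m ≤ 2 * u * (u ^ (n - 1) + u + 2) + 1 :=
    b1.trans (Nat.add_le_add_right (Nat.mul_le_mul_right _ h4f) 1)
  have hm2 : p ^ 3 > 2 * u * (u ^ (n - 1) + u + 2) + 1 → m = 2 := by
    intro h
    by_contra hne
    have : p ^ 3 ≤ p ^ m := Nat.pow_le_pow_right H.hp.pos (by omega)
    omega
  have hcard := S0280.result hF n (by omega)
  rcases params hna H hF hn h32 hℓ hf hq with ⟨rfl, rfl, rfl⟩ | ⟨rfl, rfl, rfl⟩ | ⟨rfl, rfl, rfl⟩ | ⟨rfl, rfl, rfl⟩ |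
    ⟨rfl, rfl, rfl⟩ | ⟨rfl, rfl, rfl⟩ | ⟨rfl, rfl, rfl⟩ | ⟨rfl, rfl, rfl⟩ | ⟨rfl, rfl, rfl⟩
  · -- `U_3(3)`, `p = 7`
    obtain rfl := hm2 (by norm_num)
    have hN : (3 : ℕ) ^ (3 * (3 - 1) / 2) * ∏ i ∈ Finset.range 3, (if Even i then 3 ^ (i + 1) + 1 else 3 ^ (i + 1) - 1) =
      24192 := by decide
    rw [hN] at hcard
    have hg : Nat.gcd 3 (3 + 1) = 1 := by decide
    rw [hg] at hcard
    have hc : Nat.card (PSU 3 F 3) = 6048 := by omega
    have hf1 : f = 1 := by omega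
    rcases H.cases with ⟨x, hx, hxo⟩ | ⟨-, hs⟩
    · have hnn : nn (7 ^ 2) = 25 := by decide
      rw [hnn] at hxo
      obtain ⟨g, rfl⟩ := inner_of_coprime hF hn h32 hℓ hf hq (x := x) (by rw [hxo, hg, hf1]; decide)
      rw [Sit.orderOf_conj hna] at hxo
      have h1 := orderOf_dvd_natCard g
      rw [hxo, hc] at h1
      revert h1; decide
    · obtain ⟨g, hgo⟩ := exists_of_cyclic Nat.prime_three (a := 3)
        (hs 3 Nat.prime_three (Or.inr ⟨by norm_num, by decide⟩)) (by rw [hc]; decide)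
      have h1 := H.specS hna g
      rw [hgo] at h1
      revert h1; decide
  · -- `U_3(5)`, `p = 7`
    obtain rfl := hm2 (by norm_num)
    have hN : (5 : ℕ) ^ (3 * (3 - 1) / 2) * ∏ i ∈ Finset.range 3, (if Even i then 5 ^ (i + 1) + 1 else 5 ^ (i + 1) - 1) =
      2268000 := by decide +kernel
    rw [hN] at hcard
    have hg : Nat.gcd 3 (5 + 1) = 3 := by decide
    rw [hg] at hcard
    have hc : Nat.card (PSU 3 F 5) = 126000 := by omega
    have hf1 : f = 1 := ((Nat.Prime.pow_eq_iff (by norm_num : Nat.Prime 5)).1 hq.symm).2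
    rcases H.cases with ⟨x, hx, hxo⟩ | ⟨-, hs⟩
    · have hnn : nn (7 ^ 2) = 25 := by decide
      rw [hnn] at hxo
      obtain ⟨g, rfl⟩ := inner_of_coprime hF hn h32 hℓ hf hq (x := x) (by rw [hxo, hg, hf1]; decide)
      rw [Sit.orderOf_conj hna] at hxo
      have hℓ5 : ℓ = 5 := by rw [hf1, pow_one] at hq; exact hq.symm
      subst hℓ5
      have := Fact.mk hℓ
      have h1 : orderOf g ∈ Set.range (orderOf : PSU 3 F 5 → ℕ) := ⟨g, rfl⟩
      rw [S2366.result 5 (by norm_num) 5 hF, hxo] at h1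
      simp only [Set.mem_union, Set.mem_ofPred_eq] at h1
      revert h1; decide
    · obtain ⟨g, hgo⟩ := exists_of_cyclic Nat.prime_three (a := 2)
        (hs 3 Nat.prime_three (Or.inr ⟨by norm_num, by decide⟩)) (by rw [hc]; decide)
      have h1 := H.specS hna g
      rw [hgo] at h1
      revert h1; decide
  · -- `U_3(8)`, `p = 19`
    obtain rfl := hm2 (by norm_num)
    exact kill_prime hna H hF hn (s := 7) (by norm_num) (by decide) (by decide) (by decide) (by decide) (by decide)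
  · -- `U_4(2)`, `p = 5`
    obtain rfl := hm2 (by norm_num)
    have hN : (2 : ℕ) ^ (4 * (4 - 1) / 2) * ∏ i ∈ Finset.range 4, (if Even i then 2 ^ (i + 1) + 1 else 2 ^ (i + 1) - 1) =
      77760 := by decide
    rw [hN] at hcard
    have hg : Nat.gcd 4 (2 + 1) = 1 := by decide
    rw [hg] at hcard
    have hc : Nat.card (PSU 4 F 2) = 25920 := by omega
    have hf1 : f = 1 := by omega
    rcases H.cases with ⟨x, hx, hxo⟩ | ⟨-, hs⟩
    · have hnn : nn (5 ^ 2) = 13 := by decide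
      rw [hnn] at hxo
      obtain ⟨g, rfl⟩ := inner_of_coprime hF hn h32 hℓ hf hq (x := x) (by rw [hxo, hg, hf1]; decide)
      rw [Sit.orderOf_conj hna] at hxo
      have h1 := orderOf_dvd_natCard g
      rw [hxo, hc] at h1
      revert h1; decide
    · obtain ⟨g, hgo⟩ := exists_of_cyclic Nat.prime_three (a := 4)
        (hs 3 Nat.prime_three (Or.inr ⟨by norm_num, by decide⟩)) (by rw [hc]; decide)
      have h1 := H.specS hna g
      rw [hgo] at h1
      revert h1; decide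
  · -- `U_4(3)`, `p = 5`
    have hf1 : f = 1 := by omega
    have b3 := b2 (by decide) (by norm_num)
    rw [hf1] at b3
    have hm' : m = 2 := by
      by_contra hne
      have : 5 ^ 3 ≤ 5 ^ m := Nat.pow_le_pow_right (by norm_num) (by omega)
      norm_num at b3 this
      omega
    subst hm'
    exact kill_prime hna H hF hn (s := 7) (by norm_num) (by decide) (by decide) (by decide) (by decide) (by decide)
  · -- `U_4(3)`, `p = 7`
    obtain rfl := hm2 (by norm_num)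
    have hN : (3 : ℕ) ^ (4 * (4 - 1) / 2) * ∏ i ∈ Finset.range 4, (if Even i then 3 ^ (i + 1) + 1 else 3 ^ (i + 1) - 1) =
      52254720 := by decide +kernel
    rw [hN] at hcard
    have hg : Nat.gcd 4 (3 + 1) = 4 := by decide
    rw [hg] at hcard
    have hc : Nat.card (PSU 4 F 3) = 3265920 := by omega
    have hf1 : f = 1 := by omega
    rcases H.cases with ⟨x, hx, hxo⟩ | ⟨-, hs⟩
    · have hnn : nn (7 ^ 2) = 25 := by decide
      rw [hnn] at hxo
      obtain ⟨g, rfl⟩ := inner_of_coprime hF hn h32 hℓ hf hq (x := x) (by rw [hxo, hg, hf1]; decide)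
      rw [Sit.orderOf_conj hna] at hxo
      have h1 := orderOf_dvd_natCard g
      rw [hxo, hc] at h1
      revert h1; decide
    · obtain ⟨g, hgo⟩ := exists_of_cyclic Nat.prime_three (a := 6)
        (hs 3 Nat.prime_three (Or.inr ⟨by norm_num, by decide⟩)) (by rw [hc]; decide)
      have h1 := H.specS hna g
      rw [hgo] at h1
      revert h1; decide
  · -- `U_6(2)`, `p = 7`
    obtain rfl := hm2 (by norm_num)
    exact kill_prime hna H hF hn (s := 11) (by norm_num) (by decide) (by decide +kernel) (by decide) (by decide)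
      (by decide)
  · -- `U_6(2)`, `p = 11`
    obtain rfl := hm2 (by norm_num)
    exact kill_prime hna H hF hn (s := 7) (by norm_num) (by decide) (by decide +kernel) (by decide) (by decide)
      (by decide)
  · -- `U_5(4)`, `p = 41`
    obtain rfl := hm2 (by norm_num)
    exact kill_prime hna H hF hn (s := 13) (by norm_num) (by decide) (by decide +kernel) (by decide) (by decide)
      (by decide)

end core

/-- **Row `PSU_n(u)`, `n ≥ 3`** -/
theorem row_psu {S : Type*} [Group S] [Finite S] [IsSimpleGroup S] (hna : ¬ IsMulCommutative S) {p m : ℕ}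
    {X : Subgroup (MulAut S)} (H : Sit S p m X) {F : Type} [Field F] [Fintype F] {n u : ℕ}
    (hF : Fintype.card F = u ^ 2) (hn : 3 ≤ n) (h32 : ¬ (n = 3 ∧ u = 2)) (e : S ≃* Cfsg.PSU n F u) : False := by
  have h1 : Finite (PSU n F u) := Finite.of_equiv S e.toEquiv
  have h2 : IsSimpleGroup (PSU n F u) := e.symm.isSimpleGroup
  have h3 : ¬ IsMulCommutative (PSU n F u) := by
    intro h
    apply hna
    refine ⟨⟨fun a b => ?_⟩⟩
    apply e.injective
    rw [map_mul, map_mul]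
    exact h.is_comm.comm (e a) (e b)
  exact core h3 (H.congr e) hF hn h32

end Cfsg.Agent.H372.PglPsu
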