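import Cfsg.Agent.H372.Basic

/-!
# Block embeddings of special linear groups and elements of order eight
-/

set_option autoImplicit false

namespace Cfsg.Agent.H372

open Matrix Subgroup

variable {F : Type*} [Field F]

theorem pow_four' {M : Type*} [Monoid M] (x : M) : x ^ 4 = x ^ 2 * x ^ 2 := by rw [← pow_add]

theorem pow_eight' {M : Type*} [Monoid M] (x : M) : x ^ 8 = x ^ 4 * x ^ 4 := by rw [← pow_add]

/-- The order of the image of an element of order eight in a group modulo its centre. -/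
theorem exists_eight_of_hom {X Y : Type*} [Group X] [Group Y] (ψ : X →* Y) (hψ : Function.Injective ψ) {x : X}
    (h8 : x ^ 8 = 1) (h4 : x ^ 4 ∉ center X) : ∃ y : Y ⧸ center Y, orderOf y = 8 := by
  refine ⟨QuotientGroup.mk (ψ x), orderOf_eq_eight ?_ ?_⟩
  · intro h
    rw [← QuotientGroup.mk_pow, QuotientGroup.eq_one_iff, ← map_pow] at h
    apply h4
    rw [mem_center_iff] at h ⊢
    intro g
    exact hψ (by rw [map_mul, map_mul]; exact h (ψ g))
  · rw [← QuotientGroup.mk_pow, ← map_pow, h8, map_one, QuotientGroup.mk_one]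

theorem exists_sl {n : Type*} [Fintype n] [DecidableEq n] {A : Matrix n n F} (h : A.det = 1) :
    ∃ x : Matrix.SpecialLinearGroup n F, (x : Matrix n n F) = A := ⟨⟨A, h⟩, rfl⟩

theorem sl_ext {n : Type*} [Fintype n] [DecidableEq n] {A B : Matrix.SpecialLinearGroup n F}
    (h : (A : Matrix n n F) = B) : A = B :=
  Matrix.SpecialLinearGroup.ext A B fun i j => by rw [h]

/-- Block matrix `diag(A, 1)` of size `m + k`. -/
def blkM (m k : ℕ) (A : Matrix (Fin m) (Fin m) F) : Matrix (Fin (m + k)) (Fin (m + k)) F :=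
  Matrix.reindexAlgEquiv F F finSumFinEquiv (Matrix.fromBlocks A 0 0 1)

theorem blkM_mul (m k : ℕ) (A B : Matrix (Fin m) (Fin m) F) : blkM m k (A * B) = blkM m k A * blkM m k B := by
  rw [blkM, blkM, blkM, ← map_mul, Matrix.fromBlocks_multiply]
  simp

theorem blkM_one (m k : ℕ) : blkM (F := F) m k 1 = 1 := by
  rw [blkM, Matrix.fromBlocks_one, map_one]

theorem det_blkM (m k : ℕ) (A : Matrix (Fin m) (Fin m) F) : (blkM m k A).det = A.det := by
  rw [blkM, Matrix.det_reindexAlgEquiv, Matrix.det_fromBlocks_zero₂₁, Matrix.det_one, mul_one]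

theorem blkM_castAdd (m k : ℕ) (A : Matrix (Fin m) (Fin m) F) (i j : Fin m) :
    blkM m k A (Fin.castAdd k i) (Fin.castAdd k j) = A i j := by
  simp [blkM]

theorem blkM_injective (m k : ℕ) : Function.Injective (blkM (F := F) m k) := by
  intro A B h
  ext i j
  rw [← blkM_castAdd m k A, h, blkM_castAdd]

/-- The block embedding `SL_m → SL_{m+k}`. -/
def blkSL (m k : ℕ) : Matrix.SpecialLinearGroup (Fin m) F →* Matrix.SpecialLinearGroup (Fin (m + k)) F where
  toFun A := ⟨blkM m k A, by rw [det_blkM]; exact A.2⟩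
  map_one' := Subtype.ext (blkM_one m k)
  map_mul' A B := Subtype.ext (blkM_mul m k (A : Matrix (Fin m) (Fin m) F) B)

theorem blkSL_coe (m k : ℕ) (A : Matrix.SpecialLinearGroup (Fin m) F) :
    (blkSL m k A : Matrix (Fin (m + k)) (Fin (m + k)) F) = blkM m k A := rfl

theorem blkSL_injective (m k : ℕ) : Function.Injective (blkSL (F := F) m k) := by
  intro A B h
  exact sl_ext (blkM_injective m k (by rw [← blkSL_coe, h, blkSL_coe]))

/-- A matrix in `SL_n` with a nonzero entry off the diagonal is not central. -/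
theorem not_mem_center_of_entry {n : Type*} [Fintype n] [DecidableEq n] {A : Matrix.SpecialLinearGroup n F} {i j : n}
    (hij : i ≠ j) (h : (A : Matrix n n F) i j ≠ 0) : A ∉ center (Matrix.SpecialLinearGroup n F) := by
  rw [Matrix.SpecialLinearGroup.mem_center_iff]
  rintro ⟨r, -, hr⟩
  apply h
  rw [← hr]
  simp [Matrix.scalar_apply, hij]

/-- A matrix in `SL_n` with two different diagonal entries is not central. -/
theorem not_mem_center_of_diag {n : Type*} [Fintype n] [DecidableEq n] {A : Matrix.SpecialLinearGroup n F} {i j : n}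
    (h : (A : Matrix n n F) i i ≠ (A : Matrix n n F) j j) : A ∉ center (Matrix.SpecialLinearGroup n F) := by
  rw [Matrix.SpecialLinearGroup.mem_center_iff]
  rintro ⟨r, -, hr⟩
  apply h
  rw [← hr]
  simp [Matrix.scalar_apply]

/-- In a finite field one of `-1`, `2`, `-2` is a square. -/
theorem square_cases [Finite F] : (∃ i : F, i ^ 2 = -1) ∨ ∃ e t : F, (e = 1 ∨ e = -1) ∧ t ^ 2 = 2 * e := by
  classical
  have := Fintype.ofFinite F
  by_cases h1 : IsSquare (-1 : F)
  · obtain ⟨i, hi⟩ := h1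
    exact Or.inl ⟨i, by rw [hi]; ring⟩
  by_cases h2 : IsSquare (2 : F)
  · obtain ⟨t, ht⟩ := h2
    exact Or.inr ⟨1, t, Or.inl rfl, by rw [mul_one, ht]; ring⟩
  by_cases h20 : (2 : F) = 0
  · exact absurd (by rw [h20]; exact ⟨0, by ring⟩) h2
  have h3 : IsSquare (-1 * 2 : F) := by
    have hc : ringChar F ≠ 2 := by
      intro h
      apply h20
      have := CharP.cast_eq_zero F (ringChar F)
      rw [h] at this
      exact_mod_cast this
    have e1 : quadraticChar F (-1) = -1 := by
      rcases quadraticChar_dichotomy (F := F) (a := -1) (by simp) with h | h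
      · exact absurd ((quadraticChar_one_iff_isSquare (by simp)).1 h) h1
      · exact h
    have e2 : quadraticChar F 2 = -1 := by
      rcases quadraticChar_dichotomy (F := F) (a := 2) h20 with h | h
      · exact absurd ((quadraticChar_one_iff_isSquare h20).1 h) h2
      · exact h
    rw [← quadraticChar_one_iff_isSquare (by simpa using h20), map_mul, e1, e2]
    norm_num
  obtain ⟨t, ht⟩ := h3
  exact Or.inr ⟨-1, t, Or.inr rfl, by rw [show (2 : F) * -1 = -1 * 2 by ring, ht]; ring⟩

/-- **An element of order eight of `SL₃(F)`**, `F` finite of odd characteristic, whose fourth power is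
`diag(-1,-1,1)`. -/
theorem exists_eight_sl3' [Finite F] : ∃ x : Matrix.SpecialLinearGroup (Fin 3) F,
    (x : Matrix (Fin 3) (Fin 3) F) ^ 4 = !![-1, 0, 0; 0, -1, 0; 0, 0, 1] := by
  rcases square_cases (F := F) with ⟨i, hi⟩ | ⟨e, t, he, ht⟩
  · have hd : (!![0, 1, 0; i, 0, 0; 0, 0, i] : Matrix (Fin 3) (Fin 3) F).det = 1 := by
      rw [Matrix.det_fin_three]
      simp
      linear_combination -hi
    obtain ⟨x, hx⟩ := exists_sl hd
    refine ⟨x, ?_⟩
    have e2 : (!![0, 1, 0; i, 0, 0; 0, 0, i] : Matrix (Fin 3) (Fin 3) F) ^ 2 = !![i, 0, 0; 0, i, 0; 0, 0, -1] := by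
      rw [pow_two, Matrix.mul_fin_three]
      rw [show i * i = -1 by rw [← hi]; ring]
      simp
    rw [hx, pow_four', e2, Matrix.mul_fin_three]
    rw [show i * i = -1 by rw [← hi]; ring]
    simp
  · have he2 : e * e = 1 := by rcases he with rfl | rfl <;> ring
    have ht2 : t * t = 2 * e := by rw [← ht]; ring
    have hd : (!![0, 1, 0; -e, t, 0; 0, 0, e] : Matrix (Fin 3) (Fin 3) F).det = 1 := by
      rw [Matrix.det_fin_three]
      simp
      linear_combination he2
    obtain ⟨x, hx⟩ := exists_sl hd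
    refine ⟨x, ?_⟩
    have e2 : (!![0, 1, 0; -e, t, 0; 0, 0, e] : Matrix (Fin 3) (Fin 3) F) ^ 2 =
        !![-e, t, 0; -(e * t), e, 0; 0, 0, 1] := by
      rw [pow_two, Matrix.mul_fin_three]
      ext a b
      fin_cases a <;> fin_cases b <;> simp
      · ring
      · linear_combination ht2
      · exact he2
    rw [hx, pow_four', e2, Matrix.mul_fin_three]
    ext a b
    fin_cases a <;> fin_cases b <;> simp
    · linear_combination he2 - e * ht2 - 2 * he2
    · ring
    · ring
    · linear_combination he2 - e * ht2 - 2 * he2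

theorem exists_eight_sl3 [Finite F] (h2 : (2 : F) ≠ 0) : ∃ x : Matrix.SpecialLinearGroup (Fin 3) F,
    x ^ 8 = 1 ∧ x ^ 4 ∉ center (Matrix.SpecialLinearGroup (Fin 3) F) := by
  obtain ⟨x, hx⟩ := exists_eight_sl3' (F := F)
  refine ⟨x, ?_, ?_⟩
  · apply sl_ext
    rw [Matrix.SpecialLinearGroup.coe_pow, pow_eight', hx, Matrix.SpecialLinearGroup.coe_one,
      Matrix.mul_fin_three, Matrix.one_fin_three]
    simp
  · apply not_mem_center_of_diag (i := 0) (j := 2)
    rw [Matrix.SpecialLinearGroup.coe_pow, hx]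
    simp
    intro h
    apply h2
    linear_combination -h

/-- The image of a noncentral element of `SL_m` in `SL_{m+k}` is not central. -/
theorem blkSL_not_mem_center {m k : ℕ} {x : Matrix.SpecialLinearGroup (Fin m) F}
    (h : x ∉ center (Matrix.SpecialLinearGroup (Fin m) F)) :
    blkSL m k x ∉ center (Matrix.SpecialLinearGroup (Fin (m + k)) F) := by
  intro hc
  apply h
  rw [Subgroup.mem_center_iff] at hc ⊢
  intro g
  exact blkSL_injective m k (by rw [map_mul, map_mul]; exact hc _)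

/-- **Elements of order eight in `PSL_n(F)`**, `n ≥ 3`, odd characteristic. -/
theorem exists_eight_psl_odd [Finite F] (h2 : (2 : F) ≠ 0) {n : ℕ} (hn : 3 ≤ n) :
    ∃ x : Matrix.ProjectiveSpecialLinearGroup (Fin n) F, orderOf x = 8 := by
  obtain ⟨k, rfl⟩ := Nat.exists_eq_add_of_le hn
  obtain ⟨x, h8, h4⟩ := exists_eight_sl3 (F := F) h2
  exact exists_eight_of_hom (blkSL 3 k) (blkSL_injective 3 k) h8 h4

/-- The regular unipotent matrix of size five. -/
def J5 : Matrix (Fin 5) (Fin 5) F :=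
  !![1, 1, 0, 0, 0; 0, 1, 1, 0, 0; 0, 0, 1, 1, 0; 0, 0, 0, 1, 1; 0, 0, 0, 0, 1]

theorem exists_eight_sl5 (h2 : (2 : F) = 0) : ∃ x : Matrix.SpecialLinearGroup (Fin 5) F,
    x ^ 8 = 1 ∧ x ^ 4 ∉ center (Matrix.SpecialLinearGroup (Fin 5) F) := by
  have hdet : (J5 : Matrix (Fin 5) (Fin 5) F).det = 1 := by
    have ht : (J5 : Matrix (Fin 5) (Fin 5) F).BlockTriangular id := by
      intro i j hij
      fin_cases i <;> fin_cases j <;> first | (exfalso; revert hij; decide) | rfl
    rw [Matrix.det_of_isUpperTriangular ht]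
    simp [J5, Fin.prod_univ_succ]
  have e2 : (J5 : Matrix (Fin 5) (Fin 5) F) ^ 2 =
      !![1, 0, 1, 0, 0; 0, 1, 0, 1, 0; 0, 0, 1, 0, 1; 0, 0, 0, 1, 0; 0, 0, 0, 0, 1] := by
    rw [pow_two, J5]
    ext a b
    fin_cases a <;> fin_cases b <;> simp [Matrix.mul_apply, Fin.sum_univ_succ]
    all_goals rw [one_add_one_eq_two, h2]
  have e4 : (J5 : Matrix (Fin 5) (Fin 5) F) ^ 4 =
      !![1, 0, 0, 0, 1; 0, 1, 0, 0, 0; 0, 0, 1, 0, 0; 0, 0, 0, 1, 0; 0, 0, 0, 0, 1] := by
    rw [pow_four', e2]
    ext a b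
    fin_cases a <;> fin_cases b <;> simp [Matrix.mul_apply, Fin.sum_univ_succ]
    all_goals rw [one_add_one_eq_two, h2]
  obtain ⟨x, hx⟩ := exists_sl hdet
  refine ⟨x, ?_, ?_⟩
  · apply sl_ext
    rw [Matrix.SpecialLinearGroup.coe_pow, Matrix.SpecialLinearGroup.coe_one, hx, pow_eight', e4]
    ext a b
    fin_cases a <;> fin_cases b <;> simp [Matrix.mul_apply, Fin.sum_univ_succ]
    all_goals rw [one_add_one_eq_two, h2]
  · apply not_mem_center_of_entry (i := 0) (j := 4) (by decide)
    rw [Matrix.SpecialLinearGroup.coe_pow, hx, e4]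
    simp

/-- **Elements of order eight in `PSL_n(F)`**, `n ≥ 5`, characteristic two. -/
theorem exists_eight_psl_even (h2 : (2 : F) = 0) {n : ℕ} (hn : 5 ≤ n) :
    ∃ x : Matrix.ProjectiveSpecialLinearGroup (Fin n) F, orderOf x = 8 := by
  obtain ⟨k, rfl⟩ := Nat.exists_eq_add_of_le hn
  obtain ⟨x, h8, h4⟩ := exists_eight_sl5 (F := F) h2
  exact exists_eight_of_hom (blkSL 5 k) (blkSL_injective 5 k) h8 h4

end Cfsg.Agent.H372
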