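import Cfsg.Agent.H372.Unit
import Cfsg.Agent.H372.Alt
import Cfsg.Prelude.Def_Classification2

/-!
# The known simple groups without elements of order `8` and `4 r`
-/

set_option autoImplicit false

namespace Cfsg.Agent.H372

open Matrix Subgroup Cfsg

/-- The list of known simple groups without elements of order `4 k`, `k > 1` (the sporadic groups are not examined). -/
def Listed (S : Type*) [Group S] : Prop :=
  (Nat.card S).Prime ∨
  (∃ n : ℕ, 5 ≤ n ∧ n ≤ 8 ∧ Nonempty (S ≃* alternatingGroup (Fin n))) ∨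
  (∃ (F : Type) (_ : Field F) (_ : Fintype F), 4 ≤ Fintype.card F ∧
    Nonempty (S ≃* Matrix.ProjectiveSpecialLinearGroup (Fin 2) F)) ∨
  (∃ (F : Type) (_ : Field F) (_ : Fintype F), (2 : F) = 0 ∧
    Nonempty (S ≃* Matrix.ProjectiveSpecialLinearGroup (Fin 3) F)) ∨
  (∃ (F : Type) (_ : Field F) (_ : Fintype F), Fintype.card F = 2 ∧
    Nonempty (S ≃* Matrix.ProjectiveSpecialLinearGroup (Fin 4) F)) ∨
  (∃ (F : Type) (_ : Field F) (_ : Fintype F) (k : ℕ), Fintype.card F = (2 ^ k) ^ 2 ∧ 2 ≤ k ∧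
    Nonempty (S ≃* PSU 3 F (2 ^ k))) ∨
  (∃ (F : Type) (_ : Field F) (_ : Fintype F), (2 : F) = 0 ∧ 4 ≤ Fintype.card F ∧ Nonempty (S ≃* PSp 2 F)) ∨
  Lie.IsoSuzuki S ∨ Lie.IsoRee S ∨ IsSporadicGroup S

variable {S : Type*} [Group S]

theorem bad_of_eight (h : ∃ x : S, orderOf x = 8) : Bad S := by
  obtain ⟨x, hx⟩ := h
  exact bad_of_orderOf_eight hx

theorem exists_eight_of_equiv {T : Type*} [Group T] (e : S ≃* T) (h : ∃ x : T, orderOf x = 8) :
    ∃ x : S, orderOf x = 8 := by
  obtain ⟨x, hx⟩ := h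
  exact ⟨e.symm x, by rw [MulEquiv.orderOf_eq, hx]⟩

theorem char_two_or (F : Type*) [Field F] [Finite F] : (2 : F) = 0 ∨ (2 : F) ≠ 0 := em _

/-- A field of characteristic two with more than two elements. -/
theorem exists_ne_one_of_card {F : Type*} [Field F] [Fintype F] (h : Fintype.card F ≠ 2) : ∃ c : F, c ≠ 0 ∧ c ≠ 1 := by
  by_contra hcon
  push Not at hcon
  apply h
  classical
  have h1 : (Finset.univ : Finset F) = {0, 1} := by
    ext c
    simp only [Finset.mem_univ, Finset.mem_insert, Finset.mem_singleton, true_iff]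
    by_cases hc : c = 0
    · exact Or.inl hc
    · exact Or.inr (hcon c hc)
  rw [← Finset.card_univ, h1, Finset.card_pair zero_ne_one]

theorem card_ne_three_of_two {F : Type*} [Field F] [Fintype F] (h2 : (2 : F) = 0) : Fintype.card F ≠ 3 := by
  have hch : CharP F 2 := CharTwo.of_one_ne_zero_of_two_eq_zero one_ne_zero h2
  obtain ⟨k, hprime, hcard⟩ := FiniteField.card F 2
  rw [hcard]
  intro h
  have h3 : 2 ∣ 3 := by rw [← h]; exact dvd_pow_self 2 k.ne_zero
  omega

theorem two_ne_zero_of_odd {F : Type*} [Field F] [Fintype F] (h : Odd (Fintype.card F)) : (2 : F) ≠ 0 := by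
  intro h2
  have hch : CharP F 2 := CharTwo.of_one_ne_zero_of_two_eq_zero one_ne_zero h2
  obtain ⟨k, hprime, hcard⟩ := FiniteField.card F 2
  rw [hcard] at h
  have : Even (2 ^ (k : ℕ)) := (Nat.even_pow.2 ⟨even_two, k.ne_zero⟩)
  exact (Nat.not_even_iff_odd.2 h) this

/-- orthogonal rows -/
theorem exists_eight_isPOmegaOdd (h : IsPOmegaOdd S) : ∃ x : S, orderOf x = 8 := by
  obtain ⟨F, _, _, m, hm, hodd, ⟨e⟩⟩ := h
  exact exists_eight_of_equiv e (exists_eight_omegaOdd (two_ne_zero_of_odd hodd) hm)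

theorem exists_eight_isPOmegaPlus (h : IsPOmegaPlus S) : ∃ x : S, orderOf x = 8 := by
  obtain ⟨F, _, _, m, hm, ⟨e⟩⟩ := h
  apply exists_eight_of_equiv e
  by_cases h2 : (2 : F) = 0
  · rcases Nat.lt_or_ge m 5 with h5 | h5
    · obtain rfl : m = 4 := by omega
      exact exists_eight_omegaPlus_four h2
    · exact exists_eight_omegaPlus_even h2 h5
  · exact exists_eight_omegaPlus_odd h2 (by omega)

theorem exists_eight_isPOmegaMinus (h : IsPOmegaMinus S) : ∃ x : S, orderOf x = 8 := by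
  obtain ⟨F, _, _, m, a, b, hm, hab, ⟨e⟩⟩ := h
  apply exists_eight_of_equiv e
  by_cases h2 : (2 : F) = 0
  · exact exists_eight_omegaMinus_two h2 (by omega) a b hab
  · exact exists_eight_omegaMinus_odd h2 (by omega) a b

theorem exists_charP_odd {F : Type*} [Field F] [Finite F] (h2 : (2 : F) ≠ 0) :
    ∃ p : ℕ, ∃ (_ : Fact p.Prime) (_ : CharP F p), p ≠ 2 := by
  obtain ⟨p, hp⟩ := CharP.exists F
  have hpp : p.Prime := CharP.char_is_prime F p
  refine ⟨p, ⟨hpp⟩, hp, ?_⟩
  rintro rfl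
  exact h2 (by exact_mod_cast CharP.cast_eq_zero F 2)

/-- **The known simple groups which are not `Bad`**, the exceptional groups assumed. -/
theorem listed_of_not_bad (hk : IsKnownSimple' S)
    (hexc : IsExceptionalLieType S → Bad S ∨ Lie.IsoSuzuki S ∨ Lie.IsoRee S) (hb : ¬ Bad S) : Listed S := by
  rcases hk with h | h | h | h | h | h | h | h | h | h
  · exact Or.inl h
  · obtain ⟨n, hn, ⟨e⟩⟩ := h
    right; left
    refine ⟨n, hn, ?_, ⟨e⟩⟩
    by_contra hcon
    exact hb ((bad_alt (by omega)).of_equiv e.symm)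
  · obtain ⟨F, _, _, n, hn, h4, ⟨e⟩⟩ := h
    by_cases h2 : (2 : F) = 0
    · rcases Nat.lt_or_ge n 5 with h5 | h5
      · have : n = 2 ∨ n = 3 ∨ n = 4 := by omega
        rcases this with rfl | rfl | rfl
        · exact Or.inr (Or.inr (Or.inl ⟨F, _, _, h4 rfl, ⟨e⟩⟩))
        · exact Or.inr (Or.inr (Or.inr (Or.inl ⟨F, inferInstance, inferInstance, h2, ⟨e⟩⟩)))
        · by_cases hc : Fintype.card F = 2
          · exact Or.inr (Or.inr (Or.inr (Or.inr (Or.inl ⟨F, _, _, hc, ⟨e⟩⟩))))
          · have hch : CharP F 2 := CharTwo.of_one_ne_zero_of_two_eq_zero one_ne_zero h2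
            exact absurd ((bad_psl_four (exists_ne_one_of_card hc)).of_equiv e.symm) hb
      · exact absurd ((bad_of_eight (exists_eight_psl_even h2 h5)).of_equiv e.symm) hb
    · rcases Nat.lt_or_ge n 3 with h5 | h5
      · obtain rfl : n = 2 := by omega
        exact Or.inr (Or.inr (Or.inl ⟨F, _, _, h4 rfl, ⟨e⟩⟩))
      · exact absurd ((bad_of_eight (exists_eight_psl_odd h2 h5)).of_equiv e.symm) hb
  · obtain ⟨F, _, _, m, hm, h4, ⟨e⟩⟩ := h
    by_cases h2 : (2 : F) = 0
    · have hch : CharP F 2 := CharTwo.of_one_ne_zero_of_two_eq_zero one_ne_zero h2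
      rcases Nat.lt_or_ge m 3 with h5 | h5
      · obtain rfl : m = 2 := by omega
        have h6 := card_ne_three_of_two h2
        have h7 := h4 rfl
        exact Or.inr (Or.inr (Or.inr (Or.inr (Or.inr (Or.inr (Or.inl ⟨F, _, _, h2, by omega, ⟨e⟩⟩))))))
      · exact absurd ((bad_of_eight (exists_eight_psp_even h5)).of_equiv e.symm) hb
    · rcases Nat.lt_or_ge m 3 with h5 | h5
      · obtain rfl : m = 2 := by omega
        obtain ⟨p, _, _, hp⟩ := exists_charP_odd h2
        exact absurd ((bad_psp_two p hp).of_equiv e.symm) hb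
      · exact absurd ((bad_of_eight (exists_eight_psp_odd h2 h5)).of_equiv e.symm) hb
  · obtain ⟨F, _, _, n, q, hF, hn, h32, ⟨e⟩⟩ := h
    by_cases h2 : (2 : F) = 0
    · rcases Nat.lt_or_ge n 4 with h5 | h5
      · obtain rfl : n = 3 := by omega
        have hch : CharP F 2 := CharTwo.of_one_ne_zero_of_two_eq_zero one_ne_zero h2
        obtain ⟨p, k, hp, hchp, hq, hk⟩ := Cfsg.Agent.LieClassical.HermBasic.exists_prime_pow hF
        have hp2 : p = 2 := CharP.eq F hchp hch
        subst hp2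
        have hk2 : 2 ≤ k := by
          by_contra hcon
          apply h32
          refine ⟨rfl, ?_⟩
          rw [hq, show k = 1 by omega]
          norm_num
        subst hq
        exact Or.inr (Or.inr (Or.inr (Or.inr (Or.inr (Or.inl ⟨F, inferInstance, inferInstance, k, hF, hk2, ⟨e⟩⟩)))))
      · exact absurd ((bad_psu_even hF h2 h5).of_equiv e.symm) hb
    · exact absurd ((bad_of_eight (exists_eight_psu_odd hF h2 hn)).of_equiv e.symm) hb
  · exact absurd (bad_of_eight (exists_eight_isPOmegaOdd h)) hb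
  · exact absurd (bad_of_eight (exists_eight_isPOmegaPlus h)) hb
  · exact absurd (bad_of_eight (exists_eight_isPOmegaMinus h)) hb
  · rcases hexc h with h | h | h
    · exact absurd h hb
    · exact Or.inr (Or.inr (Or.inr (Or.inr (Or.inr (Or.inr (Or.inr (Or.inl h)))))))
    · exact Or.inr (Or.inr (Or.inr (Or.inr (Or.inr (Or.inr (Or.inr (Or.inr (Or.inl h))))))))
  · exact Or.inr (Or.inr (Or.inr (Or.inr (Or.inr (Or.inr (Or.inr (Or.inr (Or.inr h))))))))

end Cfsg.Agent.H372
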