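import Cfsg.Agent.H372.FxPsuB
import Cfsg.Agent.H408.PsuFour
import Cfsg.Agent.ClassicalGeometry.PSL2Basic

/-!
# Fixity 3 and 4: `SL_2(q^2) ≤ SU_4(q)` and the centre of the Levi subgroup (rows for helper254)
-/

set_option autoImplicit false
set_option linter.unusedSectionVars false

namespace Cfsg.Agent.H372.FxU

open Matrix Subgroup Cfsg Cfsg.Agent.H254.Fx
open Cfsg.Agent.LieClassical.HermBasic Cfsg.Agent.LieClassical.HermSiegel
open Cfsg.Agent.TitsThree Cfsg.Agent.TitsThree.Siegel Cfsg.Agent.TitsThree.SiegelGen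
  Cfsg.Agent.TitsThree.KSideU
open Cfsg.Agent.Nodes.WittU
open Cfsg.Agent.KFacts.Unit (Frm exists_GL)
open Cfsg.Agent.H408.PsuFour
open Cfsg.Agent.ClassicalGeometry.PSUAutBasic (pr pr_surjective pr_eq_one_iff exists_scalar_of_mem_center)
open Cfsg.Agent.Phan (ext ext_injective ext_comm emb emb_injective sh sh_injective extM extM_mulVec_of_notMem)

variable {F : Type} [Field F] [Fintype F] {q n : ℕ}

theorem exists_frame4 (hF : Fintype.card F = q ^ 2) : ∃ (e f : Fin 2 → (Fin 4 → F)), Frm q e f ∧
    ∀ v, v = ∑ i, hermForm 4 F q v (f i) • e i + ∑ i, hermForm 4 F q v (e i) • f i := by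
  obtain ⟨W, hB, hV⟩ := H408.PsuBase.exists_wframe' hF (N := 4) (m := 2) (Or.inl rfl)
  have hee : ∀ i j, hermForm 4 F q (W.e i) (W.e j) = 0 := W.ee
  have hff : ∀ i j, hermForm 4 F q (W.f i) (W.f j) = 0 := W.ff
  have hef : ∀ i j, hermForm 4 F q (W.e i) (W.f j) = if i = j then 1 else 0 := W.ef
  have hfe : ∀ i j, hermForm 4 F q (W.f i) (W.e j) = if i = j then 1 else 0 := W.fe
  refine ⟨W.e, W.f, ⟨hee, hff, hef⟩, ?_⟩
  intro v
  obtain ⟨x, z, w, hw, rfl⟩ := W.span v
  have hw0 : w = 0 := by
    funext j
    exact hV w hw j (by have := j.2; omega)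
  subst hw0
  simp only [add_zero, herm_add_left, herm_sum_left, herm_smul_left, hee, hff, hef, hfe, mul_ite, mul_one, mul_zero,
    Finset.sum_ite_eq', Finset.mem_univ, if_true, Finset.sum_const_zero, zero_add]

/-- **`SL_2(q^2) ≤ SU_4(q)`** -/
theorem exists_kap (hF : Fintype.card F = q ^ 2) :
    ∃ κ : SpecialLinearGroup (Fin 2) F →* ↥(SU 4 F q), Function.Injective κ ∧
      ∀ a : F, a ^ q = a → a ≠ 0 → ∃ y : ↥(SU 4 F q), (∀ g, κ g * y = y * κ g) ∧
        (∀ k : ℕ, y ^ k = 1 ↔ a ^ k = 1) ∧
        (∀ k : ℕ, y ^ k ∈ Subgroup.center ↥(SU 4 F q) ↔ a ^ (2 * k) = 1) ∧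
        ∀ g k, κ g * y ^ k ∈ Subgroup.center ↥(SU 4 F q) → ∃ c : F, ∀ i j, g.1 i j = if i = j then c else 0 := by
  obtain ⟨e, f, E, hsp⟩ := exists_frame4 (F := F) (q := q) hF
  have he0 : ∀ i, e i ≠ 0 := by
    intro i h
    have h1 := E.ef i i
    rw [h, herm_zero_left, if_pos rfl] at h1
    exact zero_ne_one h1
  have hf0 : ∀ i, f i ≠ 0 := by
    intro i h
    have h1 := E.ef i i
    rw [h, herm_zero_right hF, if_pos rfl] at h1
    exact zero_ne_one h1
  refine ⟨kapHom hF E hsp, ?_, ?_⟩
  · rw [injective_iff_map_eq_one]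
    intro M hM
    have hM' : kap hF E M = 1 := hM
    apply Matrix.SpecialLinearGroup.ext
    intro i j
    have h1 := kap_e hF E M j
    rw [hM', act_one] at h1
    have h2 := E.indep (c := Pi.single j 1) (c' := fun i => (M : Matrix (Fin 2) (Fin 2) F) i j) (by
      rw [← h1]
      simp [Pi.single_apply])
    have h3 := congrFun h2 i
    rw [← h3, Pi.single_apply]
    exact (Matrix.one_apply (i := i) (j := j)).symm
  · intro a ha h0
    obtain ⟨y, hye, hyf⟩ := exists_y hF E ha h0
    have hpe : ∀ k : ℕ, ∀ j, act (y ^ k) (e j) = a ^ k • e j := by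
      intro k
      induction k with
      | zero => intro j; rw [pow_zero, pow_zero, act_one, one_smul]
      | succ k ih => intro j; rw [pow_succ, act_mul, hye, act_smul, ih, smul_smul, pow_succ, mul_comm]
    have hpf : ∀ k : ℕ, ∀ j, act (y ^ k) (f j) = a⁻¹ ^ k • f j := by
      intro k
      induction k with
      | zero => intro j; rw [pow_zero, pow_zero, act_one, one_smul]
      | succ k ih => intro j; rw [pow_succ, act_mul, hyf, act_smul, ih, smul_smul, pow_succ, mul_comm]
    refine ⟨y, ?_, ?_, ?_, ?_⟩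
    · intro M
      change kap hF E M * y = y * kap hF E M
      refine ext4 hsp (fun j => ?_) fun j => ?_
      · rw [act_mul, act_mul, kap_e, hye, act_smul, kap_e, act_sum]
        simp only [act_smul, hye, Fin.sum_univ_two]
        module
      · rw [act_mul, act_mul, kap_f, hyf, act_smul, kap_f, act_sum]
        simp only [act_smul, hyf, Fin.sum_univ_two]
        module
    · intro k
      constructor
      · intro h
        have h1 := hpe k 0
        rw [h, act_one] at h1
        have h2 : (a ^ k - 1) • e 0 = 0 := by rw [sub_smul, one_smul, ← h1, sub_self]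
        rcases smul_eq_zero.1 h2 with h3 | h3
        · exact sub_eq_zero.1 h3
        · exact absurd h3 (he0 0)
      · intro h
        refine ext4 hsp (fun j => ?_) fun j => ?_
        · rw [hpe, h, one_smul, act_one]
        · rw [hpf, inv_pow, h, inv_one, one_smul, act_one]
    · intro k
      constructor
      · intro h
        obtain ⟨c, hc0, -, hc⟩ := exists_scalar_of_mem_center hF (by norm_num) h
        have h1 := hpe k 0
        rw [hc] at h1
        have h2 := hpf k 0
        rw [hc] at h2
        have h3 : c = a ^ k := by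
          have h4 : (c - a ^ k) • e 0 = 0 := by rw [sub_smul, h1, sub_self]
          rcases smul_eq_zero.1 h4 with h5 | h5
          · exact sub_eq_zero.1 h5
          · exact absurd h5 (he0 0)
        have h4 : c = a⁻¹ ^ k := by
          have h4 : (c - a⁻¹ ^ k) • f 0 = 0 := by rw [sub_smul, h2, sub_self]
          rcases smul_eq_zero.1 h4 with h5 | h5
          · exact sub_eq_zero.1 h5
          · exact absurd h5 (hf0 0)
        rw [two_mul, pow_add]
        calc a ^ k * a ^ k = a ^ k * a⁻¹ ^ k := by rw [← h4, h3]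
          _ = 1 := by rw [← mul_pow, mul_inv_cancel₀ h0, one_pow]
      · intro h
        have h1 : a⁻¹ ^ k = a ^ k := by
          rw [inv_pow]
          rw [two_mul, pow_add] at h
          exact inv_eq_of_mul_eq_one_left h
        rw [Subgroup.mem_center_iff]
        intro g
        apply ext_act
        intro v
        have h2 : ∀ v, act (y ^ k) v = a ^ k • v := by
          intro v
          rw [hsp v]
          simp only [act_add, act_sum, act_smul, hpe, hpf, h1, smul_add, Finset.smul_sum]
          congr 1 <;> (refine Finset.sum_congr rfl fun i _ => ?_) <;> rw [smul_comm]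
        rw [act_mul, act_mul, h2, h2, act_smul]
    · intro M k h
      obtain ⟨c, hc0, -, hc⟩ := exists_scalar_of_mem_center hF (by norm_num) h
      have ha0 : a ^ k ≠ 0 := pow_ne_zero _ h0
      refine ⟨(a ^ k)⁻¹ * c, fun i j => ?_⟩
      have h1 := hc (e j)
      have h2 : act (kapHom hF E hsp M * y ^ k) (e j) = ∑ i, (a ^ k * (M : Matrix (Fin 2) (Fin 2) F) i j) • e i := by
        change act (kap hF E M * y ^ k) (e j) = _
        rw [act_mul, hpe, act_smul, kap_e, Finset.smul_sum]
        simp only [smul_smul]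
      rw [h2] at h1
      have h3 := E.indep (c := fun i => a ^ k * (M : Matrix (Fin 2) (Fin 2) F) i j) (c' := Pi.single j c) (by
        rw [h1]
        simp [Pi.single_apply])
      have h4 := congrFun h3 i
      simp only [Pi.single_apply] at h4
      split_ifs with hij
      · rw [if_pos hij] at h4
        rw [← h4, inv_mul_cancel_left₀ ha0]
      · rw [if_neg hij] at h4
        exact (mul_eq_zero.1 h4).resolve_left ha0

theorem card_sl (hF : Fintype.card F = q ^ 2) :
    Nat.card (SpecialLinearGroup (Fin 2) F) = q ^ 2 * (q ^ 4 - 1) := by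
  rw [ClassicalGeometry.PSL2Basic.card_SL2, hF, ← pow_mul]

end Cfsg.Agent.H372.FxU
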