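import Cfsg.Agent.H372.FxPsuD

/-!
# Fixity 3 and 4: `Bad3` for `PSU_n(q)` (rows for helper254)

`bad3_psu` : `Bad3` for `PSU_n(q)`, `n ≥ 5` or `n = 4`, `q ≥ 4`.
-/

set_option autoImplicit false
set_option linter.unusedSectionVars false

namespace Cfsg.Agent.H372.FxU

open Matrix Subgroup Cfsg Cfsg.Agent.H254.Fx
open Cfsg.Agent.LieClassical.HermBasic Cfsg.Agent.LieClassical.HermSiegel
open Cfsg.Agent.LieClassical.SUBasic (suDiag coe_suDiag)
open Cfsg.Agent.ClassicalGeometry.PSUAutBasic (pr pr_surjective pr_eq_one_iff exists_scalar_of_mem_center)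
open Cfsg.Agent.Phan (ext ext_injective ext_comm emb emb_injective sh sh_injective extM extM_mulVec extM_mulVec_of_notMem)

variable {F : Type} [Field F] [Fintype F] {q n : ℕ}

/-- the coordinates `(0, 2)` -/
def c1 (hn : 4 ≤ n) : Fin 2 → Fin n := fun i => ⟨2 * i, by have := i.2; omega⟩

/-- the coordinates `(1, 3)` -/
def c2 (hn : 4 ≤ n) : Fin 2 → Fin n := fun i => ⟨2 * i + 1, by have := i.2; omega⟩

theorem c1_inj (hn : 4 ≤ n) : Function.Injective (c1 hn) := by
  intro i j h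
  have := congrArg Fin.val h
  simp only [c1] at this
  exact Fin.ext (by omega)

theorem c2_inj (hn : 4 ≤ n) : Function.Injective (c2 hn) := by
  intro i j h
  have := congrArg Fin.val h
  simp only [c2] at this
  exact Fin.ext (by omega)

theorem c12 (hn : 4 ≤ n) (i j : Fin 2) : c1 hn i ≠ c2 hn j := by
  intro h
  have := congrArg Fin.val h
  simp only [c1, c2] at this
  omega

/-- `g ↦ 1 ⊗ g` -/
noncomputable def tau (hF : Fintype.card F = q ^ 2) (hn : 4 ≤ n) : ↥(SU 2 F q) →* ↥(SU n F q) :=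
  MonoidHom.mk' (fun g => ext hF (c1 hn) (c1_inj hn) g * ext hF (c2 hn) (c2_inj hn) g) (by
    intro a b
    rw [map_mul, map_mul]
    have h := ext_comm hF (c1_inj hn) (c2_inj hn) (c12 hn) b a
    calc ext hF (c1 hn) (c1_inj hn) a * ext hF (c1 hn) (c1_inj hn) b *
          (ext hF (c2 hn) (c2_inj hn) a * ext hF (c2 hn) (c2_inj hn) b) =
        ext hF (c1 hn) (c1_inj hn) a * (ext hF (c1 hn) (c1_inj hn) b * ext hF (c2 hn) (c2_inj hn) a) *
          ext hF (c2 hn) (c2_inj hn) b := by group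
      _ = _ := by rw [h]; group)

theorem tau_apply (hF : Fintype.card F = q ^ 2) (hn : 4 ≤ n) (g : ↥(SU 2 F q)) :
    tau hF hn g = ext hF (c1 hn) (c1_inj hn) g * ext hF (c2 hn) (c2_inj hn) g := rfl

/-- entries -/
def en (g : ↥(SU 2 F q)) (i j : Fin 2) : F := mat g i j

theorem act2 (g : ↥(SU 2 F q)) (v : Fin 2 → F) (i : Fin 2) : act g v i = en g i 0 * v 0 + en g i 1 * v 1 := by
  rw [act_def, Matrix.mulVec, dotProduct, Fin.sum_univ_two]
  rfl

section Coord

variable (hF : Fintype.card F = q ^ 2) (hn : 4 ≤ n) (g : ↥(SU 2 F q)) (v : Fin n → F)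

theorem e1_0 : act (ext hF (c1 hn) (c1_inj hn) g) v ⟨0, by omega⟩ =
    en g 0 0 * v ⟨0, by omega⟩ + en g 0 1 * v ⟨2, by omega⟩ := by
  have h := act_ext hF (c1_inj hn) g v 0
  rw [act2] at h
  exact h

theorem e1_2 : act (ext hF (c1 hn) (c1_inj hn) g) v ⟨2, by omega⟩ =
    en g 1 0 * v ⟨0, by omega⟩ + en g 1 1 * v ⟨2, by omega⟩ := by
  have h := act_ext hF (c1_inj hn) g v 1
  rw [act2] at h
  exact h

theorem e1_o {i : Fin n} (hi : (i : ℕ) ≠ 0 ∧ (i : ℕ) ≠ 2) : act (ext hF (c1 hn) (c1_inj hn) g) v i = v i := by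
  refine ext_mat_apply hF _ (fun j h => ?_) g v
  have := congrArg Fin.val h
  simp only [c1] at this
  have := j.2
  omega

theorem e2_1 : act (ext hF (c2 hn) (c2_inj hn) g) v ⟨1, by omega⟩ =
    en g 0 0 * v ⟨1, by omega⟩ + en g 0 1 * v ⟨3, by omega⟩ := by
  have h := act_ext hF (c2_inj hn) g v 0
  rw [act2] at h
  exact h

theorem e2_3 : act (ext hF (c2 hn) (c2_inj hn) g) v ⟨3, by omega⟩ =
    en g 1 0 * v ⟨1, by omega⟩ + en g 1 1 * v ⟨3, by omega⟩ := by
  have h := act_ext hF (c2_inj hn) g v 1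
  rw [act2] at h
  exact h

theorem e2_o {i : Fin n} (hi : (i : ℕ) ≠ 1 ∧ (i : ℕ) ≠ 3) : act (ext hF (c2 hn) (c2_inj hn) g) v i = v i := by
  refine ext_mat_apply hF _ (fun j h => ?_) g v
  have := congrArg Fin.val h
  simp only [c2] at this
  have := j.2
  omega

theorem f0_0 : act (emb hF 0 (by omega : 0 + 2 ≤ n) g) v ⟨0, by omega⟩ =
    en g 0 0 * v ⟨0, by omega⟩ + en g 0 1 * v ⟨1, by omega⟩ := by
  have h := act_ext hF (sh_injective 0 (by omega : 0 + 2 ≤ n)) g v 0
  rw [act2] at h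
  exact h

theorem f0_1 : act (emb hF 0 (by omega : 0 + 2 ≤ n) g) v ⟨1, by omega⟩ =
    en g 1 0 * v ⟨0, by omega⟩ + en g 1 1 * v ⟨1, by omega⟩ := by
  have h := act_ext hF (sh_injective 0 (by omega : 0 + 2 ≤ n)) g v 1
  rw [act2] at h
  exact h

theorem f0_o {i : Fin n} (hi : 2 ≤ (i : ℕ)) : act (emb hF 0 (by omega : 0 + 2 ≤ n) g) v i = v i := by
  refine ext_mat_apply hF (sh_injective 0 (by omega : 0 + 2 ≤ n)) (fun j h => ?_) g v
  have := congrArg Fin.val h
  simp only [sh] at this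
  have := j.2
  omega

theorem f2_2 : act (emb hF 2 (by omega : 2 + 2 ≤ n) g) v ⟨2, by omega⟩ =
    en g 0 0 * v ⟨2, by omega⟩ + en g 0 1 * v ⟨3, by omega⟩ := by
  have h := act_ext hF (sh_injective 2 (by omega : 2 + 2 ≤ n)) g v 0
  rw [act2] at h
  exact h

theorem f2_3 : act (emb hF 2 (by omega : 2 + 2 ≤ n) g) v ⟨3, by omega⟩ =
    en g 1 0 * v ⟨2, by omega⟩ + en g 1 1 * v ⟨3, by omega⟩ := by
  have h := act_ext hF (sh_injective 2 (by omega : 2 + 2 ≤ n)) g v 1
  rw [act2] at h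
  exact h

theorem f2_o {i : Fin n} (hi : (i : ℕ) < 2 ∨ 3 < (i : ℕ)) : act (emb hF 2 (by omega : 2 + 2 ≤ n) g) v i = v i := by
  refine ext_mat_apply hF (sh_injective 2 (by omega : 2 + 2 ≤ n)) (fun j h => ?_) g v
  have := congrArg Fin.val h
  simp only [sh] at this
  have := j.2
  omega

end Coord

/-- **`1 ⊗ g` commutes with `a ⊗ 1`** -/
theorem tau_comm (hF : Fintype.card F = q ^ 2) (hn : 4 ≤ n) (g a : ↥(SU 2 F q)) :
    tau hF hn g * (emb hF 0 (by omega) a * emb hF 2 (by omega) a) =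
      (emb hF 0 (by omega) a * emb hF 2 (by omega) a) * tau hF hn g := by
  have hn0 : 0 < n := by omega
  have hn1 : 1 < n := by omega
  have hn2 : 2 < n := by omega
  have hn3 : 3 < n := by omega
  apply ext_act
  intro v
  funext i
  rw [tau_apply]
  simp only [act_mul]
  by_cases h0 : (i : ℕ) = 0
  · obtain rfl : i = ⟨0, hn0⟩ := Fin.ext h0
    rw [e1_0, e2_o _ _ _ _ (by norm_num), e2_o _ _ _ _ (by norm_num), f0_0, f0_o _ (by omega) _ _ (by norm_num),
      f2_o _ (by omega) _ _ (by norm_num), f2_o _ (by omega) _ _ (by norm_num), f2_2, f0_0,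
      f2_o _ (by omega) _ _ (by norm_num), f2_o _ (by omega) _ _ (by norm_num), e1_0, e1_o _ _ _ _ (by norm_num),
      e2_o _ _ _ _ (by norm_num), e2_o _ _ _ _ (by norm_num), e2_1]
    ring
    all_goals exact hn
  by_cases h1 : (i : ℕ) = 1
  · obtain rfl : i = ⟨1, hn1⟩ := Fin.ext h1
    rw [e1_o _ _ _ _ (by norm_num), e2_1, f0_1, f0_o _ (by omega) _ _ (by norm_num),
      f2_o _ (by omega) _ _ (by norm_num), f2_o _ (by omega) _ _ (by norm_num), f2_3, f0_1,
      f2_o _ (by omega) _ _ (by norm_num), f2_o _ (by omega) _ _ (by norm_num), e1_0, e1_o _ _ _ _ (by norm_num),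
      e2_o _ _ _ _ (by norm_num), e2_o _ _ _ _ (by norm_num), e2_1]
    ring
    all_goals exact hn
  by_cases h2 : (i : ℕ) = 2
  · obtain rfl : i = ⟨2, hn2⟩ := Fin.ext h2
    rw [e1_2, e2_o _ _ _ _ (by norm_num), e2_o _ _ _ _ (by norm_num), f0_0, f0_o _ (by omega) _ _ (by norm_num),
      f2_o _ (by omega) _ _ (by norm_num), f2_o _ (by omega) _ _ (by norm_num), f2_2,
      f0_o _ (by omega) _ _ (by norm_num), f2_2, e1_2, e1_o _ _ _ _ (by norm_num),
      e2_o _ _ _ _ (by norm_num), e2_o _ _ _ _ (by norm_num), e2_3]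
    ring
    all_goals exact hn
  by_cases h3 : (i : ℕ) = 3
  · obtain rfl : i = ⟨3, hn3⟩ := Fin.ext h3
    rw [e1_o _ _ _ _ (by norm_num), e2_3, f0_1, f0_o _ (by omega) _ _ (by norm_num),
      f2_o _ (by omega) _ _ (by norm_num), f2_o _ (by omega) _ _ (by norm_num), f2_3,
      f0_o _ (by omega) _ _ (by norm_num), f2_3, e1_2, e1_o _ _ _ _ (by norm_num),
      e2_o _ _ _ _ (by norm_num), e2_o _ _ _ _ (by norm_num), e2_3]
    ring
    all_goals exact hn
  rw [e1_o _ _ _ _ ⟨h0, h2⟩, e2_o _ _ _ _ ⟨h1, h3⟩, f0_o _ (by omega) _ _ (by omega),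
    f2_o _ (by omega) _ _ (by omega), f0_o _ (by omega) _ _ (by omega),
    f2_o _ (by omega) _ _ (by omega), e1_o _ _ _ _ ⟨h0, h2⟩, e2_o _ _ _ _ ⟨h1, h3⟩]

theorem su2_ext {g h : ↥(SU 2 F q)} (H : ∀ i j, en g i j = en h i j) : g = h := by
  apply ext_act
  intro v
  funext i
  rw [act2, act2, H, H]

theorem en_one (i j : Fin 2) : en (1 : ↥(SU 2 F q)) i j = if i = j then 1 else 0 :=
  Matrix.one_apply (i := i) (j := j)

/-- the kernel of `pr ∘ tau` -/
theorem tau_center (hF : Fintype.card F = q ^ 2) (hn : 4 ≤ n) {g : ↥(SU 2 F q)}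
    (h : tau hF hn g ∈ Subgroup.center ↥(SU n F q)) :
    ∃ c : F, c * c = 1 ∧ en g 0 0 = c ∧ en g 1 1 = c ∧ en g 0 1 = 0 ∧ en g 1 0 = 0 := by
  have hn0 : 0 < n := by omega
  have hn2 : 2 < n := by omega
  obtain ⟨c, -, -, hc⟩ := exists_scalar_of_mem_center hF (by omega) h
  have k0 : ∀ v : Fin n → F, en g 0 0 * v ⟨0, hn0⟩ + en g 0 1 * v ⟨2, hn2⟩ = c * v ⟨0, hn0⟩ := by
    intro v
    have h1 := congrFun (hc v) ⟨0, hn0⟩
    rw [tau_apply, act_mul, e1_0 _ hn, e2_o _ hn _ _ (by norm_num), e2_o _ hn _ _ (by norm_num)] at h1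
    exact h1
  have k2 : ∀ v : Fin n → F, en g 1 0 * v ⟨0, hn0⟩ + en g 1 1 * v ⟨2, hn2⟩ = c * v ⟨2, hn2⟩ := by
    intro v
    have h1 := congrFun (hc v) ⟨2, hn2⟩
    rw [tau_apply, act_mul, e1_2 _ hn, e2_o _ hn _ _ (by norm_num), e2_o _ hn _ _ (by norm_num)] at h1
    exact h1
  have h02 : (⟨0, hn0⟩ : Fin n) ≠ ⟨2, hn2⟩ := by simp
  have a1 := k0 (Pi.single ⟨0, hn0⟩ 1)
  have a2 := k0 (Pi.single ⟨2, hn2⟩ 1)
  have a3 := k2 (Pi.single ⟨0, hn0⟩ 1)
  have a4 := k2 (Pi.single ⟨2, hn2⟩ 1)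
  simp only [Pi.single_eq_same, Pi.single_eq_of_ne h02, Pi.single_eq_of_ne h02.symm, mul_one, mul_zero, add_zero,
    zero_add] at a1 a2 a3 a4
  refine ⟨c, ?_, a1, a4, a2, a3⟩
  have hd : (mat g).det = 1 := g.1.2
  rw [Matrix.det_fin_two] at hd
  have h5 : en g 0 0 * en g 1 1 - en g 0 1 * en g 1 0 = 1 := hd
  rw [a1, a2, a3, a4] at h5
  linear_combination h5

theorem even_image (hF : Fintype.card F = q ^ 2) (hn : 4 ≤ n) :
    2 ∣ Nat.card ((tau hF hn).range.map (pr n F q)) := by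
  classical
  rw [← MonoidHom.range_comp]
  set φ := (pr n F q).comp (tau hF hn) with hφ
  have hcard : Nat.card φ.ker * Nat.card φ.range = Nat.card ↥(SU 2 F q) := by
    rw [← Subgroup.index_ker, Subgroup.card_mul_index]
  have hker : ∀ g ∈ φ.ker, ∃ c : F, c * c = 1 ∧ en g 0 0 = c ∧ en g 1 1 = c ∧ en g 0 1 = 0 ∧ en g 1 0 = 0 := by
    intro g hg
    have h1 : pr n F q (tau hF hn g) = 1 := hg
    rw [pr_eq_one_iff] at h1
    exact tau_center hF hn h1
  have hsame : ∀ g ∈ φ.ker, ∀ h ∈ φ.ker, en g 0 0 = en h 0 0 → g = h := by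
    intro g hg h hh he
    obtain ⟨c, -, g1, g2, g3, g4⟩ := hker g hg
    obtain ⟨d, -, h1, h2, h3, h4⟩ := hker h hh
    apply su2_ext
    intro i j
    have hcd : c = d := by rw [← g1, ← h1, he]
    fin_cases i <;> fin_cases j
    · exact he
    · exact g3.trans h3.symm
    · exact g4.trans h4.symm
    · exact (g2.trans hcd).trans h2.symm
  rcases Nat.even_or_odd q with hq | hq
  · -- characteristic 2
    have h2 : (2 : F) = 0 := by
      have h3 : ((q ^ 2 : ℕ) : F) = 0 := by rw [← hF]; exact Nat.cast_card_eq_zero F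
      have h4 : ((q : ℕ) : F) = 0 := by
        rw [Nat.cast_pow] at h3
        exact pow_eq_zero_iff (by norm_num) |>.1 h3
      by_contra h5
      obtain ⟨k, hk⟩ := hq.two_dvd
      have hpr : (ringChar F).Prime := CharP.char_is_prime F (ringChar F)
      have h6 : ringChar F ∣ q := (CharP.cast_eq_zero_iff F (ringChar F) q).1 h4
      -- `q` is a power of the characteristic
      obtain ⟨m, hm, hm'⟩ := FiniteField.card F (ringChar F)
      rw [hF] at hm'
      have h7 : 2 ∣ ringChar F ^ (m : ℕ) := by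
        rw [← hm']
        exact (dvd_pow hq.two_dvd (by norm_num))
      have h8 := Nat.prime_two.dvd_of_dvd_pow h7
      apply h5
      have h9 : ((2 : ℕ) : F) = 0 := by
        have h10 : 2 = ringChar F := (Nat.prime_dvd_prime_iff_eq Nat.prime_two hpr).1 h8
        rw [h10]
        exact CharP.cast_eq_zero F (ringChar F)
      exact_mod_cast h9
    have hk1 : Nat.card φ.ker = 1 := by
      rw [Subgroup.card_eq_one, eq_bot_iff]
      intro g hg
      obtain ⟨c, hc, g1, g2, g3, g4⟩ := hker g hg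
      rw [Subgroup.mem_bot]
      refine hsame g hg 1 (one_mem _) ?_
      rw [g1, en_one, if_pos rfl]
      have h3 : (c - 1) ^ 2 = 0 := by linear_combination hc + (1 - c) * h2
      exact sub_eq_zero.1 (pow_eq_zero_iff (by norm_num) |>.1 h3)
    rw [hk1, one_mul] at hcard
    rw [hcard]
    exact two_dvd hF le_rfl
  · have hle : Nat.card φ.ker ≤ 2 := by
      let f : φ.ker → ↥({1, -1} : Finset F) := fun g => ⟨en g.1 0 0, by
        obtain ⟨c, hc, g1, -⟩ := hker g.1 g.2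
        rw [g1]
        have h3 : (c - 1) * (c + 1) = 0 := by linear_combination hc
        rcases mul_eq_zero.1 h3 with h4 | h4
        · simp [sub_eq_zero.1 h4]
        · simp [eq_neg_of_add_eq_zero_left h4]⟩
      have hf : Function.Injective f := fun g h hgh =>
        Subtype.ext (hsame g.1 g.2 h.1 h.2 (congrArg Subtype.val hgh))
      refine (Nat.card_le_card_of_injective f hf).trans ?_
      rw [Nat.card_eq_fintype_card, Fintype.card_coe]
      exact Finset.card_le_two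
    by_contra h2
    have h8 := eight_dvd_odd hF hq (le_refl 2)
    rw [← hcard] at h8
    have hcop : Nat.Coprime 8 (Nat.card φ.range) := by
      have h3 : Nat.Coprime (2 ^ 3) (Nat.card φ.range) :=
        Nat.Coprime.pow_left 3 ((Nat.Prime.coprime_iff_not_dvd Nat.prime_two).2 h2)
      exact h3
    have h4 := hcop.dvd_of_dvd_mul_right h8
    have h5 := Nat.le_of_dvd Nat.card_pos h4
    omega

/-- **elements of type `(2, 2)`** -/
theorem bad_tau (hF : Fintype.card F = q ^ 2) (hn : 4 ≤ n) (h4 : 4 ≤ q) (a : ↥(SU 2 F q)) :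
    Bad (pr n F q (emb hF 0 (by omega) a * emb hF 2 (by omega) a)) := by
  refine bad_of_hom_perfect (pr n F q) (Y := (tau hF hn).range) ?_ ?_ (even_image hF hn)
  · rintro _ ⟨g, rfl⟩
    exact tau_comm hF hn g a
  · rw [MonoidHom.range_eq_map, ← Subgroup.map_commutator, perfect_su hF h4 le_rfl]

theorem bad_inv {G : Type*} [Group G] {x : G} (h : Bad x) : Bad x⁻¹ := by
  obtain ⟨Y, hY, h1⟩ := h
  exact ⟨Y, by rwa [zpowers_inv], h1⟩

/-- elements of order three of a block -/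
theorem mem_three {G : Type*} [Group G] {a b : G} (ha : orderOf a = 3) (hb : b ∈ zpowers a) :
    b = 1 ∨ b = a ∨ b = a⁻¹ := by
  obtain ⟨n, rfl⟩ := mem_zpowers_iff.1 hb
  have h1 : a ^ n = a ^ (n % 3) := by
    have := zpow_mod_orderOf a n
    rw [ha] at this
    exact this.symm
  rw [h1]
  have h2 : n % 3 = 0 ∨ n % 3 = 1 ∨ n % 3 = 2 := by omega
  rcases h2 with h2 | h2 | h2 <;> rw [h2]
  · left; exact zpow_zero a
  · right; left; exact zpow_one a
  · right; right
    have h3 : a ^ (2 : ℤ) * a = 1 := by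
      have h4 : a ^ 3 = 1 := by rw [← ha, pow_orderOf_eq_one]
      rw [← h4, ← zpow_natCast a 3, show ((3 : ℕ) : ℤ) = 2 + 1 by norm_num, _root_.zpow_add_one]
    exact eq_inv_of_mul_eq_one_left h3

/-- **the case of a Sylow 3-subgroup of order 9** -/
theorem bad3_explicit (hF : Fintype.card F = q ^ 2) (hn : 4 ≤ n) (hn5 : n ≤ 5) (h4 : 4 ≤ q) (h3 : 3 ∣ q - 1)
    (h27 : ¬ 27 ∣ Nat.card (PSU n F q)) : Bad3 (PSU n F q) := by
  have : Fact (Nat.Prime 3) := ⟨Nat.prime_three⟩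
  obtain ⟨α, hα⟩ := exists_emb Nat.prime_three (three_dvd_two hF)
  have h3q : ¬ 3 ∣ q + 1 := by omega
  have h3q' : ¬ 3 ∣ q := by omega
  let f1 : ↥(zpowers α) →* PSU n F q := ((pr n F q).comp (emb hF 0 (by omega))).comp (zpowers α).subtype
  let f2 : ↥(zpowers α) →* PSU n F q := ((pr n F q).comp (emb hF 2 (by omega))).comp (zpowers α).subtype
  have hcomm : ∀ a b : ↥(SU 2 F q), emb hF 0 (by omega : 0 + 2 ≤ n) a * emb hF 2 (by omega : 2 + 2 ≤ n) b =
      emb hF 2 (by omega : 2 + 2 ≤ n) b * emb hF 0 (by omega : 0 + 2 ≤ n) a := fun a b => emb_comm hF _ _ a b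
  have hcf : ∀ a b, Commute (f1 a) (f2 b) := by
    intro a b
    change pr n F q _ * pr n F q _ = pr n F q _ * pr n F q _
    rw [← map_mul, ← map_mul]
    congr 1
    exact hcomm _ _
  let ψ := f1.noncommCoprod f2 hcf
  have hψ : ∀ a b, ψ (a, b) = pr n F q (emb hF 0 (by omega) a.1 * emb hF 2 (by omega) b.1) := fun a b => by
    rw [map_mul]
    rfl
  have hpow3 : ∀ a : ↥(zpowers α), (a : ↥(SU 2 F q)) ^ 3 = 1 := by
    intro a
    obtain ⟨k, hk⟩ := mem_zpowers_iff.1 a.2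
    rw [← hk, ← zpow_natCast, ← _root_.zpow_mul, mul_comm, _root_.zpow_mul]
    have : α ^ ((3 : ℕ) : ℤ) = 1 := by rw [zpow_natCast, ← hα, pow_orderOf_eq_one]
    rw [this, _root_.one_zpow]
  -- elements of order 3 map to elements of order 3
  have hinj : Function.Injective ψ := by
    rw [injective_iff_map_eq_one]
    rintro ⟨a, b⟩ h
    rw [hψ] at h
    have hg : emb hF 0 (by omega : 0 + 2 ≤ n) a.1 * emb hF 2 (by omega : 2 + 2 ≤ n) b.1 = 1 := by
      by_contra hne
      have h5 : orderOf (emb hF 0 (by omega : 0 + 2 ≤ n) a.1 * emb hF 2 (by omega : 2 + 2 ≤ n) b.1) = 3 := by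
        refine orderOf_eq_prime ?_ hne
        rw [(show Commute _ _ from hcomm a.1 b.1).mul_pow, ← map_pow, ← map_pow, hpow3, hpow3, map_one, map_one, mul_one]
      have h6 := orderOf_pr hF (by omega) Nat.prime_three h3q h5
      rw [h, orderOf_one] at h6
      omega
    have h5 : emb hF 0 (by omega : 0 + 2 ≤ n) a.1 = emb hF 2 (by omega : 2 + 2 ≤ n) b.1⁻¹ := by
      rw [map_inv]
      exact eq_inv_of_mul_eq_one_left hg
    have h6 : emb hF 0 (by omega : 0 + 2 ≤ n) a.1 = 1 := by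
      apply ext_act
      intro v
      funext i
      rw [act_one]
      by_cases hi : (i : ℕ) < 2
      · rw [h5]
        exact f2_o hF hn _ _ (Or.inl hi)
      · exact f0_o hF hn _ _ (by omega)
    have h7 : a = 1 := by
      apply Subtype.ext
      exact (injective_iff_map_eq_one _).1 (emb_injective hF 0 (by omega : 0 + 2 ≤ n)) _ h6
    have h8 : b = 1 := by
      apply Subtype.ext
      rw [h6, one_mul] at hg
      exact (injective_iff_map_eq_one _).1 (emb_injective hF 2 (by omega : 2 + 2 ≤ n)) _ hg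
    rw [h7, h8]
    rfl
  have hcard : Nat.card ψ.range = 9 := by
    rw [← Nat.card_congr (MonoidHom.ofInjective hinj).toEquiv, Nat.card_prod, Nat.card_zpowers, hα]
  have hp : IsPGroup 3 ↥ψ.range := IsPGroup.of_card (n := 2) (by rw [hcard]; norm_num)
  obtain ⟨Q, hQ⟩ := hp.exists_le_sylow
  have hQ9 : (Q : Subgroup (PSU n F q)) = ψ.range := by
    symm
    apply Subgroup.eq_of_le_of_card_ge hQ
    rw [hcard]
    obtain ⟨k, hk⟩ := (IsPGroup.iff_card.1 Q.isPGroup')
    rw [hk]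
    have h5 : k ≤ 2 := by
      by_contra hlt
      apply h27
      have h6 : 3 ^ 3 ∣ 3 ^ k := pow_dvd_pow 3 (by omega)
      rw [← hk] at h6
      exact h6.trans (Subgroup.card_subgroup_dvd_card _)
    calc 3 ^ k ≤ 3 ^ 2 := Nat.pow_le_pow_right (by norm_num) h5
      _ = 9 := by norm_num
  -- inversion
  have hα1 : α ≠ 1 := by
    rintro rfl
    rw [orderOf_one] at hα
    omega
  obtain ⟨u, j, hj, hu⟩ := conj_negq hF Nat.prime_three (cast_ne_zero Nat.prime_three hF h3q')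
    (x := α) (by rw [← hα, pow_orderOf_eq_one]) hα1
  have hu' : u * α * u⁻¹ = α⁻¹ := by
    rw [hu]
    have h5 : j % 3 = 2 := by
      have h6 : ((j + q : ℕ) : ZMod 3) = 0 := by rw [Nat.cast_add, hj]; ring
      rw [ZMod.natCast_eq_zero_iff] at h6
      omega
    have h6 : α ^ j = α ^ (j % 3) := by
      have := pow_mod_orderOf α j
      rw [hα] at this
      exact this.symm
    rw [h6, h5]
    have h7 : α ^ 2 * α = 1 := by
      have : α ^ 3 = 1 := by rw [← hα, pow_orderOf_eq_one]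
      rw [← this]
      rfl
    exact eq_inv_of_mul_eq_one_left h7
  have B1 := bad_tau hF hn h4 α
  have B2 : Bad (pr n F q (emb hF 0 (by omega : 0 + 2 ≤ n) α * emb hF 2 (by omega : 2 + 2 ≤ n) α⁻¹)) := by
    have h5 := B1.conj (pr n F q (emb hF 2 (by omega : 2 + 2 ≤ n) u))
    rw [← map_inv, ← map_mul, ← map_mul] at h5
    convert h5 using 2
    rw [← hu', map_mul, map_mul, map_inv]
    calc emb hF 0 (by omega : 0 + 2 ≤ n) α * (emb hF 2 (by omega : 2 + 2 ≤ n) u * emb hF 2 (by omega : 2 + 2 ≤ n) α *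
          (emb hF 2 (by omega : 2 + 2 ≤ n) u)⁻¹) =
        (emb hF 0 (by omega : 0 + 2 ≤ n) α * emb hF 2 (by omega : 2 + 2 ≤ n) u) * emb hF 2 (by omega : 2 + 2 ≤ n) α *
          (emb hF 2 (by omega : 2 + 2 ≤ n) u)⁻¹ := by group
      _ = _ := by rw [hcomm]; group
  refine Or.inl ⟨Q, ?_⟩
  intro x hx hx3
  rw [hQ9] at hx
  obtain ⟨⟨a, b⟩, rfl⟩ := hx
  rw [hψ] at hx3 ⊢
  rcases mem_three hα a.2 with ha | ha | ha <;> rcases mem_three hα b.2 with hb | hb | hb <;> rw [ha, hb] at hx3 ⊢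
  · rw [map_one, map_one, mul_one, map_one, orderOf_one] at hx3
    omega
  · rw [map_one, one_mul]
    exact bad_block' hF (by omega) (by norm_num) (by omega) _ _ (Or.inr ⟨h4, le_rfl⟩)
  · rw [map_one, one_mul]
    exact bad_block' hF (by omega) (by norm_num) (by omega) _ _ (Or.inr ⟨h4, le_rfl⟩)
  · rw [map_one (emb hF 2 _), mul_one]
    exact bad_block hF (by omega) (by norm_num) _ (m := 2) (by omega) _ (Or.inr ⟨h4, le_rfl⟩)
  · exact B1
  · exact B2
  · rw [map_one (emb hF 2 _), mul_one]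
    exact bad_block hF (by omega) (by norm_num) _ (m := 2) (by omega) _ (Or.inr ⟨h4, le_rfl⟩)
  · have h5 := bad_inv B2
    rw [← map_inv] at h5
    convert h5 using 2
    rw [_root_.mul_inv_rev, map_inv, map_inv, inv_inv]
    rw [← map_inv]
    exact hcomm _ _
  · have h5 := bad_inv B1
    rw [← map_inv] at h5
    convert h5 using 2
    rw [_root_.mul_inv_rev, ← map_inv, ← map_inv]
    exact hcomm _ _

end Cfsg.Agent.H372.FxU
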