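import Cfsg.Agent.H372.U3Red
import Cfsg.Agent.H372.U3Spec
import Cfsg.Agent.HKS.EndOrd
import Cfsg.Agent.S2550
import Cfsg.Agent.S2476
import Cfsg.Agent.S2302
import Cfsg.Agent.H390.PslSpec
import Cfsg.Agent.ClassicalGeometry.SLTwoFour
import Cfsg.Agent.H374.SpFour

/-!
# Elimination of the alternating and classical groups
-/

set_option autoImplicit false
set_option linter.unusedSectionVars false

namespace Cfsg.Agent.H372.U3

open Cfsg

theorem Ctx.congr {m : ℕ} {S T : Type*} [Group S] [Group T] (h : Ctx m S) (e : S ≃* T) : Ctx m T := by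
  have hc : Nat.card T = Nat.card S := (Nat.card_congr e.toEquiv).symm
  refine ⟨fun t => ?_, fun hone => ?_, fun v h1 h2 h3 => ?_⟩
  · have := h.om (e.symm t)
    rwa [MulEquiv.orderOf_eq] at this
  · obtain ⟨s, hs⟩ := h.one (fun s t h1 h2 => by
      obtain ⟨c, hc⟩ := hone (e s) (e t) (by rw [MulEquiv.orderOf_eq, h1]) (by rw [MulEquiv.orderOf_eq, h2])
      refine ⟨e.symm c, e.injective ?_⟩
      rw [map_mul, map_mul, map_inv, e.apply_symm_apply, hc])
    exact ⟨e s, by rw [MulEquiv.orderOf_eq, hs]⟩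
  · rw [hc] at h1 h2
    obtain ⟨s, hs⟩ := h.two v h1 h2 h3
    exact ⟨e s, by rw [MulEquiv.orderOf_eq, hs]⟩

section table

variable {m : ℕ} {S : Type*} [Group S] [Finite S] (h : Ctx m S) (hm : 2 ≤ m)
include h hm

theorem Ctx.five (h5 : 5 ∣ Nat.card S) : 2 ∣ m := by
  have hf : Fact (Nat.Prime 5) := ⟨by norm_num⟩
  obtain ⟨x, hx⟩ := exists_prime_orderOf_dvd_card' (G := S) 5 h5
  have := h.om x
  rw [hx] at this
  exact even_of_five (by omega) this

theorem Ctx.seven (h7 : 7 ∣ Nat.card S) : 3 ∣ m := by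
  have hf : Fact (Nat.Prime 7) := ⟨by norm_num⟩
  obtain ⟨x, hx⟩ := exists_prime_orderOf_dvd_card' (G := S) 7 h7
  have := h.om x
  rw [hx] at this
  exact three_of_seven (by omega) this

/-- **The table lemma.** -/
theorem Ctx.table {N : ℕ} (hN : Nat.card S = N) (v : ℕ) (hv : 2 ^ v ∣ N) (hv' : ¬ 2 ^ (v + 1) ∣ N)
    (hchk : ¬ 6 ∣ v ∨ (5 ∣ N ∧ ¬ 4 ∣ v) ∨ (7 ∣ N ∧ ¬ 9 ∣ v)) : nn (2 ^ m) ∣ N ∧
      ∀ p, p.Prime → p ∣ nn (2 ^ m) → 6 ∣ p - 1 ∧ (5 ∣ N → 12 ∣ p - 1) ∧ (7 ∣ N → 18 ∣ p - 1) ∧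
        (5 ∣ N → 7 ∣ N → 36 ∣ p - 1) := by
  subst hN
  constructor
  · obtain ⟨s, hs⟩ := h.two v hv hv' (fun h6 h4 h9 => by
      rcases hchk with h1 | ⟨h1, h2⟩ | ⟨h1, h2⟩
      · exact h1 h6
      · exact h2 (h4 (h.five hm h1))
      · exact h2 (h9 (h.seven hm h1)))
    rw [← hs]
    exact orderOf_dvd_natCard s
  · intro p hp hpn
    obtain ⟨h1, h2, h3, h4⟩ := prime_mod hp hpn
    exact ⟨h1, fun h' => h2 (h.five hm h'), fun h' => h3 (h.seven hm h'),
      fun h' h'' => h4 (h.five hm h') (h.seven hm h'')⟩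

/-- All primes are small. -/
theorem Ctx.table_false {N : ℕ} (hN : Nat.card S = N) (v : ℕ) (hv : 2 ^ v ∣ N) (hv' : ¬ 2 ^ (v + 1) ∣ N)
    (hchk : ¬ 6 ∣ v ∨ (5 ∣ N ∧ ¬ 4 ∣ v) ∨ (7 ∣ N ∧ ¬ 9 ∣ v)) (B j : ℕ) (hB : N ∣ B.factorial ^ j)
    (hB2 : (5 ∣ N ∧ B ≤ 12) ∨ (7 ∣ N ∧ B ≤ 18) ∨ (5 ∣ N ∧ 7 ∣ N ∧ B ≤ 36)) : False := by
  obtain ⟨h1, h2⟩ := h.table hm hN v hv hv' hchk
  have hn := nn_gt hm
  obtain ⟨p, hp, hpn⟩ := Nat.exists_prime_and_dvd (show nn (2 ^ m) ≠ 1 by omega)
  have hpB : p ≤ B := (Nat.Prime.dvd_factorial hp).1 (hp.dvd_of_dvd_pow ((hpn.trans h1).trans hB))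
  obtain ⟨-, h12, h18, h36⟩ := h2 p hp hpn
  have hp1 := hp.two_le
  rcases hB2 with ⟨h5, h6⟩ | ⟨h5, h6⟩ | ⟨h5, h5', h6⟩
  · have := Nat.le_of_dvd (by omega) (h12 h5)
    omega
  · have := Nat.le_of_dvd (by omega) (h18 h5)
    omega
  · have := Nat.le_of_dvd (by omega) (h36 h5 h5')
    omega

theorem Ctx.not_alt {n : ℕ} (h5 : 5 ≤ n) (h8 : n ≤ 8) (e : S ≃* alternatingGroup (Fin n)) : False := by
  have hnt : Nontrivial (Fin n) := Fin.nontrivial_iff_two_le.2 (by omega)
  have hc : Nat.card S = n.factorial / 2 := by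
    rw [Nat.card_congr e.toEquiv, nat_card_alternatingGroup, Nat.card_fin]
  have : n = 5 ∨ n = 6 ∨ n = 7 ∨ n = 8 := by omega
  rcases this with rfl | rfl | rfl | rfl
  · exact h.table_false hm (hc.trans (by decide : (5).factorial / 2 = 60)) 2 (by norm_num) (by norm_num) (by norm_num)
      7 1 (by decide) (by norm_num)
  · exact h.table_false hm (hc.trans (by decide : (6).factorial / 2 = 360)) 3 (by norm_num) (by norm_num) (by norm_num)
      7 1 (by decide) (by norm_num)
  · exact h.table_false hm (hc.trans (by decide : (7).factorial / 2 = 2520)) 3 (by norm_num) (by norm_num) (by norm_num)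
      7 1 (by decide) (by norm_num)
  · exact h.table_false hm (hc.trans (by decide : (8).factorial / 2 = 20160)) 6 (by norm_num) (by norm_num) (by norm_num)
      8 1 (by decide) (by norm_num)

omit h hm in
theorem card_psl_three_four {F : Type} [Field F] [Fintype F] (hF : Fintype.card F = 4) :
    Nat.card (Matrix.ProjectiveSpecialLinearGroup (Fin 3) F) = 20160 := by
  have := HKS.EndOrd.card_psl_three (F := F) (t := 3) hF
  norm_num at this
  omega

theorem Ctx.not_psl_four {F : Type} [Field F] [Fintype F] (hF : Fintype.card F = 2)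
    (e : S ≃* Matrix.ProjectiveSpecialLinearGroup (Fin 4) F) : False := by
  have hc : Nat.card S = 20160 := by
    have h2f : Fact (Nat.Prime 2) := ⟨Nat.prime_two⟩
    let _ : Fintype (GaloisField 2 2) := Fintype.ofFinite _
    have h4 : Fintype.card (GaloisField 2 2) = 4 := by
      rw [← Nat.card_eq_fintype_card, GaloisField.card 2 2 (by norm_num)]
      norm_num
    rw [Nat.card_congr e.toEquiv, (S2550.result hF h4).1]
    exact card_psl_three_four h4
  exact h.table_false hm hc 6 (by norm_num) (by norm_num) (by norm_num) 8 1 (by decide) (by norm_num)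

theorem Ctx.not_psl_three {F : Type} [Field F] [Fintype F] (h2 : (2 : F) = 0)
    (e : S ≃* Matrix.ProjectiveSpecialLinearGroup (Fin 3) F) : False := by
  have h2f : Fact (Nat.Prime 2) := ⟨Nat.prime_two⟩
  have hch : CharP F 2 := CharTwo.of_one_ne_zero_of_two_eq_zero one_ne_zero h2
  obtain ⟨k, -, hk⟩ := FiniteField.card F 2
  have hspec := S2476.result (F := F) 2
  have hg3 : Nat.gcd 3 (Fintype.card F - 1) ∣ Fintype.card F - 1 := Nat.gcd_dvd_right _ _
  have hmem : 2 * ((Fintype.card F - 1) / Nat.gcd 3 (Fintype.card F - 1)) ∈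
      Set.range (orderOf : Matrix.ProjectiveSpecialLinearGroup (Fin 3) F → ℕ) := by
    rw [hspec]
    right; right; right; left
    rw [Nat.mul_div_assoc _ hg3]
  obtain ⟨x, hx⟩ := hmem
  have h1 := (h.congr e).om x
  rw [hx, hk] at h1
  have hcard : ∀ t, Fintype.card F = t + 1 → Nat.gcd 3 t * Nat.card S =
      (t + 1) ^ 3 * (t ^ 2 * ((t + 2) * (t ^ 2 + 3 * t + 3))) := by
    intro t ht
    rw [Nat.card_congr e.toEquiv]
    exact HKS.EndOrd.card_psl_three ht
  rcases elim_psl_three hm (k := k) k.2 h1 with h3 | h3 | h3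
  · have hc := hcard 1 (by rw [hk, h3]; norm_num)
    norm_num at hc
    exact h.table_false hm hc 3 (by norm_num) (by norm_num) (by norm_num) 8 1 (by decide) (by norm_num)
  · have hc := hcard 3 (by rw [hk, h3]; norm_num)
    norm_num at hc
    exact h.table_false hm (N := 20160) (by omega) 6 (by norm_num) (by norm_num) (by norm_num) 8 1 (by decide)
      (by norm_num)
  · have hc := hcard 15 (by rw [hk, h3]; norm_num)
    norm_num at hc
    exact h.table_false hm (N := 1425715200) (by omega) 12 (by norm_num) (by norm_num) (by norm_num) 17 2 (by decide)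
      (by norm_num)

theorem Ctx.not_psp_two {F : Type*} [Field F] [Fintype F] (h2 : (2 : F) = 0) (h4 : 4 ≤ Fintype.card F)
    (e : S ≃* PSp 2 F) : False := by
  have h2f : Fact (Nat.Prime 2) := ⟨Nat.prime_two⟩
  have hch : CharP F 2 := CharTwo.of_one_ne_zero_of_two_eq_zero one_ne_zero h2
  obtain ⟨k, -, hk⟩ := FiniteField.card F 2
  have hk2 : 2 ≤ (k : ℕ) := by
    by_contra hcon
    have : (k : ℕ) = 1 := by have := k.pos; omega
    rw [hk, this] at h4
    omega
  obtain ⟨x, hx⟩ := H374.SpFour.exists_mixed (F := F) (p := 2) (n := k) (by omega) hk (by rw [hk] at h4; omega)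
    (M := 2 ^ (k : ℕ) - 1) (Or.inl rfl)
  obtain ⟨y, hy⟩ := H374.SpFour.exists_mixed (F := F) (p := 2) (n := k) (by omega) hk (by rw [hk] at h4; omega)
    (M := 2 ^ (k : ℕ) + 1) (Or.inr rfl)
  have h1 := (h.congr e).om x
  have h3 := (h.congr e).om y
  rw [hx] at h1
  rw [hy] at h3
  exact elim_psp hm hk2 h1 h3

/-- `PSU₃(2^k)` -/
theorem Ctx.psu {F : Type*} [Field F] [Fintype F] {k : ℕ} (hk : 2 ≤ k) (hF : Fintype.card F = (2 ^ k) ^ 2)
    (e : S ≃* PSU 3 F (2 ^ k)) : k = m := by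
  have hch := charP_two hF
  have hL := h.congr e
  obtain ⟨σ, hσ, hs⟩ := exists_sigma hF
  have hσf : Fact (∀ x, σ (σ x) = x) := ⟨hσ⟩
  have hF' : Nat.card F = (2 ^ k) ^ 2 := by rw [Nat.card_eq_fintype_card, hF]
  obtain ⟨M⟩ := exists_mod (σ := σ) (by omega) hs hF'
  have hq : 1 < 2 ^ k := Nat.one_lt_two_pow (by omega)
  obtain ⟨s, hs'⟩ := hL.one (fun s t h1 h2 => M.isConj_of_involution hq hs hF' h1 h2)
  have aux : ∀ {n : ℕ}, Om (2 ^ k) n → Om (2 ^ m) n := by
    intro n hn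
    obtain ⟨x, hx⟩ := exists_om (by omega) hF hn
    rw [← hx]
    exact hL.om x
  refine elim_psu hm hk (aux (Or.inl dvd_rfl)) (aux (Or.inr (Or.inl dvd_rfl)))
    (aux (Or.inr (Or.inr (Or.inl dvd_rfl)))) (aux (Or.inr (Or.inr (Or.inr (Or.inl dvd_rfl))))) ?_
  rw [← hs']
  exact om_psu hF s

end table

section pslTwo

variable {m : ℕ} {S : Type*} [Group S] [Finite S] (h : Ctx m S) (hm : 2 ≤ m)
include h hm

theorem Ctx.not_psl_two {F : Type*} [Field F] [Fintype F] (h4 : 4 ≤ Fintype.card F)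
    (e : S ≃* Matrix.ProjectiveSpecialLinearGroup (Fin 2) F) : False := by
  obtain ⟨p, hp⟩ := CharP.exists F
  obtain ⟨k, hprime, hk⟩ := FiniteField.card F p
  have hpf : Fact p.Prime := ⟨hprime⟩
  have hL := h.congr e
  have hspec := H390.PslSpec.range_orderOf (F := F) (p := p) h4
  have hmemi : ∀ n, n ∈ H390.PslSpec.specSet p (Fintype.card F) → Om (2 ^ m) n := by
    intro n hn
    rw [← hspec] at hn
    obtain ⟨x, hx⟩ := hn
    rw [← hx]
    exact hL.om x
  have hconj : ∀ s t : Matrix.ProjectiveSpecialLinearGroup (Fin 2) F, orderOf s = 2 → orderOf t = 2 →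
      ∃ c, c * s * c⁻¹ = t := by
    intro s t h1 h2
    rw [← isConj_iff]
    rcases Nat.even_or_odd (Fintype.card F) with he | ho
    · have h20 : (2 : F) = 0 := H390.PslSpec.two_eq_zero_of_even he
      have hch : CharP F 2 := CharTwo.of_one_ne_zero_of_two_eq_zero one_ne_zero h20
      have hinj : Function.Injective (H390.PslSpec.pr F) := by
        rw [injective_iff_map_eq_one]
        intro g hg
        have hneg : (-1 : Matrix (Fin 2) (Fin 2) F) = 1 := by
          have : (2 : Matrix (Fin 2) (Fin 2) F) = 0 := by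
            ext i j
            simp [Matrix.ofNat_apply, h20]
          have h3 : (1 : Matrix (Fin 2) (Fin 2) F) + 1 = 0 := by rw [one_add_one_eq_two, this]
          exact (eq_neg_of_add_eq_zero_left h3).symm
        rcases (H390.PslSpec.pr_eq_one_iff g).1 hg with h3 | h3
        · exact Subtype.ext h3
        · rw [hneg] at h3
          exact Subtype.ext h3
      obtain ⟨s, rfl⟩ := H390.PslSpec.pr_surjective s
      obtain ⟨t, rfl⟩ := H390.PslSpec.pr_surjective t
      rw [orderOf_injective _ hinj] at h1 h2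
      obtain ⟨c, hc⟩ := isConj_iff.1 (S2302.result s t h1 h2).1
      exact isConj_iff.2 ⟨H390.PslSpec.pr F c, by rw [← hc, map_mul, map_mul, map_inv]⟩
    · exact ClassicalGeometry.SLTwoFour.psl_isConj ho s t h1 h2
  obtain ⟨s, hs⟩ := hL.one hconj
  have hsm : nn (2 ^ m) ∈ H390.PslSpec.specSet p (Fintype.card F) := by
    rw [← hspec]
    exact ⟨s, hs⟩
  rcases Nat.even_or_odd (Fintype.card F) with he | ho
  · have hp2 : p = 2 := by
      rw [hk] at he
      have := Nat.even_pow.1 he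
      exact (Nat.Prime.even_iff hprime).1 this.1
    subst hp2
    have hdd : H390.PslSpec.dd (Fintype.card F) = 1 := H390.PslSpec.dd_even he Fintype.card_pos
    have hk2 : 2 ≤ (k : ℕ) := by
      by_contra hcon
      have : (k : ℕ) = 1 := by have := k.pos; omega
      rw [hk, this] at h4
      omega
    have a1 := hmemi (2 ^ (k : ℕ) - 1) (Or.inr (Or.inl (by rw [hdd, Nat.div_one, hk])))
    have a2 := hmemi (2 ^ (k : ℕ) + 1) (Or.inr (Or.inr (by rw [hdd, Nat.div_one, hk])))
    apply elim_psl_even hm hk2 a1 a2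
    rcases hsm with h1 | h1 | h1
    · exact Or.inl h1
    · rw [hdd, Nat.div_one, hk] at h1
      exact Or.inr (Or.inl h1)
    · rw [hdd, Nat.div_one, hk] at h1
      exact Or.inr (Or.inr h1)
  · have hdd : H390.PslSpec.dd (Fintype.card F) = 2 := H390.PslSpec.dd_odd ho
    obtain ⟨t, ht⟩ := ho
    have e1 : (Fintype.card F - 1) / 2 = t := by omega
    have e2 : (Fintype.card F + 1) / 2 = t + 1 := by omega
    have a1 := hmemi t (Or.inr (Or.inl (by rw [hdd, e1])))
    have a2 := hmemi (t + 1) (Or.inr (Or.inr (by rw [hdd, e2])))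
    have hpt : p ∣ 2 * t + 1 := by
      rw [← ht, hk]
      exact dvd_pow_self p k.ne_zero
    apply elim_psl_odd hm (t := t) (p := p) (by omega) hprime hpt a1 a2
    rcases hsm with h1 | h1 | h1
    · exact Or.inl h1
    · rw [hdd, e1] at h1
      exact Or.inr (Or.inl h1)
    · rw [hdd, e2] at h1
      exact Or.inr (Or.inr h1)

end pslTwo

end Cfsg.Agent.H372.U3
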