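import Cfsg.Agent.H372.U3El1
import Cfsg.Agent.H372.SzSpec
import Cfsg.Agent.OddCyclic.ClaimC.SzIso
import Cfsg.Agent.H177.PairSzStrong
import Cfsg.Agent.S1159
import Cfsg.Agent.ChevalleyStructure.ReeCount

/-!
# Elimination of the Suzuki and Ree groups
-/

set_option autoImplicit false
set_option linter.unusedSectionVars false

namespace Cfsg.Agent.H372.U3

open Cfsg

variable {m : ℕ} {S : Type*} [Group S] [Finite S] (h : Ctx m S) (hm : 2 ≤ m)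
include h hm

theorem Ctx.not_suzuki (hS : Lie.IsoSuzuki S) : False := by
  obtain ⟨F, _, _, a, ha, hF, ⟨e⟩⟩ := hS
  obtain ⟨s, hs⟩ := (h.congr e).one (fun x y hx hy => H177.PairSzStrong.isConj ha hF hx hy)
  obtain ⟨e'⟩ := OddCyclic.ClaimC.SzIso.iso ha hF
  obtain ⟨h1, ⟨x1, hx1⟩, ⟨x2, hx2⟩, ⟨x3, hx3⟩⟩ := SzSpec.spec (F := F) ha hF
  have hL := h.congr (e.trans e'.symm)
  refine elim_sz hm ha (by rw [← hx1]; exact hL.om x1) (by rw [← hx2]; exact hL.om x2)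
    (by rw [← hx3]; exact hL.om x3) ?_
  have h2 := h1 (e'.symm s) (by
    rw [MulEquiv.orderOf_eq, hs]
    exact nn_odd Nat.one_le_two_pow)
  rw [MulEquiv.orderOf_eq, hs] at h2
  exact h2

theorem Ctx.not_ree (hS : Lie.IsoRee S) : False := by
  obtain ⟨K, _, _, a, ha, hK, ⟨e⟩⟩ := hS
  have hspec := S1159.result (K := K) ha hK
  have hL := h.congr e
  have hcard : Nat.card S = (3 ^ (2 * a + 1)) ^ 3 * (3 ^ (2 * a + 1) - 1) * ((3 ^ (2 * a + 1)) ^ 3 + 1) := by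
    rw [Nat.card_congr e.toEquiv, ChevalleyStructure.ReeCount.card_twistedG2 hK]
  have h8 : 3 ^ (2 * a + 1) % 8 = 3 := by
    have h9 : 9 ^ a % 8 = 1 := by
      clear ha hK e hspec hL hcard
      induction a with
      | zero => rfl
      | succ a ih => rw [pow_succ]; omega
    rw [pow_succ, pow_mul, show (3 : ℕ) ^ 2 = 9 by norm_num]
    omega
  obtain ⟨c, hc⟩ : ∃ c, 3 ^ (2 * a + 1) = 8 * c + 3 := ⟨3 ^ (2 * a + 1) / 8, by omega⟩
  have hN : Nat.card S = 8 * ((8 * c + 3) ^ 3 * (4 * c + 1) * (128 * c ^ 3 + 144 * c ^ 2 + 54 * c + 7)) := by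
    rw [hcard, hc]
    have e1 : 8 * c + 3 - 1 = 2 * (4 * c + 1) := by omega
    rw [e1]
    ring
  have hodd : Odd ((8 * c + 3) ^ 3 * (4 * c + 1) * (128 * c ^ 3 + 144 * c ^ 2 + 54 * c + 7)) := by
    apply Odd.mul (Odd.mul (Odd.pow ⟨4 * c + 1, by ring⟩) ⟨2 * c, by ring⟩)
    exact ⟨64 * c ^ 3 + 72 * c ^ 2 + 27 * c + 3, by ring⟩
  obtain ⟨s, hs⟩ := h.two 3 (by rw [hN]; norm_num) (by
    rw [hN]
    intro h'
    have h2 : 8 * 2 ∣ 8 * ((8 * c + 3) ^ 3 * (4 * c + 1) * (128 * c ^ 3 + 144 * c ^ 2 + 54 * c + 7)) := by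
      norm_num at h' ⊢
      exact h'
    have h3 := Nat.dvd_of_mul_dvd_mul_left (by norm_num) h2
    rw [← Nat.not_even_iff_odd] at hodd
    exact hodd (even_iff_two_dvd.2 h3)) (by norm_num)
  have hs' : ∃ g : ↥(Lie.twistedG2 K (3 ^ a)), orderOf g = nn (2 ^ m) := ⟨e s, by rw [MulEquiv.orderOf_eq, hs]⟩
  have aux : ∀ {d : ℕ}, (∃ g : ↥(Lie.twistedG2 K (3 ^ a)), orderOf g = d) → Om (2 ^ m) d := by
    rintro d ⟨g, rfl⟩
    exact hL.om g
  refine elim_ree hm ha (aux ((hspec _).2 (Or.inr (Or.inr (Or.inl dvd_rfl)))))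
    (aux ((hspec _).2 (Or.inr (Or.inr (Or.inr (Or.inl dvd_rfl)))))) ((hspec _).1 hs')

end Cfsg.Agent.H372.U3
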