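import Cfsg.Agent.H372.U3El2
import Cfsg.Agent.NotCT.Orders

/-!
# Elimination of the sporadic groups
-/

set_option autoImplicit false
set_option linter.unusedSectionVars false

namespace Cfsg.Agent.H372.U3

open Cfsg

/-- The orders of the sporadic groups. -/
def spor26 : List ℕ :=
  [7920, 95040, 443520, 10200960, 244823040, 175560, 604800, 50232960, 86775571046077562880, 4157776806543360000,
   42305421312000, 495766656000, 898128000, 44352000, 448345497600, 4030387200, 145926144000, 460815505920,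
   51765179004000000, 64561751654400, 4089470473293004800, 1255205709190661721292800, 273030912000000,
   90745943887872000, 4154781481226426191177580544000000,
   808017424794512875886459904961710757005754368000000000]

theorem spor_mem {G : Type*} [Group G] (h : IsSporadicGroup G) : Nat.card G ∈ spor26 := by
  rcases h with h | h | h | h | h | h | h | h | h | h | h | h | h | h | h | h | h | h | h | h | h | h | h | h | h | h
  · rw [NotCT.Orders.m11 h]; decide
  · rw [NotCT.Orders.m12 h]; decide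
  · rw [NotCT.Orders.m22 h]; decide
  · rw [NotCT.Orders.m23 h]; decide
  · rw [NotCT.Orders.m24 h]; decide
  · rw [NotCT.Orders.j1 h]; decide
  · rw [NotCT.Orders.j2 h]; decide
  · rw [NotCT.Orders.j3 h]; decide
  · rw [NotCT.Orders.j4 h]; decide
  · rw [NotCT.Orders.co1 h]; decide
  · rw [NotCT.Orders.co2 h]; decide
  · rw [NotCT.Orders.co3 h]; decide
  · rw [NotCT.Orders.mcl h]; decide
  · rw [NotCT.Orders.hs h]; decide
  · rw [NotCT.Orders.suz h]; decide
  · rw [NotCT.Orders.he h]; decide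
  · rw [NotCT.Orders.ru h]; decide
  · rw [NotCT.Orders.on h]; decide
  · rw [NotCT.Orders.ly h]; decide
  · rw [NotCT.Orders.fi22 h]; decide
  · rw [NotCT.Orders.fi23 h]; decide
  · rw [NotCT.Orders.fi24 h]; decide
  · rw [NotCT.Orders.hn h]; decide
  · rw [NotCT.Orders.th h]; decide
  · rw [NotCT.Orders.b h]; decide
  · rw [NotCT.Orders.m h]; decide

theorem spor_check : ∀ N ∈ spor26, 5 ∣ N ∧ (∃ v < 47, 2 ^ v ∣ N ∧ ¬ 2 ^ (v + 1) ∣ N ∧ (¬ 6 ∣ v ∨ ¬ 4 ∣ v)) ∧
    N ∣ (Nat.factorial 71) ^ 46 ∧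
    ∀ p ∈ [13, 37, 61], p ∣ N → 7 ∣ N ∧ (36 ∣ p - 1 → p = 37 ∧ ¬ 37 ^ 2 ∣ N) := by
  decide +kernel

theorem nn_ne (m : ℕ) (hm : 2 ≤ m) : nn (2 ^ m) ≠ 37 := by
  intro h
  rcases Nat.lt_or_ge m 6 with h6 | h6
  · interval_cases m <;> revert h <;> decide
  · have h1 := lt_nn (two_pow_ge hm)
    have h2 : 2 ^ 6 ≤ 2 ^ m := Nat.pow_le_pow_right (by norm_num) h6
    norm_num at h2
    omega

theorem Ctx.not_sporadic {m : ℕ} {S : Type*} [Group S] [Finite S] (h : Ctx m S) (hm : 2 ≤ m)
    (hS : IsSporadicGroup S) : False := by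
  obtain ⟨h5, ⟨v, -, hv, hv', hchk⟩, hfac, hp⟩ := spor_check _ (spor_mem hS)
  obtain ⟨h1, h2⟩ := h.table hm rfl v hv hv' (by
    rcases hchk with h | h
    · exact Or.inl h
    · exact Or.inr (Or.inl ⟨h5, h⟩))
  have hn := nn_gt hm
  have key : ∀ {p : ℕ}, p.Prime → p ∣ nn (2 ^ m) → p = 37 := by
    intro p hpp hpn
    obtain ⟨-, h12, -, h36⟩ := h2 p hpp hpn
    have hpB : p ≤ 71 := (Nat.Prime.dvd_factorial hpp).1 (hpp.dvd_of_dvd_pow ((hpn.trans h1).trans hfac))
    have h12' := h12 h5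
    have hmem : p ∈ [13, 37, 61] := by
      have hp2 := hpp.two_le
      have : p = 13 ∨ p = 25 ∨ p = 37 ∨ p = 49 ∨ p = 61 := by omega
      rcases this with rfl | rfl | rfl | rfl | rfl
      · simp
      · exact absurd hpp (by norm_num)
      · simp
      · exact absurd hpp (by norm_num)
      · simp
    obtain ⟨h7, h37⟩ := hp p hmem (hpn.trans h1)
    exact (h37 (h36 h5 h7)).1
  obtain ⟨p, hpp, hpn⟩ := Nat.exists_prime_and_dvd (show nn (2 ^ m) ≠ 1 by omega)
  have hp37 := key hpp hpn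
  subst hp37
  obtain ⟨h7, h37⟩ := hp 37 (by simp) (hpn.trans h1)
  have h37' := (h37 ((h2 37 hpp hpn).2.2.2 h5 h7)).2
  have hpow := Nat.eq_prime_pow_of_unique_prime_dvd (n := nn (2 ^ m)) (by omega) key
  generalize (nn (2 ^ m)).primeFactorsList.length = j at hpow
  have hj : j ≤ 1 := by
    by_contra hcon
    apply h37'
    refine dvd_trans ?_ h1
    rw [hpow]
    exact pow_dvd_pow 37 (by omega)
  have : j = 0 ∨ j = 1 := by omega
  rcases this with rfl | rfl
  · rw [pow_zero] at hpow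
    omega
  · rw [pow_one] at hpow
    exact nn_ne m hm hpow

end Cfsg.Agent.H372.U3
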