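import Cfsg.Agent.H372.U3El3
import Cfsg.Agent.H372.FourList
import Cfsg.Agent.H375.Cover
import Cfsg.Agent.H374.EightExc
import Cfsg.Agent.S0000

/-!
# `PSU₃(2^m)` is recognisable by its element orders
-/

set_option autoImplicit false
set_option linter.unusedSectionVars false

namespace Cfsg.Agent.H372.U3

open Cfsg Subgroup

theorem not_bad {m : ℕ} (hm : 2 ≤ m) {G : Type*} [Group G] (h1 : ∀ g : G, Om (2 ^ m) (orderOf g)) : ¬ Bad G := by
  rintro ⟨x, h4, hne, -⟩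
  have h := h1 x
  obtain ⟨j, hj⟩ := h4
  have e : orderOf x = 2 * (2 * j) := by rw [hj]; ring
  rw [e] at h
  rcases om_even' hm h with h' | h'
  · have h2 : 2 * j ∣ 2 * 1 := by simpa using h'
    have h3 := Nat.dvd_of_mul_dvd_mul_left (by norm_num) h2
    have h4 := Nat.dvd_one.1 h3
    apply hne
    rw [hj, h4]
  · have h2 := Odd.of_dvd_nat (odd_succ_div (even_q' hm)) h'
    rw [← Nat.not_even_iff_odd] at h2
    exact h2 (even_two_mul j)

/-- The simple section is `PSU₃(2^m)`. -/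
theorem Ctx.main {m : ℕ} (hm : 2 ≤ m) {S : Type*} [Group S] [Finite S] [IsSimpleGroup S] (hna : ¬ IsMulCommutative S)
    (h : Ctx m S) : ∃ (F : Type) (_ : Field F) (_ : Fintype F), Fintype.card F = (2 ^ m) ^ 2 ∧
      Nonempty (S ≃* PSU 3 F (2 ^ m)) := by
  have hb : ¬ Bad S := not_bad hm h.om
  have hL : Listed S := listed_of_not_bad (S0000.result (G := S)) (fun hS => by
    rcases H374.EightExc.exceptional hS with h | h | h
    · exact Or.inl (bad_of_eight h)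
    · exact Or.inr (Or.inl h)
    · exact Or.inr (Or.inr h)) hb
  rcases hL with h' | ⟨n, h5, h8, ⟨e⟩⟩ | ⟨F, _, _, h4, ⟨e⟩⟩ | ⟨F, _, _, h2, ⟨e⟩⟩ | ⟨F, _, _, h2, ⟨e⟩⟩ |
      ⟨F, _, _, k, hF, hk, ⟨e⟩⟩ | ⟨F, _, _, h2, h4, ⟨e⟩⟩ | h' | h' | h'
  · exfalso
    have hf : Fact (Nat.card S).Prime := ⟨h'⟩
    have : IsCyclic S := isCyclic_of_prime_card rfl
    exact hna inferInstance
  · exact (h.not_alt hm h5 h8 e).elim
  · exact (h.not_psl_two hm h4 e).elim
  · exact (h.not_psl_three hm h2 e).elim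
  · exact (h.not_psl_four hm h2 e).elim
  · have hkm := h.psu hm hk hF e
    subst hkm
    exact ⟨F, _, _, hF, ⟨e⟩⟩
  · exact (h.not_psp_two hm h2 h4 e).elim
  · exact (h.not_suzuki hm h').elim
  · exact (h.not_ree hm h').elim
  · exact (h.not_sporadic hm h').elim

/-- **The theorem.** -/
theorem final {G : Type*} [Group G] [Finite G] {m : ℕ} (hm : 2 ≤ m) (h1 : ∀ g : G, Om (2 ^ m) (orderOf g))
    (h2 : ∀ n, Om (2 ^ m) n → ∃ g : G, orderOf g = n) :
    ∃ (F : Type) (_ : Field F) (_ : Fintype F), Fintype.card F = (2 ^ m) ^ 2 ∧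
      Nonempty (G ≃* PSU 3 F (2 ^ m)) := by
  obtain ⟨K, hKn, S, hSn, hKs, hSs, hSna, hSc, hctx⟩ := reduce hm h1 h2
  obtain ⟨F, _, _, hF, ⟨e⟩⟩ := hctx.main hm hSna
  refine ⟨F, inferInstance, inferInstance, hF, ?_⟩
  have hch := charP_two hF
  obtain ⟨σ, hσ, hs⟩ := exists_sigma hF
  have hσf : Fact (∀ x, σ (σ x) = x) := ⟨hσ⟩
  have hF' : Nat.card F = (2 ^ m) ^ 2 := by rw [Nat.card_eq_fintype_card, hF]
  obtain ⟨M0⟩ := exists_mod (σ := σ) (by omega) hs hF'
  have hq : 1 < 2 ^ m := Nat.one_lt_two_pow (by omega)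
  have hq4 := two_pow_ge hm
  let M : Mod σ S := M0.congr e.symm
  -- the outer part
  have homM : ∀ g : G ⧸ K, Om (2 ^ m) (orderOf g) := by
    intro g
    obtain ⟨x, hx⟩ := H375.Cover.exists_orderOf_of_surj (QuotientGroup.mk' K) (QuotientGroup.mk'_surjective K) g
    rw [← hx]
    exact h1 x
  have hS : S = ⊤ := M.outer S hq hs hF' hq4 (fun g hg => by
    exact om_even hq.le (even_q' hm) (homM g) hg)
  -- the kernel
  let E : G ⧸ K ≃* PSU 3 F (2 ^ m) :=
    ((Subgroup.topEquiv (G := G ⧸ K)).symm.trans (MulEquiv.subgroupCongr hS).symm).trans e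
  let π : G →* PSU 3 F (2 ^ m) := E.toMonoidHom.comp (QuotientGroup.mk' K)
  have hπ : Function.Surjective π := by
    intro y
    obtain ⟨g, hg⟩ := QuotientGroup.mk'_surjective K (E.symm y)
    refine ⟨g, ?_⟩
    show E (QuotientGroup.mk' K g) = y
    rw [hg, E.apply_symm_apply]
  have hker : π.ker = K := by
    ext g
    rw [MonoidHom.mem_ker]
    show E (QuotientGroup.mk' K g) = 1 ↔ _
    rw [map_eq_one_iff E E.injective]
    exact QuotientGroup.eq_one_iff g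
  obtain ⟨r, hr, hrq⟩ := Nat.exists_prime_and_dvd (show 2 ^ m - 1 ≠ 1 by omega)
  have hr2 : r ≠ 2 := by
    rintro rfl
    have h3 := Nat.dvd_sub (even_iff_two_dvd.1 (even_q' hm)) hrq
    have h4 : 2 ^ m - (2 ^ m - 1) = 1 := by omega
    rw [h4] at h3
    omega
  obtain ⟨x, y, hx, hy, hy1, hxy⟩ := M0.exists_four_inverting hq hs hF' hr hrq
  have h4 : ∀ {n : ℕ}, 4 ∣ n → n ≠ 4 → ∀ g : G, orderOf g ≠ n := by
    rintro n ⟨j, rfl⟩ hn g hg
    exact not_bad hm h1 ⟨g, by rw [hg]; exact dvd_mul_right _ _, by rw [hg]; exact hn, (orderOf_pos g).ne'⟩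
  have hinj := H375.Cover.cover π hπ (by rw [hker]; exact hKs) (h4 (by norm_num) (by norm_num)) hr hr2
    (fun g hg => two_mul_prime' hm hr hrq hr2 (hg ▸ h1 g)) x y hx hy hy1 hxy (fun p hp hp2 _ =>
      ⟨h4 (dvd_mul_right _ _) (by have := hp.two_le; omega), by
        obtain ⟨s, t, h5, h6, h7⟩ := M0.exists_klein hq hs hF' hq4
        exact ⟨s, t, M0.exists_four hq hs hF' h5, M0.exists_four hq hs hF' h6, M0.exists_four hq hs hF' h7⟩⟩)
  exact ⟨MulEquiv.ofBijective π ⟨hinj, hπ⟩⟩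

end Cfsg.Agent.H372.U3
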