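import Cfsg.Agent.H372.U3Outer

/-!
# No proper extensions of `PSU₃(2^n)` with the same orders
-/

set_option autoImplicit false
set_option linter.unusedSectionVars false

namespace Cfsg.Agent.H372.U3

open Subgroup Cfsg
open Cfsg.Agent.LieRecognition Cfsg.Agent.LieRecognition.HermHeis
  Cfsg.Agent.LieRecognition.PSUThreeSylow Cfsg.Agent.LieRecognition.RankOneAbstract
  Cfsg.Agent.SuzukiRankOne Cfsg.Agent.SuzukiRankOne.PSUModel Cfsg.Agent.AschCrit.PSUTorus

namespace Mod

variable {F : Type*} [Field F] [CharP F 2] {σ : F →+* F} [hσ : Fact (∀ x, σ (σ x) = x)]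

/-- Transport of the model. -/
def congr {L L' : Type*} [Group L] [Group L'] (M : Mod σ L) (e : L ≃* L') : Mod σ L' where
  tor := e.toMonoidHom.comp M.tor
  u := e.toMonoidHom.comp M.u
  w := e M.w
  B := M.B.map e.toMonoidHom
  u_inj := e.injective.comp M.u_inj
  rel α x := by
    show e (M.tor α) * e (M.u x) = e (M.u _) * e (M.tor α)
    rw [← map_mul, ← map_mul, M.rel]
  w_sq := by rw [← map_mul, M.w_sq, map_one]
  w_tor α := by
    show e M.w * e (M.tor α) * e M.w = e (M.tor (su σ α)⁻¹)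
    rw [← map_mul, ← map_mul, M.w_tor]
  tor_ker α := by
    show e (M.tor α) = 1 ↔ _
    rw [← M.tor_ker, map_eq_one_iff e e.injective]
  mem_B g := by
    constructor
    · rintro ⟨b, hb, rfl⟩
      obtain ⟨x, α, rfl⟩ := (M.mem_B b).1 hb
      exact ⟨x, α, by simp⟩
    · rintro ⟨x, α, rfl⟩
      exact ⟨M.u x * M.tor α, (M.mem_B _).2 ⟨x, α, rfl⟩, by simp⟩
  data := by
    have h : (e.toMonoidHom.comp M.u).range = M.u.range.map e.toMonoidHom := MonoidHom.range_comp _ _
    rw [h]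
    exact data_map M.data e.toMonoidHom e.surjective (by
      intro g hg
      have : g = 1 := (map_eq_one_iff e e.injective).1 hg
      rw [this]
      exact M.B.one_mem)

variable {L : Type*} [Group L] (M : Mod σ L)

/-- The centre of `Q`. -/
def Z : Subgroup L where
  carrier := {g | ∃ x : Heis σ, x.a = 0 ∧ M.u x = g}
  mul_mem' := by
    rintro _ _ ⟨x, hx, rfl⟩ ⟨y, hy, rfl⟩
    exact ⟨x * y, by rw [mul_a, hx, hy, add_zero], map_mul _ _ _⟩
  one_mem' := ⟨1, rfl, map_one _⟩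
  inv_mem' := by
    rintro _ ⟨x, hx, rfl⟩
    exact ⟨x⁻¹, by rw [inv_a, hx], map_inv _ _⟩

theorem mem_Z_of_sq {g : L} (hg : g ∈ M.Q) (h : g ^ 2 = 1) : g ∈ M.Z := by
  obtain ⟨x, rfl⟩ := hg
  exact ⟨x, (M.u_sq_eq_one_iff x).1 h, rfl⟩

theorem Q_ne_bot : M.Q ≠ ⊥ := by
  intro h
  have h1 : M.u (zet 1 (map_one σ)) ∈ M.Q := ⟨_, rfl⟩
  rw [h, Subgroup.mem_bot, ← map_one M.u, M.u_inj.eq_iff] at h1
  exact one_ne_zero (congrArg Heis.b h1)

theorem normalizer_Q : normalizer (M.Q : Set L) = M.B := M.data.normalizer_eq M.Q_ne_bot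

section finite

variable [Finite F] [Finite L] {q : ℕ} (hq : 1 < q) (hs : ∀ x, σ x = x ^ q) (hF : Nat.card F = q ^ 2)

include hq hs hF

theorem not_Q_le_Z : ¬ M.Q ≤ M.Z := by
  intro h
  obtain ⟨x₀, hx₀⟩ := HermHeis.exists_heis_a (σ := σ) hq hs hF 1
  obtain ⟨y, hy, e⟩ := h ⟨x₀, rfl⟩
  rw [M.u_inj e] at hy
  rw [hx₀] at hy
  exact one_ne_zero hy

/-- The order of the centralizer of an involution of `Z` is divisible by `(q + 1)/d`. -/
theorem dvd_card_centralizer (b : F) (hb : σ b = b) :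
    (q + 1) / dd q ∣ Nat.card (centralizer ({M.u (zet b hb)} : Set L)) := by
  have hdvd : q + 1 ∣ Nat.card Fˣ := by
    rw [M.card_units hq hF]
    obtain ⟨t, rfl, -, e⟩ := sq_eq hq.le
    rw [e]
    exact dvd_mul_left _ _
  obtain ⟨g, hg⟩ := IsCyclic.exists_ofOrder_eq_natCard (α := Fˣ)
  obtain ⟨c, hc⟩ := hdvd
  have hpos : 0 < Nat.card Fˣ := Nat.card_pos
  have hc0 : c ≠ 0 := by rintro rfl; omega
  have ho : orderOf (g ^ c) = q + 1 := by
    rw [orderOf_pow_of_dvd hc0 (by rw [hg, hc]; exact dvd_mul_left _ _), hg, hc,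
      Nat.mul_div_cancel _ (Nat.pos_of_ne_zero hc0)]
  have ho2 := M.orderOf_tor hq hs hF (g ^ c) (by rw [ho]; exact dd_dvd_succ q)
  rw [ho] at ho2
  rw [← ho2]
  apply Subgroup.orderOf_dvd_natCard
  rw [mem_centralizer_singleton_iff, M.rel]
  congr 2
  ext
  · rw [scal_a]; simp
  · rw [scal_b, M.norm_mul_eq hs, ← ho, pow_orderOf_eq_one]
    simp

/-- The subgroup of the torus which is a Sylow `r`-subgroup, for `r` a prime divisor of `q - 1`. -/
theorem exists_sylow_r {r : ℕ} (hr : r.Prime) (hrq : r ∣ q - 1) : ∃ R : Subgroup L, IsPGroup r R ∧ IsCyclic R ∧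
    R ≠ ⊥ ∧ ¬ r ∣ R.index ∧ R ≤ M.B ∧ (∀ c ∈ R, M.w * c * M.w⁻¹ = c⁻¹) ∧ Odd (Nat.card (M.B ⊓ normalizer (R : Set L) : Subgroup L)) := by
  have hrf : Fact r.Prime := ⟨hr⟩
  obtain ⟨A⟩ : Nonempty (Sylow r Fˣ) := inferInstance
  -- `r` does not divide `q + 1`
  have hr2 : r ≠ 2 := by
    rintro rfl
    have h1 := M.even_q hq hF
    obtain ⟨t, rfl⟩ := Nat.exists_eq_add_of_le' hq.le
    rw [Nat.add_sub_cancel] at hrq
    rw [Nat.even_add_one, Nat.not_even_iff_odd] at h1
    rw [← even_iff_two_dvd, ← Nat.not_odd_iff_even] at hrq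
    exact hrq h1
  have hr1 : ¬ r ∣ q + 1 := by
    intro h
    have h1 : r ∣ (q + 1) - (q - 1) := Nat.dvd_sub h hrq
    have h2 : (q + 1) - (q - 1) = 2 := by omega
    rw [h2] at h1
    exact hr2 ((Nat.prime_dvd_prime_iff_eq hr Nat.prime_two).1 h1)
  have hrq0 : ¬ r ∣ q := by
    intro h
    have h1 : r ∣ q - (q - 1) := Nat.dvd_sub h hrq
    have h2 : q - (q - 1) = 1 := by omega
    rw [h2] at h1
    exact hr.one_lt.ne' (Nat.dvd_one.1 h1)
  have hrn : ¬ r ∣ nn q := by
    intro h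
    have h1 := Nat.dvd_gcd h hrq
    rw [nn_coprime_pred hq.le] at h1
    exact hr.one_lt.ne' (Nat.dvd_one.1 h1)
  have hunits := M.card_units hq hF
  have hsq : q ^ 2 - 1 = (q - 1) * (q + 1) := by
    obtain ⟨t, rfl, -, e⟩ := sq_eq hq.le
    rw [e]
    rfl
  -- elements of `A` are fixed
  obtain ⟨k, hk⟩ := A.isPGroup'.exists_card_eq
  have hAd : Nat.card A ∣ q - 1 := by
    have h1 : Nat.card A ∣ (q - 1) * (q + 1) := by
      rw [← hsq, ← hunits]
      exact Subgroup.card_subgroup_dvd_card _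
    rw [hk] at h1 ⊢
    exact (Nat.Coprime.pow_left k ((Nat.Prime.coprime_iff_not_dvd hr).2 hr1)).dvd_of_dvd_mul_right h1
  have hfix : ∀ α ∈ A, su σ α = α := by
    intro α hα
    have h1 : orderOf α ∣ q - 1 := (Subgroup.orderOf_dvd_natCard (A : Subgroup Fˣ) hα).trans hAd
    have h2 : α ^ (q - 1) = 1 := orderOf_dvd_iff_pow_eq_one.1 h1
    apply Units.ext
    show σ (α : F) = α
    rw [hs]
    have h3 : (α : F) ^ (q - 1) = 1 := by rw [← Units.val_pow_eq_pow_val, h2, Units.val_one]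
    calc (α : F) ^ q = α ^ (q - 1 + 1) := by rw [Nat.sub_add_cancel hq.le]
      _ = α := by rw [pow_succ, h3, one_mul]
  have hinj : ∀ α ∈ A, M.tor α = 1 → α = 1 := by
    intro α hα h
    rw [M.tor_eq_one_iff hq hs hF] at h
    have h1 : α ^ (q - 1) = 1 :=
      orderOf_dvd_iff_pow_eq_one.1 ((Subgroup.orderOf_dvd_natCard (A : Subgroup Fˣ) hα).trans hAd)
    have h2 : Nat.gcd (dd q) (q - 1) = 1 := by
      have h3 : Nat.gcd (dd q) (q - 1) ∣ 1 := by
        have e1 : Nat.gcd (dd q) (q - 1) ∣ q + 1 := (Nat.gcd_dvd_left _ _).trans (dd_dvd_succ q)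
        have e2 : Nat.gcd (dd q) (q - 1) ∣ q - 1 := Nat.gcd_dvd_right _ _
        have e3 := Nat.dvd_sub e1 e2
        have e4 : (q + 1) - (q - 1) = 2 := by omega
        rw [e4] at e3
        have e5 : Nat.gcd (dd q) (q - 1) ∣ 3 := (Nat.gcd_dvd_left _ _).trans (Nat.gcd_dvd_left 3 (q + 1))
        have := Nat.dvd_sub e5 e3
        exact this
      exact Nat.dvd_one.1 h3
    have h3 := pow_gcd_eq_one.2 ⟨h, h1⟩
    rwa [h2, pow_one] at h3
  let f : A →* L := M.tor.comp (A : Subgroup Fˣ).subtype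
  have hf : Function.Injective f := by
    rw [injective_iff_map_eq_one]
    intro a ha
    exact Subtype.ext (hinj a a.2 ha)
  have hR : (A : Subgroup Fˣ).map M.tor = f.range := by
    rw [MonoidHom.range_comp, Subgroup.range_subtype]
  have hcardR : Nat.card ((A : Subgroup Fˣ).map M.tor) = Nat.card A := by
    rw [hR]
    exact (Nat.card_congr (MonoidHom.ofInjective hf).toEquiv).symm
  refine ⟨(A : Subgroup Fˣ).map M.tor, A.isPGroup'.map _, ?_, ?_, ?_, ?_, ?_, ?_⟩
  · rw [hR]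
    exact isCyclic_of_surjective (MonoidHom.ofInjective hf).toMonoidHom (MonoidHom.ofInjective hf).surjective
  · intro h
    rw [h, Subgroup.card_bot] at hcardR
    have h1 : ¬ r ∣ (A : Subgroup Fˣ).index := A.not_dvd_index
    have h2 := (A : Subgroup Fˣ).card_mul_index
    rw [show Nat.card (A : Subgroup Fˣ) = 1 from hcardR.symm, one_mul] at h2
    apply h1
    rw [h2, hunits, hsq]
    exact hrq.mul_right _
  · intro h
    have h1 := ((A : Subgroup Fˣ).map M.tor).card_mul_index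
    rw [hcardR, M.card_L hq hs hF, ← hunits, ← (A : Subgroup Fˣ).card_mul_index] at h1
    have h2 : ((A : Subgroup Fˣ).map M.tor).index = q ^ 3 * (A : Subgroup Fˣ).index * (q + 1) * nn q := by
      apply Nat.eq_of_mul_eq_mul_left (Nat.card_pos (α := A))
      rw [h1]
      ring
    rw [h2] at h
    rcases (Nat.Prime.dvd_mul hr).1 h with h | h
    · rcases (Nat.Prime.dvd_mul hr).1 h with h | h
      · rcases (Nat.Prime.dvd_mul hr).1 h with h | h
        · exact hrq0 (hr.dvd_of_dvd_pow h)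
        · exact A.not_dvd_index h
      · exact hr1 h
    · exact hrn h
  · rintro _ ⟨α, -, rfl⟩
    exact M.tor_mem α
  · rintro _ ⟨α, hα, rfl⟩
    exact M.w_inverts hq hs hF (hfix α hα)
  · rw [← Nat.not_even_iff_odd]
    intro h
    obtain ⟨s, hs2⟩ := exists_prime_orderOf_dvd_card' 2 (even_iff_two_dvd.1 h)
    have hsL : orderOf (s : L) = 2 := by rw [Subgroup.orderOf_coe, hs2]
    obtain ⟨x, hx⟩ := M.mem_Q_of_pow hq hs hF (g := (s : L)) s.2.1 (k := 1) (by
      rw [pow_one, ← hsL, pow_orderOf_eq_one])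
    have hx1 : x ≠ 1 := by
      rintro rfl
      rw [map_one] at hx
      rw [← hx, orderOf_one] at hsL
      omega
    -- a nontrivial element of `A`
    obtain ⟨α, hα, hα1⟩ : ∃ α ∈ A, α ≠ 1 := by
      by_contra hcon
      push Not at hcon
      have h1 : (A : Subgroup Fˣ) = ⊥ := by
        rw [eq_bot_iff]
        intro α hα
        exact hcon α hα
      have h2 : ¬ r ∣ (A : Subgroup Fˣ).index := A.not_dvd_index
      rw [h1, Subgroup.index_bot, hunits, hsq] at h2
      exact h2 (hrq.mul_right _)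
    -- `s` commutes with `tor α`
    have h1 : (s : L) * M.tor α * (s : L)⁻¹ ∈ (A : Subgroup Fˣ).map M.tor :=
      (mem_normalizer_iff.1 s.2.2 (M.tor α)).1 ⟨α, hα, rfl⟩
    obtain ⟨β, hβ, hβe⟩ := h1
    have h2 : M.u (x * (scal (α : F) α.ne_zero x)⁻¹) = M.tor (β * α⁻¹) := by
      rw [map_mul, map_inv, ← M.conj_u, hx, map_mul, map_inv, hβe]
      group
    have h3 := M.eq_one_of_eq h2
    have h4 : x = scal (α : F) α.ne_zero x := by
      rw [mul_inv_eq_one] at h3
      exact h3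
    have h5 := congrArg Heis.b h4
    rw [scal_b] at h5
    have h6 : (α : F) * σ α = 1 := by
      have : ((α : F) * σ α - 1) * x.b = 0 := by linear_combination -h5
      rcases mul_eq_zero.1 this with h | h
      · linear_combination h
      · exact absurd h (b_ne_zero hx1)
    rw [show σ (α : F) = α from congrArg Units.val (hfix α hα)] at h6
    -- `α² = 1` so `α = 1`
    have h7 : α ^ 2 = 1 := Units.ext (by rw [Units.val_pow_eq_pow_val, pow_two, h6, Units.val_one])
    have h8 : orderOf α ∣ 2 := orderOf_dvd_of_pow_eq_one h7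
    have h9 : orderOf α ∣ r ^ k := by
      rw [← hk]
      exact Subgroup.orderOf_dvd_natCard (A : Subgroup Fˣ) hα
    have h10 : Nat.Coprime 2 (r ^ k) := Nat.Coprime.pow_right k (by
      rw [Nat.coprime_primes Nat.prime_two hr]; exact fun h => hr2 h.symm)
    apply hα1
    rw [← orderOf_eq_one_iff]
    exact Nat.eq_one_of_dvd_coprimes h10 h8 h9

end finite

end Mod

end Cfsg.Agent.H372.U3
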