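import Cfsg.Agent.H372.U3Out2

/-!
# No proper extensions of `PSU₃(2^n)` with the same orders: the theorem
-/

set_option autoImplicit false
set_option linter.unusedSectionVars false

namespace Cfsg.Agent.H372.U3

open Subgroup Cfsg
open Cfsg.Agent.LieRecognition Cfsg.Agent.LieRecognition.HermHeis
  Cfsg.Agent.LieRecognition.PSUThreeSylow Cfsg.Agent.LieRecognition.RankOneAbstract
  Cfsg.Agent.SuzukiRankOne Cfsg.Agent.SuzukiRankOne.PSUModel Cfsg.Agent.AschCrit.PSUTorus

namespace Mod

variable {F : Type*} [Field F] [CharP F 2] {σ : F →+* F} [hσ : Fact (∀ x, σ (σ x) = x)]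

theorem mem_map_coe {G : Type*} [Group G] {S : Subgroup G} {K : Subgroup S} {x : S} :
    (x : G) ∈ K.map S.subtype ↔ x ∈ K := by
  constructor
  · rintro ⟨y, hy, e⟩
    have : y = x := Subtype.ext e
    rwa [← this]
  · intro h
    exact ⟨x, h, rfl⟩

theorem mem_normalizer_coe {G : Type*} [Group G] {S : Subgroup G} {K : Subgroup S} {x : S} :
    (x : G) ∈ normalizer ((K.map S.subtype : Subgroup G) : Set G) ↔ x ∈ normalizer (K : Set S) := by
  rw [mem_normalizer_iff, mem_normalizer_iff]
  constructor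
  · intro h y
    have := h y
    change (y : G) ∈ K.map S.subtype ↔ ((x * y * x⁻¹ : S) : G) ∈ K.map S.subtype at this
    rw [mem_map_coe, mem_map_coe] at this
    exact this
  · intro h y
    constructor
    · rintro ⟨y, hy, rfl⟩
      show ((x * y * x⁻¹ : S) : G) ∈ K.map S.subtype
      rw [mem_map_coe]
      exact (h y).1 hy
    · rintro ⟨y', hy', e⟩
      have e1 : y = ((x⁻¹ * y' * x : S) : G) := by
        have e' : (y' : G) = x * y * (x : G)⁻¹ := e
        rw [Subgroup.coe_mul, Subgroup.coe_mul, e', Subgroup.coe_inv]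
        group
      show y ∈ K.map S.subtype
      rw [e1, mem_map_coe, h]
      have : x * (x⁻¹ * y' * x) * x⁻¹ = y' := by group
      rw [this]
      exact hy'

variable {G : Type*} [Group G] [Finite G] (S : Subgroup G) [S.Normal] (M : Mod σ S)
  [Finite F] {q : ℕ} (hq : 1 < q) (hs : ∀ x, σ x = x ^ q) (hF : Nat.card F = q ^ 2)

include M hq hs hF

/-- The case of the prime two. -/
theorem outer_case_two (h4 : 4 ≤ q) (hidx : 2 ∣ S.index) : ∃ (g : G) (r : ℕ), r.Prime ∧ r ∣ q - 1 ∧ r ≠ 2 ∧
    orderOf g = 2 * r := by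
  obtain ⟨r, hr, hrq⟩ := Nat.exists_prime_and_dvd (show q - 1 ≠ 1 by omega)
  have hr2 : r ≠ 2 := by
    rintro rfl
    have h1 := M.even_q hq hF
    rw [even_iff_two_dvd] at h1
    have h2 := Nat.dvd_sub h1 hrq
    have h3 : q - (q - 1) = 1 := by omega
    rw [h3] at h2
    omega
  obtain ⟨P, hP⟩ := M.exists_sylow hq hs hF
  obtain ⟨R, hRp, hRc, hR1, hRi, hRB, hRw, hodd⟩ := M.exists_sylow_r hq hs hF hr hrq
  have hinj : Function.Injective S.subtype := S.subtype_injective
  have e := R.equivMapOfInjective S.subtype hinj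
  obtain ⟨g, hg⟩ := outer_two S hidx hr hr2 P (R.map S.subtype) (by
      rintro _ ⟨x, -, rfl⟩; exact x.2) (hRp.map _) (isCyclic_of_surjective e.toMonoidHom e.surjective)
    (by rw [Ne, map_eq_bot_iff_of_injective _ hinj]; exact hR1)
    (by
      rw [relIndex, subgroupOf, comap_map_eq_self_of_injective hinj]
      exact hRi)
    (by
      rintro _ ⟨x, hx, rfl⟩
      show (x : G) ∈ _
      rw [mem_normalizer_coe, hP, M.normalizer_Q]
      exact hRB hx)
    (by
      have h1 : (normalizer (((P : Subgroup S).map S.subtype : Subgroup G) : Set G)) ⊓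
          normalizer ((R.map S.subtype : Subgroup G) : Set G) ⊓ S ≤
          (M.B ⊓ normalizer (R : Set S) : Subgroup S).map S.subtype := by
        rintro g ⟨⟨h1, h2⟩, h3⟩
        lift g to S using h3
        change (g : G) ∈ normalizer _ at h1
        change (g : G) ∈ normalizer _ at h2
        rw [mem_normalizer_coe] at h1 h2
        rw [hP, M.normalizer_Q] at h1
        rw [mem_map_coe]
        exact ⟨h1, h2⟩
      have h2 := card_dvd_of_le h1
      rw [card_map_of_injective hinj] at h2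
      exact Odd.of_dvd_nat hodd h2)
    (M.w : G) M.w.2 (by
      rintro _ ⟨x, hx, rfl⟩
      exact congrArg Subtype.val (hRw x hx))
  exact ⟨g, r, hr, hrq, hr2, hg⟩

theorem orderOf_zet : orderOf (M.u (zet 1 (map_one σ))) = 2 := by
  apply orderOf_eq_prime
  · rw [M.u_sq_eq_one_iff]
    rfl
  · rw [← map_one M.u, Ne, M.u_inj.eq_iff]
    intro h
    exact one_ne_zero (congrArg Heis.b h)

/-- The case of an odd prime. -/
theorem outer_case_odd {p : ℕ} (hp : p.Prime) (hp2 : p ≠ 2) (hidx : p ∣ S.index) :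
    (∃ g : G, orderOf g = 4 * p) ∨ ∃ (g : G) (j : ℕ), orderOf g = 2 * p ^ j ∧ ¬ p ^ j ∣ (q + 1) / dd q := by
  have h2f : Fact (Nat.Prime 2) := ⟨Nat.prime_two⟩
  obtain ⟨P, hP⟩ := M.exists_sylow hq hs hF
  have hinj : Function.Injective S.subtype := S.subtype_injective
  set z : S := M.u (zet 1 (map_one σ)) with hz
  have hoz : orderOf z = 2 := M.orderOf_zet S hq hs hF
  have hz1 : (zet 1 (map_one σ) : Heis σ) ≠ 1 := by
    intro h
    exact one_ne_zero (congrArg Heis.b h)
  have hconj : ∀ g : G, ∃ s ∈ S, g * (z : G) * g⁻¹ = s * z * s⁻¹ := by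
    intro g
    have hmem : g * (z : G) * g⁻¹ ∈ S := (inferInstance : S.Normal).conj_mem z z.2 g
    have ho : orderOf (⟨g * (z : G) * g⁻¹, hmem⟩ : S) = 2 := by
      rw [← Subgroup.orderOf_coe]
      show orderOf (g * (z : G) * g⁻¹) = 2
      have := (MulAut.conj g).orderOf_eq (z : G)
      rw [MulAut.conj_apply] at this
      rw [this, Subgroup.orderOf_coe, hoz]
    obtain ⟨c, hc⟩ := M.isConj_of_involution hq hs hF hoz ho
    exact ⟨c, c.2, (congrArg Subtype.val hc).symm⟩
  have hmain := outer_odd S hp hp2 hidx (z := (z : G)) (by rw [Subgroup.orderOf_coe, hoz]) hconj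
    (M.Q.map S.subtype) (M.Z.map S.subtype) ((M.isPGroup_Q hq hs hF).map _) ?_ ?_ ?_
  · rcases hmain with h | ⟨g, j, h1, h2⟩
    · exact Or.inl h
    · right
      refine ⟨g, j, h1, fun h => h2 ?_⟩
      have h3 := M.dvd_card_centralizer hq hs hF 1 (map_one σ)
      rw [← hz] at h3
      refine h.trans (h3.trans ?_)
      rw [← card_map_of_injective (K := centralizer ({z} : Set S)) hinj]
      apply card_dvd_of_le
      rintro _ ⟨c, hc, rfl⟩
      refine ⟨?_, c.2⟩
      have hc' := mem_centralizer_singleton_iff.1 hc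
      show (c : G) ∈ centralizer ({(z : G)} : Set G)
      rw [mem_centralizer_singleton_iff]
      exact congrArg Subtype.val hc'
  · intro g hg
    have hfr := Sylow.normalizer_sup_eq_top P
    rw [hP] at hfr
    have hg' : g ∈ S ⊔ normalizer ((M.Q.map S.subtype : Subgroup G) : Set G) := by
      rw [sup_comm, hfr]
      trivial
    rw [mem_sup_of_normal_left] at hg'
    obtain ⟨s, hsS, n, hn, rfl⟩ := hg'
    rw [mem_centralizer_singleton_iff] at hg
    have hg : s * n * z = z * (s * n) := hg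
    refine mul_mem ?_ hn
    lift s to S using hsS
    rw [mem_normalizer_coe, M.normalizer_Q]
    apply M.mem_B_of_conj hz1
    have h1 : n * z * n⁻¹ ∈ M.Q.map S.subtype := (mem_normalizer_iff.1 hn z).1 (mem_map_coe.2 ⟨_, rfl⟩)
    have h2 : n * z * n⁻¹ = ((s⁻¹ * z * s : S) : G) := by
      rw [Subgroup.coe_mul, Subgroup.coe_mul, Subgroup.coe_inv]
      calc n * z * n⁻¹ = (s : G)⁻¹ * (s * n * z) * n⁻¹ := by group
        _ = (s : G)⁻¹ * z * s := by rw [hg]; group
    rw [h2, mem_map_coe] at h1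
    exact M.Q_le h1
  · rintro _ ⟨x, hx, rfl⟩ h
    refine ⟨x, M.mem_Z_of_sq hx (Subtype.ext h), rfl⟩
  · rw [map_le_map_iff_of_injective hinj]
    exact M.not_Q_le_Z hq hs hF

/-- **The outer theorem.** -/
theorem outer (h4 : 4 ≤ q)
    (heven : ∀ g : G, 2 ∣ orderOf g → orderOf g ∣ 4 ∨ ∃ k, k ∣ (q + 1) / dd q ∧ orderOf g = 2 * k) : S = ⊤ := by
  by_contra hne
  have hi : S.index ≠ 1 := fun h => hne (index_eq_one.1 h)
  obtain ⟨p, hp, hpi⟩ := Nat.exists_prime_and_dvd hi
  have hqo : Odd (q + 1) := (M.even_q hq hF).add_one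
  have hodd : ∀ {k : ℕ}, k ∣ (q + 1) / dd q → Odd k := fun {k} h =>
    Odd.of_dvd_nat hqo (h.trans (Nat.div_dvd_of_dvd (dd_dvd_succ q)))
  by_cases hp2 : p = 2
  · subst hp2
    obtain ⟨g, r, hr, hrq, hr2, hg⟩ := M.outer_case_two S hq hs hF h4 hpi
    rcases heven g (by rw [hg]; exact dvd_mul_right _ _) with h | ⟨k, hk, hk2⟩
    · rw [hg, show 4 = 2 * 2 by norm_num] at h
      have := Nat.dvd_of_mul_dvd_mul_left (by norm_num) h
      exact hr2 ((Nat.prime_dvd_prime_iff_eq hr Nat.prime_two).1 this)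
    · rw [hg] at hk2
      have e : r = k := Nat.eq_of_mul_eq_mul_left (by norm_num) hk2
      rw [← e] at hk
      have h1 : r ∣ q + 1 := hk.trans (Nat.div_dvd_of_dvd (dd_dvd_succ q))
      have h2 := Nat.dvd_sub h1 hrq
      have h3 : q + 1 - (q - 1) = 2 := by omega
      rw [h3] at h2
      exact hr2 ((Nat.prime_dvd_prime_iff_eq hr Nat.prime_two).1 h2)
  · rcases M.outer_case_odd S hq hs hF hp hp2 hpi with ⟨g, hg⟩ | ⟨g, j, hg, hj⟩
    · rcases heven g (by rw [hg]; exact Dvd.intro (2 * p) (by ring)) with h | ⟨k, hk, hk2⟩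
      · rw [hg] at h
        have h1 : 4 * p ∣ 4 * 1 := by simpa using h
        have := Nat.dvd_of_mul_dvd_mul_left (by norm_num) h1
        exact hp.one_lt.ne' (Nat.dvd_one.1 this)
      · rw [hg] at hk2
        have e : k = 2 * p := by omega
        have := hodd hk
        rw [e, ← Nat.not_even_iff_odd] at this
        exact this (even_two_mul p)
    · rcases heven g (by rw [hg]; exact dvd_mul_right _ _) with h | ⟨k, hk, hk2⟩
      · rw [hg, show 4 = 2 * 2 by norm_num] at h
        have h1 := Nat.dvd_of_mul_dvd_mul_left (by norm_num) h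
        have h2 : Nat.Coprime (p ^ j) 2 := Nat.Coprime.pow_left j (by
          rw [Nat.coprime_primes hp Nat.prime_two]; exact hp2)
        have h3 : p ^ j = 1 := Nat.eq_one_of_dvd_coprimes h2 dvd_rfl h1
        apply hj
        rw [h3]
        exact one_dvd _
      · rw [hg] at hk2
        have e : p ^ j = k := Nat.eq_of_mul_eq_mul_left (by norm_num) hk2
        apply hj
        rw [e]
        exact hk

end Mod

end Cfsg.Agent.H372.U3
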