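import Cfsg.Agent.H372.U3Str
import Cfsg.Agent.H375.Reduce
import Cfsg.Agent.S0058
import Cfsg.Agent.CpAut.RankOne

/-!
# Outer automorphisms of a simple group produce new element orders
-/

set_option autoImplicit false
set_option linter.unusedSectionVars false

namespace Cfsg.Agent.H372.U3

open Subgroup Cfsg

section general

variable {G : Type*} [Group G] [Finite G]

/-- The order of the centralizer in a group where `S` is transitive on the class. -/
theorem card_centralizer (S : Subgroup G) [S.Normal] (z : G)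
    (hconj : ∀ g : G, ∃ s ∈ S, g * z * g⁻¹ = s * z * s⁻¹) :
    Nat.card (centralizer ({z} : Set G)) = Nat.card ((centralizer ({z} : Set G)) ⊓ S : Subgroup G) * S.index := by
  have hsup : (centralizer ({z} : Set G)) ⊔ S = ⊤ := by
    rw [eq_top_iff]
    intro g _
    obtain ⟨s, hs, h⟩ := hconj g
    have h1 : s⁻¹ * g ∈ centralizer ({z} : Set G) := by
      rw [mem_centralizer_singleton_iff]
      have h2 : g * z = s * z * s⁻¹ * g := by rw [← h]; group
      calc s⁻¹ * g * z = s⁻¹ * (g * z) := by group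
        _ = z * (s⁻¹ * g) := by rw [h2]; group
    have h2 : g = s * (s⁻¹ * g) := by group
    rw [h2]
    exact mul_mem (le_sup_right (a := centralizer ({z} : Set G)) hs) (le_sup_left (b := S) h1)
  have h1 : S.relIndex (centralizer ({z} : Set G)) = S.index := by
    rw [← relIndex_sup_left, sup_comm, hsup, relIndex_top_right]
  have h2 := (S.subgroupOf (centralizer ({z} : Set G))).card_mul_index
  have h3 : Nat.card (S.subgroupOf (centralizer ({z} : Set G))) =
      Nat.card ((centralizer ({z} : Set G)) ⊓ S : Subgroup G) := by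
    rw [← inf_subgroupOf_right, inf_comm]
    exact Nat.card_congr (subgroupOfEquivOfLe inf_le_left).toEquiv
  rw [← h2, h3]
  congr 1

/-- **Outer automorphisms of odd prime order.** -/
theorem outer_odd (S : Subgroup G) [S.Normal] {p : ℕ} (hp : p.Prime) (hp2 : p ≠ 2) (hidx : p ∣ S.index)
    {z : G} (hz : orderOf z = 2) (hconj : ∀ g : G, ∃ s ∈ S, g * z * g⁻¹ = s * z * s⁻¹)
    (Q Z : Subgroup G) (hQ : IsPGroup 2 Q) (hCQ : centralizer ({z} : Set G) ≤ normalizer (Q : Set G))
    (hZ : ∀ x ∈ Q, x ^ 2 = 1 → x ∈ Z) (hQZ : ¬ Q ≤ Z) :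
    (∃ g : G, orderOf g = 4 * p) ∨ ∃ (g : G) (j : ℕ), orderOf g = 2 * p ^ j ∧
      ¬ p ^ j ∣ Nat.card ((centralizer ({z} : Set G)) ⊓ S : Subgroup G) := by
  have hpf : Fact p.Prime := ⟨hp⟩
  set C := centralizer ({z} : Set G) with hC
  have hcard := card_centralizer S z hconj
  rw [← hC] at hcard
  obtain ⟨A⟩ : Nonempty (Sylow p C) := inferInstance
  have hcopz : Nat.Coprime 2 p := by
    rw [Nat.coprime_primes Nat.prime_two hp]
    exact fun h => hp2 h.symm
  by_cases hcyc : IsCyclic A
  · right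
    obtain ⟨a, ha⟩ := hcyc.exists_generator
    have hord : orderOf a = Nat.card A := orderOf_eq_card_of_forall_mem_zpowers ha
    have hA : Nat.card A = p ^ (Nat.card C).factorization p := A.card_eq_multiplicity
    obtain ⟨v, hv⟩ : ∃ v, v = (Nat.card C).factorization p := ⟨_, rfl⟩
    rw [← hv] at hA
    have hcom : Commute z ((a : C) : G) := by
      have h2 := (a : C).2
      rw [mem_centralizer_singleton_iff] at h2
      exact h2.symm
    have hda : p ^ v ∣ orderOf ((a : C) : G) := by
      rw [← hA, ← hord, Subgroup.orderOf_coe, Subgroup.orderOf_coe]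
    obtain ⟨g, hg⟩ := H375.Reduce.exists_orderOf_mul (a := 2) (b := p ^ v)
      (Nat.Coprime.pow_right _ hcopz) hcom (by rw [hz]) hda
    refine ⟨g, _, hg, ?_⟩
    intro hd
    have h1 : p ^ (v + 1) ∣ Nat.card C := by
      rw [hcard, pow_succ]
      exact mul_dvd_mul hd hidx
    rw [hv] at h1
    exact Nat.pow_succ_factorization_not_dvd Nat.card_pos.ne' hp h1
  · left
    have hAp : IsPGroup p A := A.isPGroup'
    have hr : ¬ PRankLE p 1 A := fun h => hcyc (Cfsg.Agent.CpAut.cyclic_of_rank_one hp2 hAp h)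
    unfold PRankLE at hr
    push Not at hr
    obtain ⟨E, hEc, hEp, hEcard⟩ := hr
    have hEnc : ¬ IsCyclic E := by
      intro hc
      obtain ⟨e, he⟩ := hc.exists_generator
      have h1 : orderOf e = Nat.card E := orderOf_eq_card_of_forall_mem_zpowers he
      have h2 : orderOf e ∣ p := orderOf_dvd_of_pow_eq_one (Subtype.ext (by simpa using hEp e e.2))
      have h3 := Nat.le_of_dvd hp.pos h2
      rw [h1] at h3
      rw [pow_one] at hEcard
      omega
    let f : A →* G := C.subtype.comp (A : Subgroup C).subtype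
    have hf : Function.Injective f := C.subtype_injective.comp (A : Subgroup C).subtype_injective
    let e : E ≃* E.map f := E.equivMapOfInjective f hf
    have hE'c : IsMulCommutative (E.map f) := by
      refine ⟨⟨?_⟩⟩
      intro a b
      obtain ⟨a, rfl⟩ := e.surjective a
      obtain ⟨b, rfl⟩ := e.surjective b
      rw [← map_mul, ← map_mul, hEc.is_comm.comm]
    have hE'nc : ¬ IsCyclic (E.map f) := by
      intro h
      exact hEnc (isCyclic_of_injective e.toMonoidHom e.injective)
    have hE'n : E.map f ≤ normalizer (Q : Set G) := by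
      rintro _ ⟨a, -, rfl⟩
      exact hCQ (a : C).2
    have hcop : (Nat.card (E.map f)).Coprime (Nat.card Q) := by
      obtain ⟨k, hk⟩ := hQ.exists_card_eq
      have h1 : IsPGroup p (E.map f) := by
        rintro ⟨_, ⟨a, ha, rfl⟩⟩
        exact ⟨1, Subtype.ext (by simpa using congrArg f (hEp a ha))⟩
      obtain ⟨l, hl⟩ := h1.exists_card_eq
      rw [hk, hl]
      exact Nat.Coprime.pow _ _ hcopz.symm
    have hgen := Cfsg.Agent.S0058.result (E.map f) Q hE'nc hE'n hcop
    by_contra hcon
    push Not at hcon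
    apply hQZ
    rw [← hgen]
    refine iSup₂_le fun a ha x hx => ?_
    obtain ⟨hxQ, hxa⟩ := mem_inf.1 hx
    rw [mem_centralizer_singleton_iff] at hxa
    apply hZ x hxQ
    by_contra hx2
    have h4 : 4 ∣ orderOf x := by
      obtain ⟨k, hk⟩ := hQ ⟨x, hxQ⟩
      have hk' : x ^ 2 ^ k = 1 := congrArg Subtype.val hk
      obtain ⟨j, -, hj⟩ := (Nat.dvd_prime_pow Nat.prime_two).1 (orderOf_dvd_of_pow_eq_one hk')
      rw [hj]
      rcases Nat.lt_or_ge j 2 with h | h
      · exfalso
        apply hx2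
        rw [← orderOf_dvd_iff_pow_eq_one, hj]
        calc 2 ^ j ∣ 2 ^ 1 := pow_dvd_pow 2 (by omega)
          _ = 2 := by norm_num
      · calc 4 = 2 ^ 2 := by norm_num
          _ ∣ 2 ^ j := pow_dvd_pow 2 h
    have hpa : p ∣ orderOf a := by
      obtain ⟨⟨b, hb, rfl⟩, hb1⟩ := ha
      have : f b ^ p = 1 := by rw [← map_pow, hEp b hb, map_one]
      rw [orderOf_eq_prime this hb1]
    obtain ⟨g, hg⟩ := H375.Reduce.exists_orderOf_mul (a := 4) (b := p)
      (by rw [show (4 : ℕ) = 2 ^ 2 by norm_num]; exact Nat.Coprime.pow_left 2 hcopz) (x := x) (y := a) hxa h4 hpa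
    exact hcon g hg

/-- In a cyclic group the elements of order dividing `r` lie in a subgroup of order `r`. -/
theorem mem_zpowers_of_cyclic {K : Type*} [Group K] [Finite K] [IsCyclic K] {r : ℕ} (hr : 0 < r) {c y : K}
    (hc : orderOf c = r) (hy : y ^ r = 1) : y ∈ zpowers c := by
  classical
  let _ : Fintype K := Fintype.ofFinite K
  have h1 := IsCyclic.card_pow_eq_one_le (α := K) hr
  have h2 : (Finset.univ.filter fun a : K => a ∈ zpowers c) ⊆ Finset.univ.filter fun a : K => a ^ r = 1 := by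
    intro a ha
    rw [Finset.mem_filter] at ha ⊢
    refine ⟨Finset.mem_univ _, ?_⟩
    obtain ⟨k, rfl⟩ := mem_zpowers_iff.1 ha.2
    rw [← zpow_natCast, ← zpow_mul, mul_comm, zpow_mul, zpow_natCast, ← hc, pow_orderOf_eq_one, one_zpow]
  have h3 : (Finset.univ.filter fun a : K => a ∈ zpowers c).card = r := by
    rw [← hc, ← Nat.card_zpowers, Nat.card_eq_fintype_card, Fintype.card_subtype]
  have h4 := Finset.eq_of_subset_of_card_le h2 (by rw [h3]; exact h1)
  have h5 : y ∈ Finset.univ.filter fun a : K => a ^ r = 1 := by simp [hy]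
  rw [← h4, Finset.mem_filter] at h5
  exact h5.2

theorem card_mul_relIndex' {R B : Subgroup G} (h : R ≤ B) : Nat.card R * R.relIndex B = Nat.card B := by
  rw [← (R.subgroupOf B).card_mul_index, Nat.card_congr (subgroupOfEquivOfLe h).toEquiv]
  rfl

/-- Conjugacy of full `r`-subgroups of a subgroup `B`. -/
theorem exists_conj_of_full {r : ℕ} [hr : Fact r.Prime] (B R R' : Subgroup G) (hRB : R ≤ B) (hRB' : R' ≤ B)
    (hR : IsPGroup r R) (hR' : IsPGroup r R') (hc : Nat.card R = Nat.card R') (hfull : ¬ r ∣ R.relIndex B) :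
    ∃ b ∈ B, R' = R.map (MulAut.conj b).toMonoidHom := by
  have h1 : IsPGroup r (R.subgroupOf B) := hR.of_equiv (subgroupOfEquivOfLe hRB).symm
  have h2 : IsPGroup r (R'.subgroupOf B) := hR'.of_equiv (subgroupOfEquivOfLe hRB').symm
  have e1 : R.relIndex B = R'.relIndex B := by
    have a1 := card_mul_relIndex' hRB
    have a2 := card_mul_relIndex' hRB'
    rw [← hc, ← a1] at a2
    exact (Nat.eq_of_mul_eq_mul_left Nat.card_pos a2).symm
  let P1 : Sylow r B := h1.toSylow hfull
  let P2 : Sylow r B := h2.toSylow (by rw [e1] at hfull; exact hfull)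
  obtain ⟨b, hb⟩ := MulAction.exists_smul_eq B P1 P2
  refine ⟨b, b.2, ?_⟩
  have h3 : (R'.subgroupOf B : Subgroup B) = (R.subgroupOf B).map (MulAut.conj b).toMonoidHom := by
    have := congrArg (fun P : Sylow r B => (P : Subgroup B)) hb
    exact this.symm
  have h4 := congrArg (Subgroup.map B.subtype) h3
  rw [map_subgroupOf_eq_of_le hRB', map_map] at h4
  rw [h4]
  have h5 : B.subtype.comp (MulAut.conj b).toMonoidHom = (MulAut.conj (b : G)).toMonoidHom.comp B.subtype := by
    ext x
    simp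
  rw [h5, ← map_map, map_subgroupOf_eq_of_le hRB]

/-- **Outer automorphisms of order two.** -/
theorem outer_two (S : Subgroup G) [S.Normal] (hidx : 2 ∣ S.index) {r : ℕ} (hr : r.Prime) (hr2 : r ≠ 2)
    (P : Sylow 2 S) (R : Subgroup G) (hRS : R ≤ S) (hR : IsPGroup r R) (hcyc : IsCyclic R) (hR1 : R ≠ ⊥)
    (hfull : ¬ r ∣ R.relIndex S)
    (hRP : R ≤ normalizer (((P : Subgroup S).map S.subtype : Subgroup G) : Set G))
    (hodd : Odd (Nat.card ((normalizer (((P : Subgroup S).map S.subtype : Subgroup G) : Set G)) ⊓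
      normalizer (R : Set G) ⊓ S : Subgroup G)))
    (w : G) (hw : w ∈ S) (hwR : ∀ c ∈ R, w * c * w⁻¹ = c⁻¹) :
    ∃ g : G, orderOf g = 2 * r := by
  have hrf : Fact r.Prime := ⟨hr⟩
  set N := normalizer (((P : Subgroup S).map S.subtype : Subgroup G) : Set G) with hN
  have hfr : N ⊔ S = ⊤ := Sylow.normalizer_sup_eq_top P
  set D := N ⊓ normalizer (R : Set G) with hD
  have hDS : D ⊔ S = ⊤ := by
    rw [eq_top_iff, ← hfr]
    refine sup_le ?_ le_sup_right
    intro n hn
    -- conjugate of `R` in `N ⊓ S`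
    have hR'B : R.map (MulAut.conj n).toMonoidHom ≤ N ⊓ S := by
      rintro _ ⟨c, hc, rfl⟩
      exact ⟨N.mul_mem (N.mul_mem hn (hRP hc)) (N.inv_mem hn), (inferInstance : S.Normal).conj_mem c (hRS hc) n⟩
    have hRB : R ≤ N ⊓ S := le_inf hRP hRS
    have hinj : Function.Injective (MulAut.conj n).toMonoidHom := (MulAut.conj n).injective
    obtain ⟨b, hb, hbR⟩ := exists_conj_of_full (r := r) (N ⊓ S) R (R.map (MulAut.conj n).toMonoidHom) hRB hR'B hR
      (hR.map _) (Nat.card_congr (R.equivMapOfInjective _ hinj).toEquiv) (by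
        intro h
        apply hfull
        exact h.trans (Dvd.intro _ (relIndex_mul_relIndex _ _ _ hRB inf_le_right)))
    have hd : b⁻¹ * n ∈ D := by
      refine ⟨N.mul_mem (N.inv_mem hb.1) hn, ?_⟩
      show b⁻¹ * n ∈ normalizer (R : Set G)
      apply mem_normalizer_fintype
      intro c hc
      have h1 : n * c * n⁻¹ ∈ R.map (MulAut.conj n).toMonoidHom := ⟨c, hc, rfl⟩
      rw [hbR] at h1
      obtain ⟨c', hc', h2⟩ := h1
      have h3 : b * c' * b⁻¹ = n * c * n⁻¹ := h2
      have h4 : b⁻¹ * n * c * (b⁻¹ * n)⁻¹ = b⁻¹ * (n * c * n⁻¹) * b := by group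
      rw [h4, ← h3]
      have h5 : b⁻¹ * (b * c' * b⁻¹) * b = c' := by group
      rw [h5]
      exact hc'
    have h2 : n = b * (b⁻¹ * n) := by group
    rw [h2]
    exact mul_mem (le_sup_right (a := D) hb.2) (le_sup_left (b := S) hd)
  -- an involution outside `S`
  have hcard : Nat.card D = Nat.card (D ⊓ S : Subgroup G) * S.index := by
    have h1 : S.relIndex D = S.index := by
      rw [← relIndex_sup_left, sup_comm, hDS, relIndex_top_right]
    have h2 := (S.subgroupOf D).card_mul_index
    have h3 : Nat.card (S.subgroupOf D) = Nat.card (D ⊓ S : Subgroup G) := by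
      rw [← inf_subgroupOf_right, inf_comm]
      exact Nat.card_congr (subgroupOfEquivOfLe inf_le_left).toEquiv
    rw [← h2, h3]
    congr 1
  have h2D : 2 ∣ Nat.card D := by rw [hcard]; exact hidx.mul_left _
  obtain ⟨x, hx⟩ := exists_prime_orderOf_dvd_card' 2 h2D
  have hx' : orderOf (x : G) = 2 := by rw [Subgroup.orderOf_coe, hx]
  have hxS : (x : G) ∉ S := by
    intro hxS
    have h1 : orderOf (x : G) ∣ Nat.card (D ⊓ S : Subgroup G) := Subgroup.orderOf_dvd_natCard _ ⟨x.2, hxS⟩
    rw [hx'] at h1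
    rw [← Nat.not_even_iff_odd] at hodd
    exact hodd (even_iff_two_dvd.2 h1)
  have hxx : (x : G) * x = 1 := by rw [← pow_two, ← hx', pow_orderOf_eq_one]
  -- an element of order `r`
  have hrR : r ∣ Nat.card R := by
    obtain ⟨k, hk⟩ := hR.exists_card_eq
    have hk0 : k ≠ 0 := by
      rintro rfl
      rw [pow_zero] at hk
      exact hR1 (eq_bot_of_card_eq R hk)
    rw [hk]
    exact dvd_pow_self r hk0
  obtain ⟨c, hc⟩ := exists_prime_orderOf_dvd_card' r hrR
  have hcG : orderOf (c : G) = r := by rw [Subgroup.orderOf_coe, hc]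
  have hxc : (x : G) * c * (x : G)⁻¹ ∈ R := ((mem_normalizer_iff.1 x.2.2) c).1 c.2
  have hmem : (⟨(x : G) * c * (x : G)⁻¹, hxc⟩ : R) ∈ zpowers c := by
    apply mem_zpowers_of_cyclic hr.pos hc
    apply Subtype.ext
    show ((x : G) * c * (x : G)⁻¹) ^ r = 1
    rw [conj_pow, ← hcG, pow_orderOf_eq_one]
    group
  obtain ⟨j, hj⟩ := mem_zpowers_iff.1 hmem
  have hj' : (c : G) ^ j = (x : G) * c * (x : G)⁻¹ := congrArg Subtype.val hj
  have hjj : (c : G) ^ (j * j) = c := by
    rw [zpow_mul, hj', conj_zpow, hj']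
    calc (x : G) * ((x : G) * c * (x : G)⁻¹) * (x : G)⁻¹ = (x * x : G) * c * (x * x : G)⁻¹ := by group
      _ = c := by rw [hxx]; group
  have hdvd : (r : ℤ) ∣ (j - 1) * (j + 1) := by
    have h1 : (c : G) ^ (j * j - 1) = 1 := by
      rw [zpow_sub, hjj, zpow_one, mul_inv_cancel]
    have h2 := orderOf_dvd_iff_zpow_eq_one.2 h1
    rw [hcG] at h2
    have h3 : (j - 1) * (j + 1) = j * j - 1 := by ring
    rw [h3]
    exact h2
  have hcop : Nat.Coprime 2 r := by
    rw [Nat.coprime_primes Nat.prime_two hr]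
    exact fun h => hr2 h.symm
  rcases (Int.Prime.dvd_mul' hr hdvd) with h | h
  · -- `x` centralizes `c`
    have h1 : (c : G) ^ (j - 1) = 1 := by
      rw [← orderOf_dvd_iff_zpow_eq_one, hcG]
      exact h
    have h2 : (x : G) * c * (x : G)⁻¹ = c := by
      rw [← hj']
      calc (c : G) ^ j = c ^ (j - 1) * c := by rw [← zpow_add_one]; congr 1; ring
        _ = c := by rw [h1, one_mul]
    have h3 : Commute (x : G) c := by
      show (x : G) * c = c * x
      calc (x : G) * c = (x : G) * c * (x : G)⁻¹ * x := by group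
        _ = c * x := by rw [h2]
    exact H375.Reduce.exists_orderOf_mul hcop h3 (by rw [hx']) (by rw [hcG])
  · -- `x` inverts `c`
    have h1 : (c : G) ^ (j + 1) = 1 := by
      rw [← orderOf_dvd_iff_zpow_eq_one, hcG]
      exact h
    have h2 : (x : G) * c * (x : G)⁻¹ = (c : G)⁻¹ := by
      rw [← hj']
      calc (c : G) ^ j = c ^ (j + 1) * (c : G)⁻¹ := by rw [← zpow_sub_one]; congr 1; ring
        _ = (c : G)⁻¹ := by rw [h1, one_mul]
    have hwc := hwR c c.2
    have h3 : Commute ((x : G) * w) c := by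
      show (x : G) * w * c = c * (x * w)
      calc (x : G) * w * c = (x : G) * (w * c * w⁻¹) * w := by group
        _ = ((x : G) * c * (x : G)⁻¹)⁻¹ * (x * w) := by rw [hwc]; group
        _ = c * (x * w) := by rw [h2, inv_inv]
    have h4 : 2 ∣ orderOf ((x : G) * w) := by
      have h5 : orderOf (QuotientGroup.mk' S ((x : G) * w)) = 2 := by
        have e1 : QuotientGroup.mk' S ((x : G) * w) = QuotientGroup.mk' S (x : G) := by
          rw [map_mul, (QuotientGroup.eq_one_iff w).2 hw |> (fun h : QuotientGroup.mk' S w = 1 => h), mul_one]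
        rw [e1]
        apply orderOf_eq_prime
        · rw [← map_pow, pow_two, hxx, map_one]
        · intro h
          exact hxS ((QuotientGroup.eq_one_iff (x : G)).1 h)
      rw [← h5]
      exact orderOf_map_dvd _ _
    exact H375.Reduce.exists_orderOf_mul hcop h3 h4 (by rw [hcG])

end general

end Cfsg.Agent.H372.U3
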