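import Cfsg.Agent.H372.U3Ar2
import Cfsg.Agent.H375.Reduce
import Cfsg.Agent.S3633
import Cfsg.Agent.S4008
import Cfsg.Agent.S0205
import Cfsg.Agent.SignalizersComponents.ComponentExists

/-!
# Reduction to almost simple groups
-/

set_option autoImplicit false
set_option linter.unusedSectionVars false

namespace Cfsg.Agent.H372.U3

open Subgroup

/-- **Frattini.** An odd prime `p` not adjacent to `2` dividing `|M : S|` divides `2^v - 1`, where `2^v` is the `2`-part
of `|S|`. -/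
theorem dvd_two_pow_sub_one {M : Type*} [Group M] [Finite M] (S : Subgroup M) [S.Normal] {p : ℕ} (hp : p.Prime)
    (hp2 : p ≠ 2) (h2p : ∀ g : M, orderOf g ≠ 2 * p) (hd : p ∣ S.index) {v : ℕ} (hv : 2 ^ v ∣ Nat.card S)
    (hv' : ¬ 2 ^ (v + 1) ∣ Nat.card S) : p ∣ 2 ^ v - 1 := by
  classical
  have hpf : Fact p.Prime := ⟨hp⟩
  have h2f : Fact (Nat.Prime 2) := ⟨Nat.prime_two⟩
  obtain ⟨P⟩ : Nonempty (Sylow 2 S) := inferInstance
  have hPc : Nat.card P = 2 ^ v := by
    rw [P.card_eq_multiplicity]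
    congr 1
    have h1 : 2 ^ (Nat.card S).factorization 2 ∣ Nat.card S := Nat.ordProj_dvd _ _
    have h2 : ¬ 2 ^ ((Nat.card S).factorization 2 + 1) ∣ Nat.card S :=
      Nat.pow_succ_factorization_not_dvd Nat.card_pos.ne' Nat.prime_two
    by_contra hne
    rcases Nat.lt_or_gt_of_ne hne with h | h
    · exact h2 ((pow_dvd_pow 2 (by omega)).trans hv)
    · exact hv' ((pow_dvd_pow 2 (by omega)).trans h1)
  set P' : Subgroup M := (P : Subgroup S).map S.subtype with hP'
  have hinj : Function.Injective S.subtype := S.subtype_injective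
  have hP'c : Nat.card P' = 2 ^ v := by
    rw [hP', card_map_of_injective hinj]
    exact hPc
  set N := normalizer (P' : Set M) with hN
  have hfr : N ⊔ S = ⊤ := Sylow.normalizer_sup_eq_top P
  have hcard : Nat.card N = Nat.card (N ⊓ S : Subgroup M) * S.index := by
    have h1 : S.relIndex N = S.index := by
      rw [← relIndex_sup_left, sup_comm, hfr, relIndex_top_right]
    have h2 := (S.subgroupOf N).card_mul_index
    have h3 : Nat.card (S.subgroupOf N) = Nat.card (N ⊓ S : Subgroup M) := by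
      rw [← inf_subgroupOf_right, inf_comm]
      exact Nat.card_congr (subgroupOfEquivOfLe inf_le_left).toEquiv
    rw [← h2, h3]
    congr 1
  obtain ⟨g, hg⟩ := exists_prime_orderOf_dvd_card' (G := N) p (by rw [hcard]; exact hd.mul_left _)
  have hgM : orderOf (g : M) = p := by rw [Subgroup.orderOf_coe, hg]
  have hconj : ∀ x : P', (g : M) * x * (g : M)⁻¹ ∈ P' := fun x => (mem_normalizer_iff.1 g.2 x).1 x.2
  let f : Function.End P' := fun x => ⟨(g : M) * x * (g : M)⁻¹, hconj x⟩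
  have hfn : ∀ (n : ℕ) (x : P'), (((f ^ n) x : P') : M) = (g : M) ^ n * x * ((g : M) ^ n)⁻¹ := by
    intro n
    induction n with
    | zero =>
      intro x
      rw [pow_zero, pow_zero, one_mul, inv_one, mul_one]
      rfl
    | succ n ih =>
      intro x
      rw [pow_succ]
      change (((f ^ n) (f x) : P') : M) = _
      rw [ih]
      change (g : M) ^ n * ((g : M) * x * (g : M)⁻¹) * ((g : M) ^ n)⁻¹ = _
      rw [pow_succ]
      group
  have hfp : f ^ p ^ 1 = 1 := by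
    rw [pow_one]
    funext x
    apply Subtype.ext
    rw [hfn, ← hgM, pow_orderOf_eq_one]
    change 1 * (x : M) * 1⁻¹ = x
    group
  let _ : Fintype P' := Fintype.ofFinite P'
  have key := Equiv.Perm.card_fixedPoints_modEq hfp
  have hcop : Nat.Coprime 2 p := by
    rw [Nat.coprime_primes Nat.prime_two hp]
    exact fun h => hp2 h.symm
  have hPg : IsPGroup 2 P' := IsPGroup.map P.isPGroup' _
  have hfix : Fintype.card f.fixedPoints = 1 := by
    rw [Fintype.card_eq_one_iff]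
    refine ⟨⟨1, Subtype.ext (by change (g : M) * 1 * (g : M)⁻¹ = 1; group)⟩, ?_⟩
    rintro ⟨x, hx⟩
    apply Subtype.ext
    by_contra hx1
    have hx' : (g : M) * x * (g : M)⁻¹ = x := congrArg Subtype.val hx
    have hc : Commute (x : M) (g : M) := by
      show (x : M) * g = g * x
      calc (x : M) * g = (g : M) * x * (g : M)⁻¹ * g := by rw [hx']
        _ = g * x := by group
    have h2 : 2 ∣ orderOf (x : M) := by
      obtain ⟨k, hk⟩ := hPg x
      have h3 := orderOf_dvd_of_pow_eq_one hk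
      rw [Subgroup.orderOf_coe]
      obtain ⟨j, -, hj⟩ := (Nat.dvd_prime_pow Nat.prime_two).1 h3
      have hj0 : j ≠ 0 := by
        rintro rfl
        rw [pow_zero, orderOf_eq_one_iff] at hj
        exact hx1 hj
      rw [hj]
      exact dvd_pow_self 2 hj0
    obtain ⟨y, hy⟩ := H375.Reduce.exists_orderOf_mul hcop hc h2 (by rw [hgM])
    exact h2p y hy
  rw [hfix, ← Nat.card_eq_fintype_card, hP'c] at key
  exact (Nat.modEq_iff_dvd' Nat.one_le_two_pow).1 key.symm

/-- The properties of the simple section. -/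
structure Ctx (m : ℕ) (S : Type*) [Group S] : Prop where
  om : ∀ s : S, Om (2 ^ m) (orderOf s)
  one : (∀ s t : S, orderOf s = 2 → orderOf t = 2 → ∃ c, c * s * c⁻¹ = t) → ∃ s : S, orderOf s = nn (2 ^ m)
  two : ∀ v, 2 ^ v ∣ Nat.card S → ¬ 2 ^ (v + 1) ∣ Nat.card S → (6 ∣ v → (2 ∣ m → 4 ∣ v) → (3 ∣ m → 9 ∣ v) → False) →
    ∃ s : S, orderOf s = nn (2 ^ m)

theorem two_mul_prime {m p : ℕ} (hm : 2 ≤ m) (hp : p.Prime) (hpn : p ∣ nn (2 ^ m)) : ¬ Om (2 ^ m) (2 * p) := by
  have hq : 1 ≤ 2 ^ m := Nat.one_le_two_pow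
  intro h
  have h2 := (dvd_mul_right 2 p).trans (om_prime hq h hp hpn (dvd_mul_left _ _))
  have h3 := nn_odd hq
  rw [← Nat.not_even_iff_odd] at h3
  exact h3 (even_iff_two_dvd.2 h2)

theorem two_mul_prime' {m p : ℕ} (hm : 2 ≤ m) (hp : p.Prime) (hpn : p ∣ 2 ^ m - 1) (hp2 : p ≠ 2) :
    ¬ Om (2 ^ m) (2 * p) := by
  intro h
  rcases om_even' hm h with h | h
  · exact hp2 ((Nat.prime_dvd_prime_iff_eq hp Nat.prime_two).1 h)
  · have h1 : p ∣ 2 ^ m + 1 := h.trans (Nat.div_dvd_of_dvd (dd_dvd_succ _))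
    have h2 := Nat.dvd_sub h1 hpn
    have h3 : 2 ^ m + 1 - (2 ^ m - 1) = 2 := by
      have := two_pow_ge hm
      omega
    rw [h3] at h2
    exact hp2 ((Nat.prime_dvd_prime_iff_eq hp Nat.prime_two).1 h2)

/-- **The reduction.** -/
theorem reduce {G : Type*} [Group G] [Finite G] {m : ℕ} (hm : 2 ≤ m) (h1 : ∀ g : G, Om (2 ^ m) (orderOf g))
    (h2 : ∀ n, Om (2 ^ m) n → ∃ g : G, orderOf g = n) :
    ∃ (K : Subgroup G) (_ : K.Normal) (S : Subgroup (G ⧸ K)) (_ : S.Normal), Group.IsSolvable K ∧ IsSimpleGroup S ∧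
      ¬ IsMulCommutative S ∧ Subgroup.centralizer (S : Set (G ⧸ K)) = ⊥ ∧ Ctx m S := by
  have hq : 1 ≤ 2 ^ m := Nat.one_le_two_pow
  have hq4 := two_pow_ge hm
  have he := even_q' hm
  have hn := nn_gt hm
  -- the primes
  obtain ⟨p₀, hp₀, hpn₀⟩ := Nat.exists_prime_and_dvd (show nn (2 ^ m) ≠ 1 by omega)
  obtain ⟨r, hr, hrq⟩ := Nat.exists_prime_and_dvd (show 2 ^ m - 1 ≠ 1 by omega)
  have hr2 : r ≠ 2 := by
    rintro rfl
    have h3 := Nat.dvd_sub (even_iff_two_dvd.1 he) hrq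
    have h4 : 2 ^ m - (2 ^ m - 1) = 1 := by omega
    rw [h4] at h3
    omega
  have hp₀2 : p₀ ≠ 2 := prime_ne_two hq hp₀ hpn₀
  have hpr : p₀ ≠ r := by
    rintro rfl
    exact not_dvd_of_coprime hq hp₀ hpn₀ (nn_coprime_pred hq) hrq
  -- divisibility of the order
  have hdvd : ∀ n, Om (2 ^ m) n → n ∣ Nat.card G := by
    intro n hn
    obtain ⟨g, hg⟩ := h2 n hn
    rw [← hg]
    exact orderOf_dvd_natCard g
  have hom_nn : Om (2 ^ m) (nn (2 ^ m)) := Or.inr (Or.inr (Or.inr (Or.inl dvd_rfl)))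
  have hom_four : Om (2 ^ m) 4 := Or.inr (Or.inr (Or.inr (Or.inr dvd_rfl)))
  have hom_r : Om (2 ^ m) r := by
    right; right; left
    have e1 : (2 ^ m) ^ 2 - 1 = (2 ^ m - 1) * (2 ^ m + 1) := by
      obtain ⟨t, ht, -, e⟩ := sq_eq hq
      rw [e, ht]
      rfl
    rw [e1, Nat.mul_div_assoc _ (dd_dvd_succ _)]
    exact hrq.mul_right _
  have hrp : ¬ Om (2 ^ m) (r * p₀) := by
    intro h
    have h3 := (dvd_mul_right r p₀).trans (om_prime hq h hp₀ hpn₀ (dvd_mul_left _ _))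
    exact not_dvd_of_coprime hq hr h3 (nn_coprime_pred hq) hrq
  have h2r := two_mul_prime' hm hr hrq hr2
  have h2p : ∀ p : ℕ, p.Prime → p ∣ nn (2 ^ m) → ∀ g : G, orderOf g ≠ 2 * p := by
    intro p hp hpn g hg
    apply two_mul_prime hm hp hpn
    rw [← hg]
    exact h1 g
  -- the radical
  obtain ⟨K, hKc, hKs, hKmax⟩ := SignalizersComponents.ComponentExists.exists_solvableRadical G
  have hKn : K.Normal := inferInstance
  have h2dvd : 2 ∣ Nat.card G := (by norm_num : 2 ∣ 4).trans (hdvd 4 hom_four)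
  -- the coclique
  have hco : ∀ p : ℕ, p.Prime → p ∣ nn (2 ^ m) →
      (∀ r' ∈ ({2, r, p} : Finset ℕ), ∀ s ∈ ({2, r, p} : Finset ℕ), r' ∣ Nat.card K → s ∣ Nat.card K → r' = s) ∧
        ¬ Group.IsSolvable G := by
    intro p hp hpn
    have hp2 : p ≠ 2 := prime_ne_two hq hp hpn
    have hpr : p ≠ r := by
      rintro rfl
      exact not_dvd_of_coprime hq hp hpn (nn_coprime_pred hq) hrq
    have hrp : ¬ Om (2 ^ m) (r * p) := by
      intro h
      have h3 := (dvd_mul_right r p).trans (om_prime hq h hp hpn (dvd_mul_left _ _))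
      exact not_dvd_of_coprime hq hr h3 (nn_coprime_pred hq) hrq
    have h2p' := two_mul_prime hm hp hpn
    apply S3633.result ({2, r, p} : Finset ℕ) ?_ ⟨?_, ?_⟩ K hKs
    · rw [Finset.card_insert_of_notMem (by
          simp only [Finset.mem_insert, Finset.mem_singleton, not_or]
          exact ⟨fun h => hr2 h.symm, fun h => hp2 h.symm⟩),
        Finset.card_pair (fun h => hpr h.symm)]
    · intro r' hr'
      simp only [Finset.mem_insert, Finset.mem_singleton] at hr'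
      rcases hr' with rfl | rfl | rfl
      · exact ⟨Nat.prime_two, h2dvd⟩
      · exact ⟨hr, hdvd _ hom_r⟩
      · exact ⟨hp, hpn.trans (hdvd _ hom_nn)⟩
    · have aux : ∀ a b : ℕ, ¬ Om (2 ^ m) (a * b) → ¬ ∃ x : G, orderOf x = a * b := by
        rintro a b h ⟨x, hx⟩
        exact h (hx ▸ h1 x)
      intro r' hr' s hs hne
      simp only [Finset.mem_insert, Finset.mem_singleton] at hr' hs
      rcases hr' with rfl | rfl | rfl <;> rcases hs with rfl | rfl | rfl
      · exact absurd rfl hne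
      · exact aux _ _ h2r
      · exact aux _ _ h2p'
      · exact aux _ _ (by rw [mul_comm]; exact h2r)
      · exact absurd rfl hne
      · exact aux _ _ hrp
      · exact aux _ _ (by rw [mul_comm]; exact h2p')
      · exact aux _ _ (by rw [mul_comm]; exact hrp)
      · exact absurd rfl hne
  have hns := (hco p₀ hp₀ hpn₀).2
  obtain ⟨S, hSn, hSs, hSna, hSc⟩ := S4008.result hns (even_iff_two_dvd.2 h2dvd) p₀ hp₀ hp₀2
    (hpn₀.trans (hdvd _ hom_nn)) (h2p p₀ hp₀ hpn₀) K hKs (fun N hN hNs => hKmax N hN hNs)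
  refine ⟨K, hKn, S, hSn, hKs, hSs, hSna, hSc, ?_⟩
  have h2S : 2 ∣ Nat.card S := by
    by_contra h
    have h3 : Group.IsSolvable S := S0205.result (Nat.not_even_iff_odd.1 (fun h' => h (even_iff_two_dvd.1 h')))
    exact hSna ⟨⟨fun a b => hSs.comm_iff_isSolvable.2 h3 a b⟩⟩
  -- primes dividing `nn` do not divide `|K|`
  have hK : ∀ p : ℕ, p.Prime → p ∣ nn (2 ^ m) → ¬ p ∣ Nat.card K := by
    intro p hp hpn hpK
    have hp2 : p ≠ 2 := prime_ne_two hq hp hpn
    have hodd : ¬ 2 ∣ Nat.card K := by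
      intro h
      exact hp2 ((hco p hp hpn).1 p (by simp) 2 (by simp) hpK h)
    exact H375.Reduce.not_dvd_card hp hp2 (h2p p hp hpn) K hKs hodd S hSs hSna h2S hpK
  -- elements of `S`
  have hom : ∀ s : S, Om (2 ^ m) (orderOf s) := by
    intro s
    obtain ⟨g, hg⟩ := H375.Reduce.exists_orderOf_of_sub K S s
    rw [← hg]
    exact h1 g
  have homM : ∀ g : G ⧸ K, Om (2 ^ m) (orderOf g) := by
    intro g
    obtain ⟨x, hx⟩ := H375.Cover.exists_orderOf_of_surj (QuotientGroup.mk' K) (QuotientGroup.mk'_surjective K) g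
    rw [← hx]
    exact h1 x
  have h2pM : ∀ p : ℕ, p.Prime → p ∣ nn (2 ^ m) → ∀ g : G ⧸ K, orderOf g ≠ 2 * p := by
    intro p hp hpn g hg
    apply two_mul_prime hm hp hpn
    rw [← hg]
    exact homM g
  -- conclusion
  have concl : (∀ p : ℕ, p.Prime → p ∣ nn (2 ^ m) → ¬ p ∣ S.index) → ∃ s : S, orderOf s = nn (2 ^ m) := by
    intro hidx
    obtain ⟨g, hg⟩ := h2 _ hom_nn
    obtain ⟨s, hs⟩ := H375.Reduce.exists_mem_orderOf K S g (by
      rw [hg]
      exact Nat.coprime_of_dvd fun p hp h3 h4 => hK p hp h3 h4) (by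
      rw [hg]
      exact Nat.coprime_of_dvd fun p hp h3 h4 => hidx p hp h3 h4)
    exact ⟨s, hs.trans hg⟩
  refine ⟨hom, fun hone => concl fun p hp hpn => ?_, fun v hv hv' hnum => concl fun p hp hpn hd => ?_⟩
  · have hp2 : p ≠ 2 := prime_ne_two hq hp hpn
    have h2f : Fact (Nat.Prime 2) := ⟨Nat.prime_two⟩
    obtain ⟨t, ht⟩ := exists_prime_orderOf_dvd_card' (G := S) 2 h2S
    apply H375.Reduce.not_dvd_index S hp hp2 (h2pM p hp hpn)
    intro g _
    have hmem : g * (t : G ⧸ K) * g⁻¹ ∈ S := hSn.conj_mem t t.2 g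
    have ho : orderOf (⟨g * (t : G ⧸ K) * g⁻¹, hmem⟩ : S) = 2 := by
      rw [← Subgroup.orderOf_coe]
      show orderOf (g * (t : G ⧸ K) * g⁻¹) = 2
      have := (MulAut.conj g).orderOf_eq (t : G ⧸ K)
      rw [MulAut.conj_apply] at this
      rw [this, Subgroup.orderOf_coe, ht]
    obtain ⟨c, hc⟩ := hone t _ ht ho
    refine ⟨t, t.2, by rw [Subgroup.orderOf_coe, ht], c, c.2, ?_⟩
    exact (congrArg Subtype.val hc).symm
  · have hp2 : p ≠ 2 := prime_ne_two hq hp hpn
    have h3 := dvd_two_pow_sub_one S hp hp2 (h2pM p hp hpn) hd hv hv'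
    obtain ⟨h4, h5, h6⟩ := dvd_of_dvd_two_pow_sub_one hp hpn h3
    exact hnum h4 h5 h6

end Cfsg.Agent.H372.U3
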